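import Mathlib.RingTheory.Ideal.KrullsHeightTheorem
import Mathlib.RingTheory.IntegralClosure.IntegrallyClosed
import Mathlib.RingTheory.IntegralClosure.Algebra.Basic
import Mathlib.RingTheory.Ideal.AssociatedPrime.Basic

/-!
# A normal Noetherian domain is the intersection of its localizations at height one primes
-/

universe u v

namespace Groth.Agent.Lib.RefHull.NormalAlg

variable {R : Type u} [CommRing R] [IsDomain R] [IsNoetherianRing R] [IsIntegrallyClosed R]
variable {K : Type v} [Field K] [Algebra R K] [IsFractionRing R K]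

theorem height_eq_one_of_colon {b c : R} (hb : b ≠ 0) (hc : ¬ b ∣ c) (p : Ideal R) [p.IsPrime]
    (hp : ∀ t, t ∈ p ↔ b ∣ c * t) : p.height = 1 := by
  have hbp : b ∈ p := (hp b).mpr (dvd_mul_left b c)
  have hne : p ≠ ⊥ := fun h => hb (by rwa [h, Ideal.mem_bot] at hbp)
  obtain ⟨t, ht, t', ht', hnot⟩ : ∃ t ∈ p, ∃ t', c * t = b * t' ∧ t' ∉ p := by
    by_contra hcon
    push Not at hcon
    let K₀ := FractionRing R
    let z : K₀ := algebraMap R K₀ c / algebraMap R K₀ b
    have hb0 : algebraMap R K₀ b ≠ 0 :=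
      fun h => hb (IsFractionRing.injective R K₀ (h.trans (map_zero _).symm))
    let N : Submodule R K₀ := Submodule.map (Algebra.linearMap R K₀) p
    have hN : N ≠ ⊥ := fun h => by
      have hmem : algebraMap R K₀ b ∈ N := Submodule.mem_map_of_mem hbp
      rw [h, Submodule.mem_bot] at hmem
      exact hb0 hmem
    have hint : IsIntegral R z := by
      refine isIntegral_of_smul_mem_submodule N hN
        (Submodule.FG.map _ (IsNoetherian.noetherian p)) z fun m hm => ?_
      obtain ⟨t, ht, rfl⟩ := hm
      obtain ⟨t', e⟩ := (hp t).mp ht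
      refine ⟨t', hcon t ht t' e, ?_⟩
      rw [Algebra.linearMap_apply, Algebra.linearMap_apply, smul_eq_mul, div_mul_eq_mul_div,
        eq_div_iff hb0, ← map_mul, ← map_mul, e, mul_comm]
    obtain ⟨w, hw⟩ := IsIntegrallyClosed.isIntegral_iff.mp hint
    refine hc ⟨w, IsFractionRing.injective R K₀ ?_⟩
    rw [map_mul, hw, mul_div_cancel₀ _ hb0]
  have hmin : p ∈ (Ideal.span {t}).minimalPrimes := by
    refine ⟨⟨‹_›, by rwa [Ideal.span_le, Set.singleton_subset_iff]⟩, fun q ⟨hq, htq⟩ hqp s hs => ?_⟩
    obtain ⟨s', hs'⟩ := (hp s).mp hs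
    have e : s * t' = t * s' := mul_left_cancel₀ hb (by
      linear_combination s * (-ht') + t * hs')
    refine ((hq.mem_or_mem (x := s) (y := t') ?_).resolve_right fun h => hnot (hqp h))
    rw [e]
    exact q.mul_mem_right _ (htq (Ideal.subset_span rfl))
  refine le_antisymm (Ideal.height_le_one_of_isPrincipal_of_mem_minimalPrimes _ p hmin) ?_
  rw [Order.one_le_iff_pos, pos_iff_ne_zero, Ne, Ideal.height_eq_zero_iff_eq_bot]
  exact hne

/-- An element of the fraction field lying in all localizations at height one primes is integral. -/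
theorem mem_range_of_forall_height_one (x : K)
    (h : ∀ p : Ideal R, p.IsPrime → p.height = 1 →
      ∃ a s : R, s ∉ p ∧ algebraMap R K s * x = algebraMap R K a) :
    ∃ a, algebraMap R K a = x := by
  classical
  obtain ⟨a, b, hb, rfl⟩ := IsFractionRing.div_surjective (A := R) x
  have hb0 : b ≠ 0 := nonZeroDivisors.ne_zero hb
  have hbK : algebraMap R K b ≠ 0 := fun e =>
    hb0 (IsFractionRing.injective R K (e.trans (map_zero _).symm))
  by_cases hab : b ∣ a
  · obtain ⟨w, rfl⟩ := hab
    exact ⟨w, by rw [map_mul, mul_div_cancel_left₀ _ hbK]⟩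
  exfalso
  obtain ⟨_, ⟨r, rfl, hr⟩, hmax⟩ := set_has_maximal_iff_noetherian.mpr ‹IsNoetherianRing R›
    {I : Ideal R | ∃ r, I = (Ideal.span {b}).colon {r * a} ∧ ¬ b ∣ r * a}
    ⟨_, 1, rfl, by rwa [one_mul]⟩
  set c := r * a with hcdef
  set p := (Ideal.span {b}).colon {c} with hpdef
  have hp : ∀ t, t ∈ p ↔ b ∣ c * t := fun t => by
    rw [hpdef, Submodule.mem_colon_singleton, Ideal.mem_span_singleton, smul_eq_mul, mul_comm]
  haveI : p.IsPrime := by
    refine ⟨fun ht => hr ?_, fun {u v} huv => or_iff_not_imp_right.mpr fun hv => ?_⟩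
    · have h1 := (hp 1).mp (ht ▸ trivial)
      rwa [mul_one] at h1
    · rw [hp] at huv hv
      have hle : p ≤ (Ideal.span {b}).colon {v * r * a} := fun t ht => by
        rw [Submodule.mem_colon_singleton, Ideal.mem_span_singleton, smul_eq_mul]
        have := dvd_mul_of_dvd_left ((hp t).mp ht) v
        rw [show t * (v * r * a) = c * t * v by rw [hcdef]; ring]
        exact this
      have heq : (Ideal.span {b}).colon {v * r * a} = p := by
        refine ((eq_or_lt_of_le hle).resolve_right fun hlt => hmax _ ⟨v * r, rfl, ?_⟩ hlt).symm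
        rwa [show v * r * a = c * v by rw [hcdef]; ring]
      rw [← heq, Submodule.mem_colon_singleton, Ideal.mem_span_singleton, smul_eq_mul]
      rw [show u * (v * r * a) = c * (u * v) by rw [hcdef]; ring]
      exact huv
  obtain ⟨a', s, hs, e⟩ := h p inferInstance (height_eq_one_of_colon hb0 hr p hp)
  refine hs ((hp s).mpr ⟨r * a', IsFractionRing.injective R K ?_⟩)
  rw [← mul_div_assoc, div_eq_iff hbK] at e
  rw [hcdef]
  simp only [map_mul]
  linear_combination algebraMap R K r * e

end Groth.Agent.Lib.RefHull.NormalAlg
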