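import Groth.Agent.Lib.Perfect.Regular
import Groth.Agent.Lib.TensorMod.FPCrit
import Groth.Agent.Lib.CurveBundle.Coherent
import Groth.Agent.Lib.Cyc.TorPD
import Mathlib.RingTheory.DiscreteValuationRing.TFAE

/-!
# Coherent modules with free stalks on locally Noetherian schemes; dimension one
-/

universe u

noncomputable section

open CategoryTheory AlgebraicGeometry TopologicalSpace Opposite

namespace Groth.Agent.Lib.RefHull.LocFree

open Groth.Agent.Lib

variable {X : Scheme.{u}} {M : X.Modules}

lemma free_stalk (h : FlatMod.IsFinLocFree M) (x : X) :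
    Module.Free (X.presheaf.stalk x) (M.presheaf.stalk x) := by
  obtain ⟨U, n, hx, ⟨i⟩⟩ := h x
  obtain ⟨s, hs⟩ := CurveBundle.Coherent.exists_basis_sections i
  exact Module.Free.of_basis (Module.Basis.mk (hs x hx).1 (hs x hx).2.ge)

lemma finite_stalk (hM : Coh.IsCoh M) (x : X) :
    Module.Finite (X.presheaf.stalk x) (M.presheaf.stalk x) := by
  haveI := hM.1
  haveI := hM.2
  exact Modules.GenStalk.finite_stalk M x

lemma isCoh_restrict (hM : Coh.IsCoh M) (W : X.Opens) [IsLocallyNoetherian X] :
    Coh.IsCoh (M.restrict W.ι) := by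
  haveI := hM.1
  haveI : Coh.IsQCoh (M.restrict W.ι) := inferInstance
  refine CohBasics.Closure.isCoh_of_finite_sections fun V hV => ?_
  exact (TensorMod.TensorQCoh.finite_restrict_iff W.ι M V).2
    (CohBasics.Closure.finite_sections hM (hV.image_of_isOpenImmersion W.ι))

lemma free_stalk_of_restrict {Y : Scheme.{u}} (f : Y ⟶ X) [IsOpenImmersion f] (M : X.Modules) (y : Y)
    (h : Module.Free (Y.presheaf.stalk y) ((M.restrict f).presheaf.stalk y)) :
    Module.Free (X.presheaf.stalk (f y)) (M.presheaf.stalk (f y)) := by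
  let σ : X.presheaf.stalk (f y) ≃+* Y.presheaf.stalk y :=
    (asIso (f.stalkMap y)).commRingCatIsoToRingEquiv
  haveI := RingHomInvPair.of_ringEquiv σ
  haveI := RingHomInvPair.symm (σ : X.presheaf.stalk (f y) →+* Y.presheaf.stalk y) σ.symm
  let e := Modules.StalkRestrict.restrictStalkAddEquiv f M y
  let e₂ : M.presheaf.stalk (f y) ≃ₛₗ[(σ : X.presheaf.stalk (f y) →+* Y.presheaf.stalk y)]
      (M.restrict f).presheaf.stalk y :=
    { e.symm with
      map_smul' := fun a v => e.injective (by
        show e (e.symm (a • v)) = e ((f.stalkMap y).hom a • e.symm v)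
        rw [e.apply_symm_apply]
        refine Eq.trans ?_ (Modules.StalkRestrict.restrictStalkAddEquiv_smul f M y a (e.symm v)).symm
        rw [e.apply_symm_apply]) }
  exact (Module.Free.iff_of_equiv e₂).mpr h

/-- The points with free stalk form an open set. -/
theorem isOpen_free [IsLocallyNoetherian X] (hM : Coh.IsCoh M) :
    IsOpen {x : X | Module.Free (X.presheaf.stalk x) (M.presheaf.stalk x)} := by
  refine isOpen_iff_forall_mem_open.mpr fun x hfree => ?_
  obtain ⟨W, hW, hx, -⟩ := exists_isAffineOpen_mem_and_subset (X := X) (x := x) (U := ⊤) trivial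
  let y : (W : Scheme.{u}) := ⟨x, hx⟩
  haveI : IsAffine (W : Scheme.{u}) := hW
  haveI := isLocallyNoetherian_of_isOpenImmersion W.ι
  haveI : Module.Free (X.presheaf.stalk (W.ι y)) (M.presheaf.stalk (W.ι y)) := hfree
  haveI := TensorMod.FPCrit.free_stalk_restrict W.ι M y
  have hMW := isCoh_restrict hM W
  haveI := finite_stalk hMW y
  obtain ⟨V, n, hy, ⟨i⟩⟩ := Perfect.Regular.exists_iso_free hMW y
  refine ⟨W.ι ''ᵁ V, ?_, (W.ι ''ᵁ V).isOpen, ⟨y, hy, rfl⟩⟩
  rintro _ ⟨z, hz, rfl⟩
  obtain ⟨t, ht⟩ := CurveBundle.Coherent.exists_basis_sections i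
  exact free_stalk_of_restrict W.ι M z (Module.Free.of_basis (Module.Basis.mk (ht z hz).1 (ht z hz).2.ge))

/-- A coherent module with free stalks is finite locally free. -/
theorem isFinLocFree [IsLocallyNoetherian X] (hM : Coh.IsCoh M)
    (h : ∀ x : X, Module.Free (X.presheaf.stalk x) (M.presheaf.stalk x)) :
    FlatMod.IsFinLocFree M := by
  refine TensorMod.TensorInv.isFinLocFree_of_locally fun x => ?_
  obtain ⟨W, hW, hx, -⟩ := exists_isAffineOpen_mem_and_subset (X := X) (x := x) (U := ⊤) trivial
  refine ⟨W, hx, fun y => ?_⟩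
  haveI : IsAffine (W : Scheme.{u}) := hW
  haveI := isLocallyNoetherian_of_isOpenImmersion W.ι
  haveI := h (W.ι y)
  haveI := TensorMod.FPCrit.free_stalk_restrict W.ι M y
  have hMW := isCoh_restrict hM W
  haveI := finite_stalk hMW y
  obtain ⟨V, n, hy, hi⟩ := Perfect.Regular.exists_iso_free hMW y
  exact ⟨V, n, hy, hi⟩

/-- Regular local rings of dimension at most one are principal. -/
theorem isPrincipalIdealRing_of_regular (R : Type u) [CommRing R] [IsDomain R]
    [IsRegularLocalRing R] (h : ringKrullDim R ≤ 1) : IsPrincipalIdealRing R := by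
  refine ((tfae_of_isNoetherianRing_of_isLocalRing_of_isDomain (R := R)).out 5 0 rfl rfl).mp ?_
  rw [← (IsRegularLocalRing.iff_finrank_cotangentSpace R).mp inferInstance] at h
  exact_mod_cast h

end Groth.Agent.Lib.RefHull.LocFree
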