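import Groth.Agent.Lib.RefHull.SecHom
import Mathlib.RingTheory.Finiteness.Finsupp
import Mathlib.Algebra.Module.FinitePresentation

/-!
# `evalStalk` is bijective and `homSh` is coherent
-/

universe u

noncomputable section

open CategoryTheory AlgebraicGeometry TopologicalSpace Opposite

namespace Groth.Agent.Lib.RefHull.HomSh

open Groth.Agent.Lib Groth.Agent.Lib.TensorMod.Dual SecHom

variable {X : Scheme.{u}} {F G : X.Modules}

/-- Restricting scalars of the sections on a smaller open. -/
abbrev resModule (G : X.Modules) {U W : X.Opens} (hW : W ≤ U) : Module Γ(X, U) Γ(G, W) :=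
  Module.compHom _ (X.presheaf.map (homOfLE hW).op).hom

/-- Finitely many generators and generators of their relations, for a finite module over a
Noetherian ring. -/
theorem exists_gens_rels (R : Type u) [CommRing R] [IsNoetherianRing R] (M : Type u)
    [AddCommGroup M] [Module R M] [Module.Finite R M] :
    ∃ (k l : ℕ) (m : Fin k → M) (r : Fin l → Fin k → R),
      Submodule.span R (Set.range m) = ⊤ ∧ (∀ j, ∑ i, r j i • m i = 0) ∧
      ∀ (P : Type u) [AddCommGroup P] [Module R P] (n : Fin k → P),
        (∀ j, ∑ i, r j i • n i = 0) → ∃ φ : M →ₗ[R] P, ∀ i, φ (m i) = n i := by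
  obtain ⟨k, m, hm⟩ := Module.Finite.exists_fin (R := R) (M := M)
  let π := Fintype.linearCombination R m
  have hπ : Function.Surjective π := by
    rw [← LinearMap.range_eq_top, Fintype.range_linearCombination, hm]
  obtain ⟨l, r, hr⟩ := Submodule.fg_iff_exists_fin_generating_family.mp
    (IsNoetherian.noetherian (LinearMap.ker π))
  refine ⟨k, l, m, r, hm, fun j => ?_, fun P _ _ n hn => ?_⟩
  · have : r j ∈ LinearMap.ker π := hr ▸ Submodule.subset_span ⟨j, rfl⟩
    exact this
  · let φ₀ := Fintype.linearCombination R n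
    have hle : LinearMap.ker π ≤ LinearMap.ker φ₀ := by
      rw [← hr, Submodule.span_le]
      rintro _ ⟨j, rfl⟩
      exact hn j
    refine ⟨((LinearMap.ker π).liftQ φ₀ hle).comp
      (π.quotKerEquivOfSurjective hπ).symm.toLinearMap, fun i => ?_⟩
    classical
    have h1 : (π.quotKerEquivOfSurjective hπ).symm (m i) =
        Submodule.Quotient.mk (Pi.single i (1 : R)) := by
      rw [LinearEquiv.symm_apply_eq, LinearMap.quotKerEquivOfSurjective_apply_mk]
      exact ((Fintype.linearCombination_apply_single R m i 1).trans (one_smul _ _)).symm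
    rw [LinearMap.comp_apply, LinearEquiv.coe_coe, h1, Submodule.liftQ_apply]
    exact (Fintype.linearCombination_apply_single R n i 1).trans (one_smul _ _)

/-- Sections of the sheaf Hom agree when they agree on generators. -/
theorem sec_ext_of_gens [F.IsQuasicoherent] {U : X.Opens} (hU : IsAffineOpen U) {W : X.Opens}
    (hW : W ≤ U) {S : Set Γ(F, U)} (hS : Submodule.span Γ(X, U) S = ⊤)
    {g g' : Γ(RefHull.homSh F G, W)}
    (h : ∀ m ∈ S, app g le_rfl (rs F hW m) = app g' le_rfl (rs F hW m)) : g = g' := by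
  refine sec_ext_of_affine hU hW fun m => ?_
  have hm : m ∈ Submodule.span Γ(X, U) S := hS ▸ trivial
  induction hm using Submodule.span_induction with
  | mem x hx => exact h x hx
  | zero => simp only [rs, map_zero]
  | add x y _ _ hx hy => simp only [rs, map_add] at hx hy ⊢; rw [hx, hy]
  | smul r x _ hx => rw [rs_smul, map_smul, map_smul, hx]

lemma app_res {U V W : X.Opens} (g : Γ(RefHull.homSh F G, U)) (hV : V ≤ U) (hW : W ≤ V)
    (m : Γ(F, V)) :
    app (rs (RefHull.homSh F G) (hW.trans hV) g) le_rfl (rs F hW m) = rs G hW (app g hV m) :=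
  sec_ext fun y hy => by
    rw [germ_app, germ_rs, germ_rs, germ_app]
    rfl

lemma app_smul_left {U V : X.Opens} (r : Γ(X, U)) (g : Γ(RefHull.homSh F G, U)) (hV : V ≤ U)
    (m : Γ(F, V)) : app (r • g) hV m = rf hV r • app g hV m :=
  sec_ext fun y hy => by
    rw [germ_app, Mero.germ_smul, germ_app, germ_rf]
    rfl

lemma app_zero_left {U V : X.Opens} (hV : V ≤ U) (m : Γ(F, V)) :
    app (0 : Γ(RefHull.homSh F G, U)) hV m = 0 :=
  sec_ext fun y hy => by rw [germ_app, map_zero]; rfl

lemma rs_sum {k : ℕ} {U V : X.Opens} (h : V ≤ U) (n : Fin k → Γ(G, U)) :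
    rs G h (∑ i, n i) = ∑ i, rs G h (n i) :=
  map_sum (G.presheaf.map (homOfLE h).op).hom n _

/-- A finite family of sections with vanishing germs vanishes near the point. -/
theorem exists_nhd_res_eq_zero {k : ℕ} {U : X.Opens} {x : X} (hx : x ∈ U)
    (hU : IsAffineOpen U) (n : Fin k → Γ(G, U)) (h : ∀ i, G.presheaf.germ U x hx (n i) = 0) :
    ∃ f : Γ(X, U), x ∈ X.basicOpen f ∧ ∀ i, rs G (X.basicOpen_le f) (n i) = 0 := by
  have hex : ∀ i, ∃ W : X.Opens, x ∈ W ∧ ∃ j : W ≤ U, rs G j (n i) = 0 := fun i => by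
    obtain ⟨W, hxW, i₁, i₂, hW⟩ := TopCat.Presheaf.germ_eq G.presheaf x hx hx (n i) 0
      (by rw [h i, map_zero])
    exact ⟨W, hxW, i₁.le, hW.trans (map_zero _)⟩
  choose W hxW j hW using hex
  have hopen : IsOpen (⋂ i, (W i : Set X)) := isOpen_iInter_of_finite fun i => (W i).2
  obtain ⟨f, hf, hxf⟩ := hU.exists_basicOpen_le (V := ⟨_, hopen⟩)
    ⟨x, Set.mem_iInter.mpr hxW⟩ hx
  exact ⟨f, hxf, fun i => by
    rw [← rs_rs G (j i) (hf.trans fun y hy => Set.mem_iInter.mp hy i), hW i]
    exact map_zero _⟩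

/-- Finitely many germs come from sections over one basic open. -/
theorem exists_nhd_sections {k : ℕ} {U : X.Opens} {x : X} (hx : x ∈ U) (hU : IsAffineOpen U)
    (v : Fin k → G.presheaf.stalk x) :
    ∃ (f : Γ(X, U)) (hf : x ∈ X.basicOpen f) (n : Fin k → Γ(G, X.basicOpen f)),
      ∀ i, G.presheaf.germ _ x hf (n i) = v i := by
  choose W hxW n hn using fun i => TopCat.Presheaf.exists_germ_eq G.presheaf (v i)
  have hopen : IsOpen (⋂ i, (W i : Set X)) := isOpen_iInter_of_finite fun i => (W i).2
  obtain ⟨f, hf, hxf⟩ := hU.exists_basicOpen_le (V := ⟨_, hopen⟩)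
    ⟨x, Set.mem_iInter.mpr hxW⟩ hx
  exact ⟨f, hxf, fun i => rs G (hf.trans fun y hy => Set.mem_iInter.mp hy i) (n i),
    fun i => (germ_rs _ hxf _).trans (hn i)⟩

/-- `evalStalk` is injective when the source is coherent. -/
theorem evalStalk_injective (hF : Coh.IsCoh F) (x : X) :
    Function.Injective (RefHull.evalStalk F G x) := by
  haveI := hF.1
  rw [injective_iff_map_eq_zero]
  intro v hv
  obtain ⟨U₀, hx₀, g, rfl⟩ := TopCat.Presheaf.exists_germ_eq (RefHull.homSh F G).presheaf v
  rw [RefHull.evalStalk_germ] at hv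
  obtain ⟨U, hU, hxU, hle'⟩ := exists_isAffineOpen_mem_and_subset (X := X) hx₀
  have hle : U ≤ U₀ := hle'
  haveI := CohBasics.Closure.finite_sections hF hU
  obtain ⟨k, m, hm⟩ := Module.Finite.exists_fin (R := Γ(X, U)) (M := Γ(F, U))
  obtain ⟨f, hxf, hf⟩ := exists_nhd_res_eq_zero hxU hU (fun i => app g hle (m i)) fun i => by
    rw [germ_app]
    exact LinearMap.congr_fun hv _
  have key : rs (RefHull.homSh F G) ((X.basicOpen_le f).trans hle) g = 0 :=
    sec_ext_of_gens hU (X.basicOpen_le f) hm fun _ ⟨i, hi⟩ => by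
      subst hi
      rw [app_res g hle, hf, app_zero_left]
  exact (germ_rs (M := RefHull.homSh F G) ((X.basicOpen_le f).trans hle) hxf g).symm.trans
    (by rw [key, map_zero])

/-- `evalStalk` is surjective for a coherent source on a locally Noetherian scheme. -/
theorem evalStalk_surjective [IsLocallyNoetherian X] (hF : Coh.IsCoh F) (x : X) :
    Function.Surjective (RefHull.evalStalk F G x) := by
  haveI := hF.1
  intro h
  obtain ⟨U, hU, hx, -⟩ := exists_isAffineOpen_mem_and_subset (X := X) (x := x)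
    (Opens.mem_top x)
  haveI := CohBasics.Closure.finite_sections hF hU
  haveI : IsNoetherianRing Γ(X, U) := IsLocallyNoetherian.component_noetherian ⟨U, hU⟩
  obtain ⟨k, l, m, r, hm, hr, hlift⟩ := exists_gens_rels Γ(X, U) Γ(F, U)
  obtain ⟨f, hf, n, hn⟩ := exists_nhd_sections (G := G) hx hU
    fun i => h (F.presheaf.germ U x hx (m i))
  have hD : IsAffineOpen (X.basicOpen f) := hU.basicOpen f
  obtain ⟨f', hf', hz⟩ := exists_nhd_res_eq_zero hf hD
    (fun j => ∑ i, rf (X.basicOpen_le f) (r j i) • n i) fun j => by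
      rw [map_sum]
      have e := congrArg (fun t => h (F.presheaf.germ U x hx t)) (hr j)
      simp only [map_sum, map_zero, Mero.germ_smul, map_smul] at e
      rw [← e]
      exact Finset.sum_congr rfl fun i _ => by rw [Mero.germ_smul, germ_rf, hn]
  have hW : X.basicOpen f' ≤ U := (X.basicOpen_le f').trans (X.basicOpen_le f)
  letI := resModule G hW
  obtain ⟨φ, hφ⟩ := hlift Γ(G, X.basicOpen f') (fun i => rs G (X.basicOpen_le f') (n i)) fun j => by
    refine Eq.trans ?_ (hz j)
    rw [rs_sum]
    exact Finset.sum_congr rfl fun i _ => by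
      erw [rs_smul]
      rw [rf_rf]
      rfl
  obtain ⟨g, hg⟩ := exists_sec_of_linear hU hW φ.toAddMonoidHom fun a b => φ.map_smul a b
  refine ⟨(RefHull.homSh F G).presheaf.germ _ x hf' g, ?_⟩
  rw [RefHull.evalStalk_germ]
  refine stalk_ext hU hx fun t => ?_
  have ht : t ∈ Submodule.span Γ(X, U) (Set.range m) := hm ▸ trivial
  induction ht using Submodule.span_induction with
  | mem y hy =>
    obtain ⟨i, rfl⟩ := hy
    have e := congrArg (G.presheaf.germ _ x hf') (hg (m i))
    rw [germ_app, germ_rs] at e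
    refine e.trans ?_
    rw [LinearMap.toAddMonoidHom_coe, hφ, germ_rs, hn]
  | zero => simp
  | add a b _ _ ha hb => simp only [map_add, ha, hb]
  | smul a b _ hb => simp only [Mero.germ_smul, map_smul, hb]

theorem evalStalk_bijective [IsLocallyNoetherian X] (hF : Coh.IsCoh F) (x : X) :
    Function.Bijective (RefHull.evalStalk F G x) :=
  ⟨evalStalk_injective hF x, evalStalk_surjective hF x⟩

/-- The sheaf Hom is quasi-coherent. -/
theorem isQCoh_homSh [IsLocallyNoetherian X] (hF : Coh.IsCoh F) (hG : Coh.IsQCoh G) :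
    (RefHull.homSh F G).IsQuasicoherent := by
  haveI := hF.1
  haveI : G.IsQuasicoherent := hG
  refine QCoh.Localizing.isQCoh_of_forall_exists_localizes fun x => ?_
  obtain ⟨U, hU, hx, -⟩ := exists_isAffineOpen_mem_and_subset (X := X) (x := x)
    (Opens.mem_top x)
  refine ⟨U, hU, hx, fun f => ⟨fun s => ?_, fun t ht => ?_⟩⟩
  · haveI := CohBasics.Closure.finite_sections hF hU
    haveI : IsNoetherianRing Γ(X, U) := IsLocallyNoetherian.component_noetherian ⟨U, hU⟩
    obtain ⟨k, l, m, r, hm, hr, hlift⟩ := exists_gens_rels Γ(X, U) Γ(F, U)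
    have L := QCoh.Localizing.localizes_of_isAffineOpen G hU f
    let D : X.Opens := X.basicOpen f
    have hD : D ≤ U := X.basicOpen_le f
    choose N n hn using fun i => L.ext' (app s le_rfl (rs F hD (m i)))
    let N₀ := Finset.univ.sup N
    let n₀ : Fin k → Γ(G, U) := fun i => f ^ (N₀ - N i) • n i
    have hn₀ : ∀ i, rs G hD (n₀ i) = rf hD f ^ N₀ • app s le_rfl (rs F hD (m i)) := fun i => by
      rw [rs_smul]
      rw [show rs G hD (n i) = rf hD f ^ N i • app s le_rfl (rs F hD (m i)) from hn i, smul_smul,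
        rf, map_pow, ← pow_add, Nat.sub_add_cancel (Finset.le_sup (f := N) (Finset.mem_univ i))]
    have hz : ∀ j, ∃ M : ℕ, f ^ M • ∑ i, r j i • n₀ i = 0 := fun j => by
      refine L.sep _ ?_
      change rs G hD _ = 0
      have e : app s le_rfl (rs F hD (∑ i, r j i • m i)) = 0 := by
        rw [hr j, rs, map_zero, map_zero]
      rw [rs_sum, map_sum] at e
      rw [rs_sum]
      refine Eq.trans ?_ (smul_zero (rf hD f ^ N₀))
      rw [← e, Finset.smul_sum]
      exact Finset.sum_congr rfl fun i _ => by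
        rw [rs_smul G, rs_smul F, map_smul, hn₀, smul_comm]
    choose M hM using hz
    let M₀ := Finset.univ.sup M
    obtain ⟨φ, hφ⟩ := hlift Γ(G, U) (fun i => f ^ M₀ • n₀ i) fun j => by
      calc ∑ i, r j i • f ^ M₀ • n₀ i = f ^ (M₀ - M j) • f ^ M j • ∑ i, r j i • n₀ i := by
            rw [smul_smul, ← pow_add, Nat.sub_add_cancel (Finset.le_sup (f := M) (Finset.mem_univ j)),
              Finset.smul_sum]
            exact Finset.sum_congr rfl fun i _ => smul_comm _ _ _
        _ = 0 := by rw [hM, smul_zero]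
    obtain ⟨g, hg⟩ := exists_sec_of_linear hU le_rfl φ.toAddMonoidHom fun a b => by
      rw [rf_self]; exact φ.map_smul a b
    refine ⟨M₀ + N₀, g, ?_⟩
    refine sec_ext_of_gens hU hD hm ?_
    rintro _ ⟨i, rfl⟩
    have hgi : app g le_rfl (m i) = f ^ M₀ • n₀ i := by
      have := hg (m i)
      rw [rs_self] at this
      exact this.trans (hφ i)
    refine (app_res g le_rfl hD (m i)).trans ?_
    rw [hgi, rs_smul, hn₀, app_smul_left, rf_self, smul_smul]
    change (rf hD (f ^ M₀) * rf hD f ^ N₀) • _ = (rf hD f ^ (M₀ + N₀)) • _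
    rw [pow_add, rf, map_pow]
  · haveI := CohBasics.Closure.finite_sections hF hU
    obtain ⟨k, m, hm⟩ := Module.Finite.exists_fin (R := Γ(X, U)) (M := Γ(F, U))
    have L := QCoh.Localizing.localizes_of_isAffineOpen G hU f
    have hz : ∀ i, ∃ M : ℕ, f ^ M • app t le_rfl (m i) = 0 := fun i => by
      refine L.sep _ ?_
      change rs G (X.basicOpen_le f) _ = 0
      rw [← app_res t le_rfl (X.basicOpen_le f)]
      rw [show rs (RefHull.homSh F G) ((X.basicOpen_le f).trans le_rfl) t = 0 from ht]
      exact app_zero_left _ _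
    choose M hM using hz
    refine ⟨Finset.univ.sup M, sec_ext_of_gens hU le_rfl hm ?_⟩
    rintro _ ⟨i, rfl⟩
    rw [app_zero_left, rs_self, app_smul_left, rf_self,
      ← Nat.sub_add_cancel (Finset.le_sup (f := M) (Finset.mem_univ i)), pow_add, mul_smul, hM,
      smul_zero]

/-- The sheaf Hom of coherent modules on a locally Noetherian scheme is coherent. -/
theorem isCoh_homSh [IsLocallyNoetherian X] (hF : Coh.IsCoh F) (hG : Coh.IsCoh G) :
    Coh.IsCoh (RefHull.homSh F G) := by
  haveI := hF.1
  haveI := hG.1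
  haveI := isQCoh_homSh hF hG.1
  refine CohBasics.Closure.isCoh_of_finite_sections fun U hU => ?_
  haveI : IsNoetherianRing Γ(X, U) := IsLocallyNoetherian.component_noetherian ⟨U, hU⟩
  haveI := CohBasics.Closure.finite_sections hF hU
  haveI := CohBasics.Closure.finite_sections hG hU
  let Φ : Γ(RefHull.homSh F G, U) →ₗ[Γ(X, U)] (Γ(F, U) →ₗ[Γ(X, U)] Γ(G, U)) :=
    { toFun := fun g => app g le_rfl
      map_add' := fun a b => LinearMap.ext fun m => sec_ext fun y hy => by
        rw [LinearMap.add_apply, map_add, germ_app, germ_app, germ_app]; rfl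
      map_smul' := fun r a => LinearMap.ext fun m => by
        rw [RingHom.id_apply, LinearMap.smul_apply, app_smul_left, rf_self] }
  refine Module.Finite.of_injective Φ fun a b hab => sec_ext_of_affine hU le_rfl fun m => ?_
  exact LinearMap.congr_fun hab _

end Groth.Agent.Lib.RefHull.HomSh
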