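import Groth.Agent.Lib.AssPt.Basic
import Mathlib.RingTheory.Ideal.KrullsHeightTheorem
import Mathlib.AlgebraicGeometry.Noetherian

/-!
# Every point of a locally Noetherian scheme specializes to a closed point
-/

universe u

open CategoryTheory AlgebraicGeometry TopologicalSpace

namespace Groth.Agent.Lib.RefHull.ClosedPoint

open Groth.Agent.Lib

/-- In a Noetherian ring a prime strictly between a prime `P` and a larger one cannot exist when
all primes strictly above `P` contain a fixed element outside `P`. -/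
theorem not_lt_of_forall_mem {R : Type u} [CommRing R] [IsDomain R] [IsNoetherianRing R] {f : R}
    (hf : f ≠ 0) (h : ∀ q : Ideal R, q.IsPrime → q ≠ ⊥ → f ∈ q) {p m : Ideal R} [p.IsPrime]
    [m.IsPrime] (hp : p ≠ ⊥) : ¬ p < m := by
  intro hlt
  have hfin : (Ideal.span {f}).minimalPrimes.Finite := Ideal.finite_minimalPrimes_of_isNoetherianRing R _
  have hm2 : (2 : ℕ∞) ≤ m.height := by
    have h1 : (1 : ℕ∞) ≤ p.height := by
      rw [Order.one_le_iff_pos, pos_iff_ne_zero, Ne, Ideal.height_eq_zero_iff_eq_bot]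
      exact hp
    calc (2 : ℕ∞) = 1 + 1 := rfl
      _ ≤ p.height + 1 := add_le_add h1 le_rfl
      _ ≤ m.height := Ideal.height_add_one_le_of_lt_of_isPrime hlt
  have hnot : ¬ (m : Set R) ⊆ ⋃ q ∈ (hfin.toFinset : Set (Ideal R)), (q : Set R) := by
    rw [Ideal.subset_union_prime ⊥ ⊥ fun q hq _ _ => ((hfin.mem_toFinset.mp hq).1.1)]
    rintro ⟨q, hq, hmq⟩
    have hq' := hfin.mem_toFinset.mp hq
    haveI : q.IsPrime := hq'.1.1
    have : m.height ≤ 1 := (Ideal.height_mono hmq).trans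
      (Ideal.height_le_one_of_isPrincipal_of_mem_minimalPrimes _ q hq')
    exact absurd (hm2.trans this) (by decide)
  obtain ⟨g, hgm, hg⟩ := Set.not_subset.mp hnot
  simp only [Set.mem_iUnion, not_exists] at hg
  obtain ⟨q, hq, hqm⟩ := Ideal.exists_minimalPrimes_le
    ((Ideal.span_singleton_le_iff_mem m).mpr hgm)
  haveI : q.IsPrime := hq.1.1
  have hgq : g ∈ q := hq.1.2 (Ideal.subset_span rfl)
  have hg0 : g ≠ 0 := fun e => by
    obtain ⟨r, hr, -⟩ := Ideal.exists_minimalPrimes_le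
      ((Ideal.span_singleton_le_iff_mem m).mpr (h m inferInstance (ne_bot_of_gt hlt)))
    exact hg r (hfin.mem_toFinset.mpr hr) (e ▸ r.zero_mem)
  have hq0 : q ≠ ⊥ := fun e => hg0 (by simpa [e] using hgq)
  obtain ⟨r, hr, hrq⟩ := Ideal.exists_minimalPrimes_le
    ((Ideal.span_singleton_le_iff_mem q).mpr (h q inferInstance hq0))
  haveI : r.IsPrime := hr.1.1
  have hr0 : r ≠ ⊥ := fun e => hf (by simpa [e] using hr.1.2 (Ideal.subset_span (rfl : f = f)))
  rcases hrq.eq_or_lt with rfl | hlt'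
  · exact hg r (hfin.mem_toFinset.mpr hr) hgq
  · have h2 : r.height + 1 ≤ 1 := (Ideal.height_add_one_le_of_lt_of_isPrime hlt').trans
      (Ideal.height_le_one_of_isPrincipal_of_mem_minimalPrimes _ q hq)
    have h3 : r.height = 0 := by
      rcases eq_or_ne r.height 0 with h' | h'
      · exact h'
      · exact absurd ((add_le_add (Order.one_le_iff_pos.mpr (pos_iff_ne_zero.mpr h')) le_rfl).trans h2)
          (by decide)
    exact hr0 (Ideal.height_eq_zero_iff_eq_bot.mp h3)

variable {X : Scheme.{u}} [IsLocallyNoetherian X]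

/-- A point closed in an affine open has only closed points in the rest of its closure. -/
theorem isClosed_singleton_of_specializes {U : X.Opens} {z y : X} (hz : z ∈ U)
    (hzU : ∀ w ∈ U, z ⤳ w → w = z) (hzy : z ⤳ y) (hne : y ≠ z) : IsClosed ({y} : Set X) := by
  suffices h : ∀ w, y ⤳ w → w = y from
    closure_subset_iff_isClosed.mp fun w hw => h w (specializes_iff_mem_closure.mpr hw)
  intro w hyw
  by_contra hwne
  obtain ⟨V, hV, hwV, -⟩ := exists_isAffineOpen_mem_and_subset (X := X) (x := w) (Opens.mem_top w)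
  have hyV : y ∈ V := hyw.mem_open V.isOpen hwV
  have hzV : z ∈ V := hzy.mem_open V.isOpen hyV
  haveI : IsNoetherianRing Γ(X, V) := IsLocallyNoetherian.component_noetherian ⟨V, hV⟩
  obtain ⟨g, hg, hzg⟩ := hV.exists_basicOpen_le (⟨z, hz⟩ : U) hzV
  set P := (hV.primeIdealOf ⟨z, hzV⟩).asIdeal with hP
  let π := Ideal.Quotient.mk P
  have hgP : g ∉ P := fun h => by
    have e : hV.primeIdealOf ⟨z, hzV⟩ ∈ hV.fromSpec ⁻¹ᵁ X.basicOpen g := by
      show hV.fromSpec _ ∈ X.basicOpen g
      rw [hV.fromSpec_primeIdealOf]; exact hzg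
    rw [hV.fromSpec_preimage_basicOpen] at e
    exact (PrimeSpectrum.mem_basicOpen _ _).mp e h
  have hf : π g ≠ 0 := fun h => hgP (Ideal.Quotient.eq_zero_iff_mem.mp h)
  have hall : ∀ q : Ideal (Γ(X, V) ⧸ P), q.IsPrime → q ≠ ⊥ → π g ∈ q := by
    intro q hq hq0
    by_contra hgq
    obtain ⟨v, hvV, hv⟩ := AssPt.Basic.exists_point_of_prime hV (q.comap π)
    have hzv : z ⤳ v := (AssPt.Basic.specializes_iff_primeIdealOf hV hvV hzV).mpr (by
      rw [hv, ← hP]
      intro a ha
      rw [Ideal.mem_comap, Ideal.Quotient.eq_zero_iff_mem.mpr ha]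
      exact q.zero_mem)
    have hvg : v ∈ X.basicOpen g := by
      have e : hV.primeIdealOf ⟨v, hvV⟩ ∈ hV.fromSpec ⁻¹ᵁ X.basicOpen g := by
        rw [hV.fromSpec_preimage_basicOpen]
        refine (PrimeSpectrum.mem_basicOpen _ _).mpr ?_
        rw [hv]; exact hgq
      have e' : hV.fromSpec (hV.primeIdealOf ⟨v, hvV⟩) ∈ X.basicOpen g := e
      rwa [hV.fromSpec_primeIdealOf] at e'
    obtain rfl := hzU v (hg hvg) hzv
    refine hq0 (Ideal.comap_injective_of_surjective π Ideal.Quotient.mk_surjective ?_)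
    rw [← hv, ← hP]
    exact Ideal.mk_ker.symm
  have key : ∀ v ∈ ({y, w} : Set X), ∀ hv : v ∈ V, z ⤳ v →
      ((hV.primeIdealOf ⟨v, hv⟩).asIdeal.map π).IsPrime ∧
        ((hV.primeIdealOf ⟨v, hv⟩).asIdeal.map π).comap π = (hV.primeIdealOf ⟨v, hv⟩).asIdeal :=
    fun v _ hv hzv => by
      have hle := (AssPt.Basic.specializes_iff_primeIdealOf hV hv hzV).mp hzv
      exact ⟨Ideal.map_isPrime_of_surjective Ideal.Quotient.mk_surjective (by rwa [Ideal.mk_ker]),
        by rw [Ideal.comap_map_of_surjective π Ideal.Quotient.mk_surjective, ← RingHom.ker_eq_comap_bot,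
          Ideal.mk_ker]; exact sup_eq_left.mpr hle⟩
  obtain ⟨hy1, hy2⟩ := key y (by simp) hyV hzy
  obtain ⟨hw1, hw2⟩ := key w (by simp) hwV (hzy.trans hyw)
  refine not_lt_of_forall_mem hf hall (p := (hV.primeIdealOf ⟨y, hyV⟩).asIdeal.map π)
    (m := (hV.primeIdealOf ⟨w, hwV⟩).asIdeal.map π) ?_ ?_
  · intro h0
    refine hne ?_
    have e : (hV.primeIdealOf ⟨y, hyV⟩).asIdeal = P := by
      rw [← hy2, h0, ← RingHom.ker_eq_comap_bot, Ideal.mk_ker]
    have := congrArg hV.fromSpec (PrimeSpectrum.ext e)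
    rwa [hV.fromSpec_primeIdealOf, hV.fromSpec_primeIdealOf] at this
  · refine lt_of_le_of_ne (Ideal.map_mono ((AssPt.Basic.specializes_iff_primeIdealOf hV hwV hyV).mp hyw))
      fun h0 => hwne ?_
    have e : (hV.primeIdealOf ⟨w, hwV⟩).asIdeal = (hV.primeIdealOf ⟨y, hyV⟩).asIdeal := by
      rw [← hy2, ← hw2, h0]
    have := congrArg hV.fromSpec (PrimeSpectrum.ext e)
    rwa [hV.fromSpec_primeIdealOf, hV.fromSpec_primeIdealOf] at this

/-- Every point of a locally Noetherian scheme specializes to a closed point. -/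
theorem exists_closed_specialization (x : X) : ∃ y, x ⤳ y ∧ IsClosed ({y} : Set X) := by
  obtain ⟨U, hU, hxU, -⟩ := exists_isAffineOpen_mem_and_subset (X := X) (x := x) (Opens.mem_top x)
  obtain ⟨m, hm, hle⟩ := Ideal.exists_le_maximal _ (hU.primeIdealOf ⟨x, hxU⟩).2.ne_top
  obtain ⟨z, hzU, hz⟩ := AssPt.Basic.exists_point_of_prime hU m
  have hxz : x ⤳ z := (AssPt.Basic.specializes_iff_primeIdealOf hU hzU hxU).mpr (hz ▸ hle)
  have hzmax : ∀ w ∈ U, z ⤳ w → w = z := fun w hw hzw => by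
    have h1 := (AssPt.Basic.specializes_iff_primeIdealOf hU hw hzU).mp hzw
    rw [hz] at h1
    have e : (hU.primeIdealOf ⟨w, hw⟩).asIdeal = (hU.primeIdealOf ⟨z, hzU⟩).asIdeal :=
      ((hm.eq_of_le (hU.primeIdealOf ⟨w, hw⟩).2.ne_top h1).symm).trans hz.symm
    have := congrArg hU.fromSpec (PrimeSpectrum.ext e)
    rwa [hU.fromSpec_primeIdealOf, hU.fromSpec_primeIdealOf] at this
  by_cases hc : IsClosed ({z} : Set X)
  · exact ⟨z, hxz, hc⟩
  · obtain ⟨y, hy, hne⟩ : ∃ y ∈ closure ({z} : Set X), y ≠ z := by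
      by_contra hcon
      push Not at hcon
      exact hc (closure_subset_iff_isClosed.mp fun w hw => hcon w hw)
    exact ⟨y, hxz.trans (specializes_iff_mem_closure.mpr hy),
      isClosed_singleton_of_specializes hzU hzmax (specializes_iff_mem_closure.mpr hy) hne⟩

end Groth.Agent.Lib.RefHull.ClosedPoint
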