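import Groth.Agent.Lib.RefHull.DualAlg
import Groth.Agent.Lib.RefHull.HomSh
import Groth.Agent.Lib.RefHull.ClosedPoint
import Groth.Agent.Lib.Modules.GenStalk
import Groth.Agent.Lib.AssPt.Basic
import Groth.Agent.Lib.TensorMod.QCohInv

/-!
# Reflexive coherent modules and their stalks
-/

universe u

noncomputable section

open CategoryTheory AlgebraicGeometry TopologicalSpace Opposite

namespace Groth.Agent.Lib.RefHull.Reflexive

open Groth.Agent.Lib

variable {X : Scheme.{u}} {F G : X.Modules}

/-- The stalk of the module `O_X` is the local ring. -/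
def oEquiv (x : X) :
    (Coh.structureModule X).presheaf.stalk x ≃ₗ[X.presheaf.stalk x] X.presheaf.stalk x :=
  (AssPt.Basic.unitStalkEquiv x).symm

/-- The dual of the stalk. -/
def stalkDualEquiv (F : X.Modules) (x : X) : RefHull.StalkHom F (Coh.structureModule X) x ≃ₗ[X.presheaf.stalk x]
    Module.Dual (X.presheaf.stalk x) (F.presheaf.stalk x) :=
  LinearEquiv.congrRight (oEquiv x)

/-- The stalk of the dual of a coherent module. -/
def dualStalkEquiv [IsLocallyNoetherian X] (hF : Coh.IsCoh F) (x : X) :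
    (RefHull.dual F).presheaf.stalk x ≃ₗ[X.presheaf.stalk x]
      Module.Dual (X.presheaf.stalk x) (F.presheaf.stalk x) :=
  (LinearEquiv.ofBijective _ (HomSh.evalStalk_bijective hF x)).trans (stalkDualEquiv F x)

lemma dualStalkEquiv_apply [IsLocallyNoetherian X] (hF : Coh.IsCoh F) (x : X)
    (θ : (RefHull.dual F).presheaf.stalk x) (v : F.presheaf.stalk x) :
    dualStalkEquiv hF x θ v = oEquiv x (RefHull.evalStalk F (Coh.structureModule X) x θ v) :=
  rfl

lemma isCoh_structure : Coh.IsCoh (Coh.structureModule X) := by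
  haveI := TensorMod.QCohInv.isQCoh_structureModule X
  refine CohBasics.Closure.isCoh_of_finite_sections fun U _ => ?_
  change Module.Finite Γ(X, U) Γ(X, U)
  infer_instance

theorem isCoh_dual [IsLocallyNoetherian X] (hF : Coh.IsCoh F) : Coh.IsCoh (RefHull.dual F) :=
  HomSh.isCoh_homSh hF isCoh_structure

theorem isCoh_ddual [IsLocallyNoetherian X] (hF : Coh.IsCoh F) : Coh.IsCoh (RefHull.ddual F) :=
  isCoh_dual (isCoh_dual hF)

lemma finite_stalk (hF : Coh.IsCoh F) (x : X) :
    Module.Finite (X.presheaf.stalk x) (F.presheaf.stalk x) :=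
  haveI := hF.2
  Modules.GenStalk.finite_stalk F x

/-- The transport of double duals. -/
def biEquiv [IsLocallyNoetherian X] (hF : Coh.IsCoh F) (x : X) :
    RefHull.StalkHom (RefHull.dual F) (Coh.structureModule X) x ≃ₗ[X.presheaf.stalk x]
      Module.Dual (X.presheaf.stalk x) (Module.Dual (X.presheaf.stalk x) (F.presheaf.stalk x)) :=
  LinearEquiv.arrowCongr (dualStalkEquiv hF x) (oEquiv x)

lemma biEquiv_bidualAt [IsLocallyNoetherian X] (hF : Coh.IsCoh F) (x : X) (v : F.presheaf.stalk x) :
    biEquiv hF x (RefHull.bidualAt F x v) =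
      Module.Dual.eval (X.presheaf.stalk x) (F.presheaf.stalk x) v := by
  refine LinearMap.ext fun θ => ?_
  obtain ⟨θ', rfl⟩ := (dualStalkEquiv hF x).surjective θ
  rw [biEquiv, LinearEquiv.arrowCongr_apply, LinearEquiv.symm_apply_apply]
  rfl

theorem isReflexiveAt_iff [IsLocallyNoetherian X] (hF : Coh.IsCoh F) (x : X) :
    RefHull.IsReflexiveAt F x ↔ Function.Bijective (RefHull.bidualAt F x) := by
  have e : ⇑(Module.Dual.eval (X.presheaf.stalk x) (F.presheaf.stalk x)) =
      biEquiv hF x ∘ RefHull.bidualAt F x := funext fun v => (biEquiv_bidualAt hF x v).symm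
  constructor
  · intro h
    have := h.bijective_dual_eval'
    rw [e, (biEquiv hF x).bijective.of_comp_iff'] at this
    exact this
  · intro h
    refine ⟨?_⟩
    rw [e]
    exact (biEquiv hF x).bijective.comp h

lemma evalStalk_stalkMap_bidual (F : X.Modules) (x : X) (v : F.presheaf.stalk x) :
    RefHull.evalStalk (RefHull.dual F) (Coh.structureModule X) x
      (RefHull.stalkMapₗ (RefHull.bidualMap F) x v) = RefHull.bidualAt F x v := by
  obtain ⟨U, hx, s, rfl⟩ := TopCat.Presheaf.exists_germ_eq F.presheaf v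
  rw [RefHull.stalkMapₗ_germ, RefHull.evalStalk_germ]
  rfl

theorem bijective_stalkMap_bidual_iff [IsLocallyNoetherian X] (hF : Coh.IsCoh F) (x : X) :
    Function.Bijective (RefHull.stalkMapₗ (RefHull.bidualMap F) x) ↔
      RefHull.IsReflexiveAt F x := by
  rw [isReflexiveAt_iff hF]
  have e : ⇑(RefHull.bidualAt F x) = RefHull.evalStalk (RefHull.dual F) (Coh.structureModule X) x ∘
      RefHull.stalkMapₗ (RefHull.bidualMap F) x :=
    funext fun v => (evalStalk_stalkMap_bidual F x v).symm
  rw [e, (HomSh.evalStalk_bijective (isCoh_dual hF) x).of_comp_iff']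

theorem isReflexive_iff_forall [IsLocallyNoetherian X] (hF : Coh.IsCoh F) :
    RefHull.IsReflexive F ↔ ∀ x : X, RefHull.IsReflexiveAt F x :=
  (Modules.StalkModule.isIso_iff_stalkMapₗ_bijective (RefHull.bidualMap F)).trans
    (forall_congr' fun x => bijective_stalkMap_bidual_iff hF x)

/-- Bijectivity on stalks passes to generizations. -/
theorem bijective_stalkMap_of_specializes [F.IsQuasicoherent] [G.IsQuasicoherent] (φ : F ⟶ G)
    {x y : X} (h : y ⤳ x) (hb : Function.Bijective (RefHull.stalkMapₗ φ x)) :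
    Function.Bijective (RefHull.stalkMapₗ φ y) := by
  obtain ⟨U, hU, hxU, -⟩ := exists_isAffineOpen_mem_and_subset (X := X) (x := x) (Opens.mem_top x)
  have hyU : y ∈ U := h.mem_open U.isOpen hxU
  constructor
  · rw [injective_iff_map_eq_zero]
    intro v hv
    obtain ⟨f, t, hf, e⟩ := StalkLoc.Basic.exists_smul_eq_germ hU hyU v
    have h1 : G.presheaf.germ U y hyU (φ.app U t) = 0 := by
      rw [← RefHull.stalkMapₗ_germ, ← e, map_smul, hv, smul_zero]
    obtain ⟨g, hg, hgt⟩ := (StalkLoc.Basic.germ_eq_zero_iff hU hyU _).mp h1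
    have h2 : RefHull.stalkMapₗ φ x (F.presheaf.germ U x hxU (g • t)) = 0 := by
      rw [RefHull.stalkMapₗ_germ, Scheme.Modules.Hom.app_smul, hgt, map_zero]
    have h3 : F.presheaf.germ U x hxU (g • t) = 0 := hb.1 (h2.trans (map_zero _).symm)
    obtain ⟨k, hk, hk0⟩ := (StalkLoc.Basic.germ_eq_zero_iff hU hxU _).mp h3
    have h4 : F.presheaf.germ U y hyU t = 0 :=
      (StalkLoc.Basic.germ_eq_zero_iff hU hyU t).mpr
        ⟨k * g, by rw [Scheme.basicOpen_mul]; exact ⟨h.mem_open (X.basicOpen k).isOpen hk, hg⟩,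
          by rw [mul_smul, hk0]⟩
    rw [← e] at h4
    exact ((X.mem_basicOpen f y hyU).mp hf).smul_eq_zero.mp h4
  · intro w
    obtain ⟨f, t, hf, e⟩ := StalkLoc.Basic.exists_smul_eq_germ hU hyU w
    obtain ⟨v, hv⟩ := hb.2 (G.presheaf.germ U x hxU t)
    obtain ⟨g, s, hg, e'⟩ := StalkLoc.Basic.exists_smul_eq_germ hU hxU v
    have h1 : G.presheaf.germ U x hxU (φ.app U s - g • t) = 0 := by
      rw [map_sub, ← RefHull.stalkMapₗ_germ, ← e', map_smul, hv, Mero.germ_smul, sub_self]
    obtain ⟨k, hk, hk0⟩ := (StalkLoc.Basic.germ_eq_zero_iff hU hxU _).mp h1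
    have hu : IsUnit (X.presheaf.germ U y hyU (k * g * f)) := by
      rw [← X.mem_basicOpen _ y hyU, Scheme.basicOpen_mul, Scheme.basicOpen_mul]
      exact ⟨⟨h.mem_open (X.basicOpen k).isOpen hk, h.mem_open (X.basicOpen g).isOpen hg⟩, hf⟩
    refine ⟨hu.unit⁻¹ • F.presheaf.germ U y hyU (k • s), ?_⟩
    rw [Units.smul_def, map_smul, RefHull.stalkMapₗ_germ, Scheme.Modules.Hom.app_smul,
      show k • φ.app U s = (k * g) • t by rw [smul_sub, sub_eq_zero] at hk0; rw [hk0, mul_smul],
      Mero.germ_smul, ← e, smul_smul, smul_smul, mul_assoc, ← map_mul, IsUnit.val_inv_mul, one_smul]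

theorem isReflexiveAt_of_specializes [IsLocallyNoetherian X] (hF : Coh.IsCoh F) {x y : X}
    (h : y ⤳ x) (hx : RefHull.IsReflexiveAt F x) : RefHull.IsReflexiveAt F y := by
  rw [← bijective_stalkMap_bidual_iff hF] at hx ⊢
  haveI := hF.1
  haveI := (isCoh_ddual hF).1
  exact bijective_stalkMap_of_specializes _ h hx

/-- The dual of a coherent module on an integral locally Noetherian scheme is reflexive. -/
theorem isReflexive_dual [IsIntegral X] [IsLocallyNoetherian X] (hF : Coh.IsCoh F) :
    RefHull.IsReflexive (RefHull.dual F) := by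
  rw [isReflexive_iff_forall (isCoh_dual hF)]
  intro x
  haveI := finite_stalk hF x
  haveI := DualAlg.isReflexive_dual (R := X.presheaf.stalk x) (M := F.presheaf.stalk x)
  exact Module.equiv (dualStalkEquiv hF x).symm

/-- Sheaf Hom into a reflexive module is reflexive. -/
theorem isReflexive_homSh [IsIntegral X] [IsLocallyNoetherian X] (hF : Coh.IsCoh F)
    (hG : Coh.IsCoh G) (hGr : RefHull.IsReflexive G) :
    RefHull.IsReflexive (RefHull.homSh F G) := by
  rw [isReflexive_iff_forall (HomSh.isCoh_homSh hF hG)]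
  intro x
  haveI := finite_stalk hF x
  haveI := finite_stalk hG x
  haveI : Module.IsReflexive (X.presheaf.stalk x) (G.presheaf.stalk x) :=
    (isReflexive_iff_forall hG).mp hGr x
  haveI := DualAlg.isReflexive_hom (R := X.presheaf.stalk x) (M := F.presheaf.stalk x)
    (N := G.presheaf.stalk x)
  exact Module.equiv
    (LinearEquiv.ofBijective _ (HomSh.evalStalk_bijective (G := G) hF x)).symm

theorem tfae [IsIntegral X] [IsLocallyNoetherian X] (hF : Coh.IsCoh F) :
    [RefHull.IsReflexive F, ∀ x : ↥X, RefHull.IsReflexiveAt F x,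
      ∀ x : ↥X, IsClosed ({x} : Set ↥X) → RefHull.IsReflexiveAt F x].TFAE := by
  tfae_have 1 ↔ 2 := isReflexive_iff_forall hF
  tfae_have 2 → 3 := fun h x _ => h x
  tfae_have 3 → 2 := fun h x => by
    obtain ⟨y, hxy, hy⟩ := ClosedPoint.exists_closed_specialization x
    exact isReflexiveAt_of_specializes hF hxy (h y hy)
  tfae_finish

end Groth.Agent.Lib.RefHull.Reflexive
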