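import Groth.Agent.Lib.RefHull.Reflexive
import Groth.Agent.Lib.RefHull.NormalAlg
import Groth.Agent.Lib.Ideal.Prime
import Groth.Agent.Lib.Cyc.C1
import Groth.Prelude.Def_Pi1
import Mathlib.RingTheory.DiscreteValuationRing.TFAE

/-!
# Stalks inside the generic stalk on an integral scheme; reflexive modules are determined in codimension one
-/

universe u

noncomputable section

open CategoryTheory AlgebraicGeometry TopologicalSpace Opposite

namespace Groth.Agent.Lib.RefHull.Generic

open Groth.Agent.Lib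

variable {X : Scheme.{u}} [IsIntegral X] {F G : X.Modules}

/-- The generic point specializes to every point. -/
theorem spec (x : X) : genericPoint ↥X ⤳ x := (genericPoint_spec ↥X).specializes (Set.mem_univ x)

/-- The map from a stalk to the generic stalk. -/
def toGen (F : X.Modules) (x : X) : F.presheaf.stalk x →+ F.presheaf.stalk (genericPoint ↥X) :=
  (F.presheaf.stalkSpecializes (spec x)).hom

lemma toGen_smul (x : X) (a : X.presheaf.stalk x) (v : F.presheaf.stalk x) :
    toGen F x (a • v) = algebraMap (X.presheaf.stalk x) X.functionField a • toGen F x v :=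
  Cyc.C1.stalkSpecializes_smul F (spec x) a v

lemma toGen_germ {U : X.Opens} {x : X} (hx : x ∈ U) (s : Γ(F, U)) :
    toGen F x (F.presheaf.germ U x hx s) =
      F.presheaf.germ U (genericPoint ↥X) ((spec x).mem_open U.isOpen hx) s :=
  ConcreteCategory.congr_hom (TopCat.Presheaf.germ_stalkSpecializes F.presheaf hx (spec x)) s

lemma algebraMap_germ {U : X.Opens} {x : X} (hx : x ∈ U) (a : Γ(X, U)) :
    algebraMap (X.presheaf.stalk x) X.functionField (X.presheaf.germ U x hx a) =
      X.presheaf.germ U (genericPoint ↥X) ((spec x).mem_open U.isOpen hx) a :=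
  ConcreteCategory.congr_hom (TopCat.Presheaf.germ_stalkSpecializes X.presheaf hx (spec x)) a

lemma toGen_stalkMap (φ : F ⟶ G) (x : X) (v : F.presheaf.stalk x) :
    toGen G x (RefHull.stalkMapₗ φ x v) =
      RefHull.stalkMapₗ φ (genericPoint ↥X) (toGen F x v) := by
  obtain ⟨U, hx, s, rfl⟩ := TopCat.Presheaf.exists_germ_eq F.presheaf v
  rw [RefHull.stalkMapₗ_germ, toGen_germ, toGen_germ, RefHull.stalkMapₗ_germ]

lemma algebraMap_ne_zero {x : X} {a : X.presheaf.stalk x} (ha : a ≠ 0) :
    algebraMap (X.presheaf.stalk x) X.functionField a ≠ 0 :=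
  fun h => ha (IsFractionRing.injective (X.presheaf.stalk x) X.functionField (h.trans (map_zero _).symm))

lemma toGen_bijective_genericPoint : Function.Bijective (toGen F (genericPoint ↥X)) := by
  have e : ∀ v, toGen F (genericPoint ↥X) v = v := fun v => by
    obtain ⟨U, hx, s, rfl⟩ := TopCat.Presheaf.exists_germ_eq F.presheaf v
    rw [toGen_germ]
  exact ⟨fun a b h => by rwa [e, e] at h, fun v => ⟨v, e v⟩⟩

/-- Generic stalks are fractions of stalks. -/
theorem exists_frac [F.IsQuasicoherent] (x : X) (w : F.presheaf.stalk (genericPoint ↥X)) :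
    ∃ (b : X.presheaf.stalk x) (v : F.presheaf.stalk x), b ≠ 0 ∧
      algebraMap (X.presheaf.stalk x) X.functionField b • w = toGen F x v := by
  obtain ⟨U, hU, hxU, -⟩ := exists_isAffineOpen_mem_and_subset (X := X) (x := x) (Opens.mem_top x)
  have hη := (spec x).mem_open U.isOpen hxU
  obtain ⟨f, t, hf, e⟩ := StalkLoc.Basic.exists_smul_eq_germ hU hη w
  refine ⟨X.presheaf.germ U x hxU f, F.presheaf.germ U x hxU t, fun h => ?_, ?_⟩
  · have h' := congrArg (algebraMap (X.presheaf.stalk x) X.functionField) h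
    rw [algebraMap_germ, map_zero] at h'
    exact ((X.mem_basicOpen f _ hη).mp hf).ne_zero h'
  · rw [algebraMap_germ, toGen_germ]
    exact e

/-- A torsion free stalk injects into the generic stalk. -/
theorem toGen_injective [F.IsQuasicoherent] (x : X)
    (htf : ∀ (a : X.presheaf.stalk x) (v : F.presheaf.stalk x), a ≠ 0 → a • v = 0 → v = 0) :
    Function.Injective (toGen F x) := by
  rw [injective_iff_map_eq_zero]
  intro v hv
  obtain ⟨U, hU, hxU, -⟩ := exists_isAffineOpen_mem_and_subset (X := X) (x := x) (Opens.mem_top x)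
  have hη := (spec x).mem_open U.isOpen hxU
  obtain ⟨f, t, hf, e⟩ := StalkLoc.Basic.exists_smul_eq_germ hU hxU v
  have h0 : F.presheaf.germ U (genericPoint ↥X) hη t = 0 := by
    rw [← toGen_germ hxU, ← e, toGen_smul, hv, smul_zero]
  obtain ⟨g, hg, hgt⟩ := (StalkLoc.Basic.germ_eq_zero_iff hU hη t).mp h0
  refine ((X.mem_basicOpen f x hxU).mp hf).smul_eq_zero.mp (htf (X.presheaf.germ U x hxU g) _ ?_ ?_)
  · intro h
    have h' := congrArg (algebraMap (X.presheaf.stalk x) X.functionField) h
    rw [algebraMap_germ, map_zero] at h'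
    exact ((X.mem_basicOpen g _ hη).mp hg).ne_zero h'
  · rw [e, ← Mero.germ_smul, hgt, map_zero]

theorem toGen_injective_of_isReflexiveAt [F.IsQuasicoherent] (x : X)
    (h : RefHull.IsReflexiveAt F x) : Function.Injective (toGen F x) :=
  toGen_injective x fun _ _ ha e => DualAlg.smul_eq_zero_imp h.bijective_dual_eval'.1 ha e

theorem toGen_injective_of_isReflexive [IsLocallyNoetherian X] (hF : Coh.IsCoh F)
    (hr : RefHull.IsReflexive F) (x : X) : Function.Injective (toGen F x) :=
  haveI := hF.1
  toGen_injective_of_isReflexiveAt x ((Reflexive.isReflexive_iff_forall hF).mp hr x)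

/-- Morphisms into a module with torsion free stalks are determined at the generic point. -/
theorem hom_ext (hinj : ∀ x, Function.Injective (toGen F x)) {φ ψ : G ⟶ F}
    (h : RefHull.stalkMapₗ φ (genericPoint ↥X) = RefHull.stalkMapₗ ψ (genericPoint ↥X)) : φ = ψ :=
  Modules.StalkModule.hom_ext_stalkMapₗ fun x => LinearMap.ext fun v => hinj x (by
    show toGen F x (RefHull.stalkMapₗ φ x v) = toGen F x (RefHull.stalkMapₗ ψ x v)
    rw [toGen_stalkMap, toGen_stalkMap, h])

/-- A generic map carrying stalks into stalks is a morphism. -/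
theorem exists_hom (hinj : ∀ x, Function.Injective (toGen F x))
    (T : G.presheaf.stalk (genericPoint ↥X) →ₗ[X.presheaf.stalk (genericPoint ↥X)]
      F.presheaf.stalk (genericPoint ↥X))
    (hT : ∀ (x : X) (v : G.presheaf.stalk x), ∃ w, toGen F x w = T (toGen G x v)) :
    ∃ ψ : G ⟶ F, RefHull.stalkMapₗ ψ (genericPoint ↥X) = T := by
  choose f hf using hT
  have hsec : ∀ (U : X.Opens) (s : Γ(G, U)), ∃ n : Γ(F, U), ∀ y : U,
      F.presheaf.germ U y.1 y.2 n = f y.1 (G.presheaf.germ U y.1 y.2 s) := fun U s => by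
    refine SecHom.exists_glue U _ fun x => ?_
    obtain ⟨W, hxW, n, hn⟩ := TopCat.Presheaf.exists_germ_eq F.presheaf
      (f x.1 (G.presheaf.germ U x.1 x.2 s))
    refine ⟨W ⊓ U, ⟨hxW, x.2⟩, inf_le_right, TensorMod.Dual.rs F inf_le_left n,
      fun y => hinj y.1 ?_⟩
    rw [hf, SecHom.germ_rs, toGen_germ, toGen_germ]
    have e := hf x.1 (G.presheaf.germ U x.1 x.2 s)
    rw [← hn, toGen_germ, toGen_germ] at e
    exact e.symm
  choose n hn using hsec
  have hadd : ∀ U s t, n U (s + t) = n U s + n U t := fun U s t => SecHom.sec_ext fun y hy =>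
    hinj y (by rw [map_add, map_add, hn U (s + t) ⟨y, hy⟩, hn U s ⟨y, hy⟩, hn U t ⟨y, hy⟩, hf, hf, hf,
      map_add, map_add, map_add])
  let app : ∀ U : X.Opens, Γ(G, U) →+ Γ(F, U) := fun U => AddMonoidHom.mk' (n U) (hadd U)
  let ψ : G ⟶ F := ⟨PresheafOfModules.homMk
    { app := fun U => AddCommGrpCat.ofHom (app U.unop)
      naturality := fun {U V} i => by
        ext s
        refine SecHom.sec_ext fun y hy => ?_
        change F.presheaf.germ V.unop y hy (n V.unop (G.presheaf.map i s)) =
          F.presheaf.germ V.unop y hy (F.presheaf.map i (n U.unop s))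
        rw [hn V.unop _ ⟨y, hy⟩, TopCat.Presheaf.germ_res_apply' F.presheaf i y hy,
          hn U.unop s ⟨y, i.unop.le hy⟩]
        exact congrArg (f y) (TopCat.Presheaf.germ_res_apply' G.presheaf i y hy s) }
    (fun U r s => SecHom.sec_ext fun y hy => hinj y (by
      change toGen F y (F.presheaf.germ U.unop y hy (n U.unop (show Γ(G, U.unop) from r • s))) =
        toGen F y (F.presheaf.germ U.unop y hy
          ((show Γ(X, U.unop) from r) • n U.unop (show Γ(G, U.unop) from s)))
      rw [hn U.unop _ ⟨y, hy⟩, hf, Mero.germ_smul, toGen_smul, hn U.unop _ ⟨y, hy⟩, hf,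
        ← LinearMap.map_smul T]
      exact congrArg T (((congrArg (toGen G y) (Mero.germ_smul G U.unop y hy r s)).trans
        (toGen_smul y _ _)))))⟩
  refine ⟨ψ, LinearMap.ext fun v => ?_⟩
  obtain ⟨U, hη, s, rfl⟩ := TopCat.Presheaf.exists_germ_eq G.presheaf v
  rw [RefHull.stalkMapₗ_germ]
  change F.presheaf.germ U _ hη (n U s) = _
  rw [← toGen_germ hη, hn U s ⟨_, hη⟩, hf, toGen_germ]

/-! ### Normal schemes -/

theorem isPrincipalIdealRing_of_dim_le_one [IsLocallyNoetherian X] (hX : Pi1.IsNormalScheme X)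
    (x : X) (hx : ringKrullDim (X.presheaf.stalk x) ≤ 1) :
    IsPrincipalIdealRing (X.presheaf.stalk x) := by
  haveI := (hX x).2
  have h1 : Ring.KrullDimLE 1 (X.presheaf.stalk x) := (Ring.krullDimLE_iff).mpr hx
  rw [Ring.krullDimLE_one_iff_of_noZeroDivisors] at h1
  exact ((tfae_of_isNoetherianRing_of_isLocalRing_of_isDomain (R := X.presheaf.stalk x)).out 3 0
    rfl rfl).mp ⟨inferInstance, fun P hP hprime => IsLocalRing.eq_maximalIdeal (h1 P hP hprime)⟩

/-- The codimension one generization attached to a height one prime of a local ring. -/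
theorem exists_generization_of_height_one [IsLocallyNoetherian X] {U : X.Opens} (hU : IsAffineOpen U)
    {x : X} (hx : x ∈ U) (p : Ideal (X.presheaf.stalk x)) [p.IsPrime] (hp : p.height = 1) :
    ∃ (y : X) (hy : y ∈ U), y ⤳ x ∧ ringKrullDim (X.presheaf.stalk y) = 1 ∧
      (hU.primeIdealOf ⟨y, hy⟩).asIdeal = p.comap (X.presheaf.germ U x hx).hom := by
  letI := TopCat.Presheaf.algebra_section_stalk X.presheaf (⟨x, hx⟩ : U)
  haveI := hU.isLocalization_stalk ⟨x, hx⟩
  haveI : (p.comap (X.presheaf.germ U x hx).hom).IsPrime := Ideal.IsPrime.comap _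
  obtain ⟨y, hy, hq⟩ := AssPt.Basic.exists_point_of_prime hU (p.comap (X.presheaf.germ U x hx).hom)
  refine ⟨y, hy, (AssPt.Basic.specializes_iff_primeIdealOf hU hx hy).mpr ?_, ?_, hq⟩
  · rw [hq]
    intro a ha
    by_contra hax
    exact ‹p.IsPrime›.ne_top (Ideal.eq_top_of_isUnit_mem _ ha
      (IsLocalization.map_units (X.presheaf.stalk x)
        (⟨a, hax⟩ : (hU.primeIdealOf ⟨x, hx⟩).asIdeal.primeCompl)))
  · rw [Ideal.Prime.ringKrullDim_stalk_eq_height hU hy, hq]
    have h := IsLocalization.height_under (hU.primeIdealOf ⟨x, hx⟩).asIdeal.primeCompl p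
    exact_mod_cast h.trans hp

/-- An element of the function field lying in all the local rings at codimension one
generizations of `x` lies in the local ring at `x`. -/
theorem mem_range_of_codim_one [IsLocallyNoetherian X] (hX : Pi1.IsNormalScheme X) (x : X)
    (k : X.functionField)
    (h : ∀ y : X, y ⤳ x → ringKrullDim (X.presheaf.stalk y) = 1 →
      ∃ a, algebraMap (X.presheaf.stalk y) X.functionField a = k) :
    ∃ a, algebraMap (X.presheaf.stalk x) X.functionField a = k := by
  haveI := (hX x).2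
  refine NormalAlg.mem_range_of_forall_height_one k fun p hp hp1 => ?_
  obtain ⟨U, hU, hxU, -⟩ := exists_isAffineOpen_mem_and_subset (X := X) (x := x) (Opens.mem_top x)
  obtain ⟨y, hyU, hyx, hy1, hq⟩ := exists_generization_of_height_one hU hxU p hp1
  obtain ⟨a, ha⟩ := h y hyx hy1
  letI := TopCat.Presheaf.algebra_section_stalk X.presheaf (⟨y, hyU⟩ : U)
  haveI := hU.isLocalization_stalk ⟨y, hyU⟩
  obtain ⟨⟨r, g⟩, hg⟩ := IsLocalization.surj (hU.primeIdealOf ⟨y, hyU⟩).asIdeal.primeCompl a
  refine ⟨X.presheaf.germ U x hxU r, X.presheaf.germ U x hxU g.1, fun hmem => g.2 ?_, ?_⟩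
  · exact (SetLike.ext_iff.mp hq g.1).mpr hmem
  · have e := congrArg (algebraMap (X.presheaf.stalk y) X.functionField) hg
    rw [map_mul, ha] at e
    rw [algebraMap_germ, algebraMap_germ, mul_comm]
    rw [show algebraMap Γ(X, U) (X.presheaf.stalk y) g.1 = X.presheaf.germ U y hyU g.1 from rfl,
      show algebraMap Γ(X, U) (X.presheaf.stalk y) r = X.presheaf.germ U y hyU r from rfl,
      algebraMap_germ, algebraMap_germ] at e
    exact e

/-- A reflexive coherent module on a normal scheme is determined in codimension one. -/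
theorem mem_range_toGen [IsLocallyNoetherian X] (hX : Pi1.IsNormalScheme X) (hF : Coh.IsCoh F)
    {x : X} (hr : RefHull.IsReflexiveAt F x) (w : F.presheaf.stalk (genericPoint ↥X))
    (h : ∀ y : X, y ⤳ x → ringKrullDim (X.presheaf.stalk y) = 1 → ∃ v, toGen F y v = w) :
    ∃ v, toGen F x v = w := by
  haveI := hF.1
  haveI := (hX x).2
  haveI : Module.IsReflexive (X.presheaf.stalk x) (F.presheaf.stalk x) := hr
  let K := X.functionField
  obtain ⟨b, v, hb, hbv⟩ := exists_frac x w
  have hbK : algebraMap (X.presheaf.stalk x) K b ≠ 0 := algebraMap_ne_zero hb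
  have hdiv : ∀ θ : Module.Dual (X.presheaf.stalk x) (F.presheaf.stalk x), ∃ a, b * a = θ v := by
    intro θ
    obtain ⟨a, ha⟩ := NormalAlg.mem_range_of_forall_height_one
      (algebraMap (X.presheaf.stalk x) K (θ v) / algebraMap (X.presheaf.stalk x) K b) fun p hp hp1 => by
      obtain ⟨U, hU, hxU, -⟩ := exists_isAffineOpen_mem_and_subset (X := X) (x := x) (Opens.mem_top x)
      obtain ⟨y, hyU, hyx, hy1, hq⟩ := exists_generization_of_height_one hU hxU p hp1
      obtain ⟨vy, hvy⟩ := h y hyx hy1
      obtain ⟨g, t, hg, e⟩ := StalkLoc.Basic.exists_smul_eq_germ hU hyU vy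
      have key : X.presheaf.germ U x hxU g • v = b • F.presheaf.germ U x hxU t := by
        apply toGen_injective_of_isReflexiveAt x hr
        rw [toGen_smul, toGen_smul, ← hbv, algebraMap_germ, toGen_germ, ← toGen_germ hyU, ← e,
          toGen_smul, algebraMap_germ, hvy, smul_comm]
      refine ⟨θ (F.presheaf.germ U x hxU t), X.presheaf.germ U x hxU g, fun hmem => ?_, ?_⟩
      · have e1 : hU.fromSpec (hU.primeIdealOf ⟨y, hyU⟩) ∈ X.basicOpen g := by
          rw [hU.fromSpec_primeIdealOf]; exact hg
        have e2 : hU.primeIdealOf ⟨y, hyU⟩ ∈ hU.fromSpec ⁻¹ᵁ X.basicOpen g := e1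
        rw [hU.fromSpec_preimage_basicOpen] at e2
        refine (PrimeSpectrum.mem_basicOpen _ _).mp e2 ?_
        rw [hq]; exact hmem
      · rw [← mul_div_assoc, div_eq_iff hbK, ← map_mul, ← map_mul, ← smul_eq_mul, ← map_smul, key,
          map_smul, smul_eq_mul, mul_comm]
    refine ⟨a, IsFractionRing.injective (X.presheaf.stalk x) K ?_⟩
    rw [map_mul, ha, mul_div_cancel₀ _ hbK]
  choose a ha using hdiv
  let φ : Module.Dual (X.presheaf.stalk x) (Module.Dual (X.presheaf.stalk x) (F.presheaf.stalk x)) :=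
    { toFun := a
      map_add' := fun θ θ' => mul_left_cancel₀ hb (by
        rw [mul_add, ha, ha, ha, LinearMap.add_apply])
      map_smul' := fun r θ => mul_left_cancel₀ hb (by
        rw [RingHom.id_apply, ha, LinearMap.smul_apply, smul_eq_mul, smul_eq_mul, mul_left_comm, ha]) }
  obtain ⟨v', hv'⟩ := (Module.bijective_dual_eval (X.presheaf.stalk x) (F.presheaf.stalk x)).2 φ
  refine ⟨v', ?_⟩
  have hbv' : b • v' = v := (Module.bijective_dual_eval (X.presheaf.stalk x) (F.presheaf.stalk x)).1
    (LinearMap.ext fun θ => by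
      rw [map_smul, hv', LinearMap.smul_apply, smul_eq_mul]
      exact ha θ)
  have e := congrArg (toGen F x) hbv'
  rw [toGen_smul, ← hbv] at e
  exact smul_right_injective _ hbK e

/-- At points of codimension at most one every element of the bidual stalk comes from the module. -/
theorem stalkMap_bidual_surjective [IsLocallyNoetherian X] (hX : Pi1.IsNormalScheme X)
    (hF : Coh.IsCoh F) (x : X) (hx : ringKrullDim (X.presheaf.stalk x) ≤ 1) :
    Function.Surjective (RefHull.stalkMapₗ (RefHull.bidualMap F) x) := by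
  haveI := isPrincipalIdealRing_of_dim_le_one hX x hx
  haveI := Reflexive.finite_stalk hF x
  intro w
  obtain ⟨v, hv⟩ := DualAlg.eval_surjective_of_pid (R := X.presheaf.stalk x)
    (M := F.presheaf.stalk x)
    (Reflexive.biEquiv hF x (RefHull.evalStalk (RefHull.dual F) (Coh.structureModule X) x w))
  refine ⟨v, (HomSh.evalStalk_bijective (Reflexive.isCoh_dual hF) x).1 ?_⟩
  rw [Reflexive.evalStalk_stalkMap_bidual]
  exact (Reflexive.biEquiv hF x).injective ((Reflexive.biEquiv_bidualAt hF x v).trans hv)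

/-- The biduality map is bijective at the generic point. -/
theorem stalkMap_bidual_bijective_genericPoint [IsLocallyNoetherian X] (hF : Coh.IsCoh F) :
    Function.Bijective (RefHull.stalkMapₗ (RefHull.bidualMap F) (genericPoint ↥X)) := by
  rw [Reflexive.bijective_stalkMap_bidual_iff hF]
  haveI := Reflexive.finite_stalk hF (genericPoint ↥X)
  haveI : Module.Finite X.functionField (F.presheaf.stalk (genericPoint ↥X)) := this
  exact (inferInstance : Module.IsReflexive X.functionField (F.presheaf.stalk (genericPoint ↥X)))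

theorem extends_to_ddual_iff [IsLocallyNoetherian X] (hX : Pi1.IsNormalScheme X) (hF : Coh.IsCoh F)
    (T : G.presheaf.stalk (genericPoint ↥X) →ₗ[X.presheaf.stalk (genericPoint ↥X)]
      F.presheaf.stalk (genericPoint ↥X)) :
    (∃ ψ : G ⟶ RefHull.ddual F, RefHull.stalkMapₗ ψ (genericPoint ↥X) =
        (RefHull.stalkMapₗ (RefHull.bidualMap F) (genericPoint ↥X)).comp T) ↔
      ∀ x : X, ringKrullDim (X.presheaf.stalk x) = 1 →
        Set.MapsTo T (Set.range (toGen G x)) (Set.range (toGen F x)) := by
  constructor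
  · rintro ⟨ψ, hψ⟩ x hx _ ⟨g, rfl⟩
    obtain ⟨f, hf⟩ := stalkMap_bidual_surjective hX hF x hx.le (RefHull.stalkMapₗ ψ x g)
    refine ⟨f, (stalkMap_bidual_bijective_genericPoint hF).1 ?_⟩
    rw [← toGen_stalkMap, hf, toGen_stalkMap, hψ]
    rfl
  · intro h
    have hd := Reflexive.isCoh_ddual hF
    have hr : RefHull.IsReflexive (RefHull.ddual F) :=
      Reflexive.isReflexive_dual (Reflexive.isCoh_dual hF)
    refine exists_hom (toGen_injective_of_isReflexive hd hr) _ fun x v => ?_
    refine mem_range_toGen hX hd ((Reflexive.isReflexive_iff_forall hd).mp hr x) _ fun y hyx hy => ?_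
    have hgy : ∃ g, toGen G y g = toGen G x v := by
      refine ⟨(G.presheaf.stalkSpecializes hyx).hom v, ?_⟩
      obtain ⟨U, hxU, s, rfl⟩ := TopCat.Presheaf.exists_germ_eq G.presheaf v
      erw [TopCat.Presheaf.germ_stalkSpecializes_apply G.presheaf hxU hyx]
      rw [toGen_germ, toGen_germ]
    obtain ⟨f, hf⟩ := h y hy hgy
    exact ⟨RefHull.stalkMapₗ (RefHull.bidualMap F) y f, by rw [toGen_stalkMap, hf]; rfl⟩

end Groth.Agent.Lib.RefHull.Generic
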