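import Groth.Agent.H95.ExtPowQCoh
import Groth.Agent.Lib.RefHull.Generic
import Groth.Agent.Lib.CohBasics.Closure
import Groth.Prelude.Def_ExtPow2
import Mathlib.LinearAlgebra.ExteriorPower.Basis
import Mathlib.LinearAlgebra.Determinant

/-!
# The generic stalk of a top exterior power and determinants
-/

universe u

noncomputable section

open CategoryTheory AlgebraicGeometry TopologicalSpace Opposite exteriorPower

namespace Groth.Agent.Lib.RefHull.ExtDet

open Groth.Agent.Lib Generic

/-- An alternating map in as many variables as generators is the determinant times its value. -/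
theorem map_sum_smul {R M N : Type*} [CommRing R] [AddCommGroup M] [Module R M] [AddCommGroup N]
    [Module R N] {r : ℕ} (f : M [⋀^Fin r]→ₗ[R] N) (t : Fin r → M) (c : Matrix (Fin r) (Fin r) R) :
    f (fun i => ∑ j, c i j • t j) = c.det • f t := by
  let e := Pi.basisFun R (Fin r)
  let g : (Fin r → R) [⋀^Fin r]→ₗ[R] N := f.compLinearMap (e.constr R t)
  have hg : g = (LinearMap.toSpanSingleton R N (f t)).compAlternatingMap Matrix.detRowAlternating := by
    refine Module.Basis.ext_alternating e fun v hv => ?_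
    let σ := Equiv.ofBijective v ⟨hv, Finite.injective_iff_surjective.mp hv⟩
    have hσ : v = σ := rfl
    rw [hσ]
    show g ((fun j => e j) ∘ σ) = LinearMap.toSpanSingleton R N (f t)
      (Matrix.detRowAlternating ((fun j => e j) ∘ σ))
    rw [g.map_perm, AlternatingMap.map_perm, map_zsmul_unit]
    congr 1
    have h1 : g (fun j => e j) = f t := congrArg f (funext fun j => e.constr_basis R t j)
    have h2 : Matrix.detRowAlternating (fun j => e j) = (1 : R) := by
      show Matrix.det (fun j => e j) = 1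
      rw [← Matrix.det_one (n := Fin r) (R := R)]
      congr 1
      ext i j
      simp [e, Matrix.one_apply, Pi.single_apply, eq_comm]
    rw [h1, h2, LinearMap.toSpanSingleton_apply, one_smul]
  have h := AlternatingMap.congr_fun hg c
  refine Eq.trans (congrArg f (funext fun i => ?_)) h
  rw [Module.Basis.constr_apply_fintype]
  exact Finset.sum_congr rfl fun j _ => by simp [e]

variable {X : Scheme.{u}} [IsIntegral X] {F L : X.Modules} {r : ℕ}

/-- The determinant of the coordinates of `r` rational sections. -/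
def dt (B : Module.Basis (Fin r) X.functionField (F.presheaf.stalk (genericPoint ↥X)))
    (v : Fin r → F.presheaf.stalk (genericPoint ↥X)) : X.functionField :=
  Matrix.det (Matrix.of fun i j => B.repr (v i) j)

theorem dt_mul (B : Module.Basis (Fin r) X.functionField (F.presheaf.stalk (genericPoint ↥X)))
    (c : Fin r → F.presheaf.stalk (genericPoint ↥X)) (A : Matrix (Fin r) (Fin r) X.functionField) :
    dt B (fun i => ∑ j, A i j • c j) = A.det * dt B c := by
  rw [dt, dt, ← Matrix.det_mul]
  congr 1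
  ext i k
  simp [Matrix.mul_apply, map_sum, Finsupp.coe_finsetSum, Finset.sum_apply]

theorem dt_ne_zero (B : Module.Basis (Fin r) X.functionField (F.presheaf.stalk (genericPoint ↥X)))
    {c : Fin r → F.presheaf.stalk (genericPoint ↥X)} (hc : LinearIndependent X.functionField c) :
    dt B c ≠ 0 := by
  have h : LinearIndependent X.functionField (fun i => B.equivFun (c i)) :=
    hc.map' B.equivFun.toLinearMap B.equivFun.ker
  exact ((Matrix.isUnit_iff_isUnit_det _).mp ((Matrix.linearIndependent_rows_iff_isUnit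
    (A := Matrix.of fun i j => B.repr (c i) j)).mp h)).ne_zero

theorem exists_alt (B : Module.Basis (Fin r) X.functionField (F.presheaf.stalk (genericPoint ↥X)))
    (W : X.Opens) (hη : genericPoint ↥X ∈ W) :
    letI : Module Γ(X, W) X.functionField :=
      Module.compHom _ (X.presheaf.germ W (genericPoint ↥X) hη).hom
    ∃ D : Γ(F, W) [⋀^Fin r]→ₗ[Γ(X, W)] X.functionField,
      ∀ v, D v = dt B (fun i => F.presheaf.germ W _ hη (v i)) := by
  letI : Module Γ(X, W) X.functionField :=
    Module.compHom _ (X.presheaf.germ W (genericPoint ↥X) hη).hom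
  classical
  let g : Γ(F, W) →+ (Fin r → X.functionField) :=
    { toFun := fun x j => B.repr (F.presheaf.germ W _ hη x) j
      map_zero' := by funext j; simp
      map_add' := fun a b => by funext j; simp }
  have hg : ∀ (q : Γ(X, W)) x, g (q • x) = X.presheaf.germ W _ hη q • g x := fun q x => by
    funext j
    show B.repr (F.presheaf.germ W _ hη (q • x)) j = _ * B.repr (F.presheaf.germ W _ hη x) j
    rw [Mero.germ_smul F W _ hη q x, map_smul]
    rfl
  have hu : ∀ (v : Fin r → Γ(F, W)) i x, (fun k => g (Function.update v i x k)) =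
      Function.update (fun k => g (v k)) i (g x) := fun v i x => Function.comp_update g v i x
  refine ⟨{ toFun := fun v => Matrix.detRowAlternating (fun k => g (v k))
            map_update_add' := fun {_} v i a b => ?_
            map_update_smul' := fun {_} v i q a => ?_
            map_eq_zero_of_eq' := fun v i j hij hne =>
              Matrix.detRowAlternating.map_eq_zero_of_eq _ (by show g (v i) = g (v j); rw [hij]) hne },
    fun v => rfl⟩
  · rename_i d
    obtain rfl := Subsingleton.elim d (instDecidableEqFin r)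
    show Matrix.detRowAlternating (fun k => g (Function.update v i (a + b) k)) =
      Matrix.detRowAlternating (fun k => g (Function.update v i a k)) +
        Matrix.detRowAlternating (fun k => g (Function.update v i b k))
    rw [hu, hu, hu, map_add g]
    exact Matrix.detRowAlternating.map_update_add _ i _ _
  · rename_i d
    obtain rfl := Subsingleton.elim d (instDecidableEqFin r)
    show Matrix.detRowAlternating (fun k => g (Function.update v i (q • a) k)) =
      X.presheaf.germ W _ hη q • Matrix.detRowAlternating (fun k => g (Function.update v i a k))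
    rw [hu, hu, hg]
    exact Matrix.detRowAlternating.map_update_smul _ i _ _

variable (hL : ExtPow.IsExtPow r F L)

include hL in
/-- The exterior power of a coherent module is coherent. -/
theorem isCoh [IsLocallyNoetherian X] (hF : Coh.IsCoh F) : Coh.IsCoh L := by
  haveI := hF.1
  obtain ⟨φ, hφ⟩ := hL
  haveI : L.IsQuasicoherent := H95.ExtPowQCoh.isQuasicoherent_of_loc r φ hφ
  refine CohBasics.Closure.isCoh_of_finite_sections fun U hU => ?_
  haveI := CohBasics.Closure.finite_sections hF hU
  haveI : Module.Finite Γ(X, U) (F.val.obj (op U)) := CohBasics.Closure.finite_sections hF hU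
  exact Module.Finite.equiv (φ ⟨U, hU⟩).symm

set_option maxHeartbeats 1600000 in
include hL in
theorem exists_det (B : Module.Basis (Fin r) X.functionField (F.presheaf.stalk (genericPoint ↥X))) :
    ∃ ω : L.presheaf.stalk (genericPoint ↥X), ω ≠ 0 ∧ (∀ w, ∃ a : X.functionField, a • ω = w) ∧
      (∀ (y : X) (c : Fin r → F.presheaf.stalk y),
        ∃ ℓ : L.presheaf.stalk y, toGen L y ℓ = dt B (fun i => toGen F y (c i)) • ω) ∧
      ∀ (y : X) (c : Fin r → F.presheaf.stalk y),
        (∀ v, ∃ a : Fin r → X.presheaf.stalk y, toGen F y v =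
          ∑ j, algebraMap (X.presheaf.stalk y) X.functionField (a j) • toGen F y (c j)) →
        ∀ ℓ : L.presheaf.stalk y, ∃ a : X.presheaf.stalk y, toGen L y ℓ =
          (algebraMap (X.presheaf.stalk y) X.functionField a * dt B (fun i => toGen F y (c i))) • ω := by
  classical
  obtain ⟨φ₀, hφ₀⟩ := hL
  let φ : ∀ U : X.affineOpens, Γ(L, U.1) ≃ₗ[Γ(X, U.1)] ↥(⋀[Γ(X, U.1)]^r Γ(F, U.1)) := φ₀
  have hφ : ∀ (U V : X.affineOpens) (h : V.1 ≤ U.1) (e : Fin r → Γ(F, U.1)),
      L.presheaf.map (homOfLE h).op ((φ U).symm (ιMulti _ r e)) =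
        (φ V).symm (ιMulti _ r (fun j => F.presheaf.map (homOfLE h).op (e j))) := hφ₀
  have hgp : ∀ {U : X.Opens}, (U : Set X).Nonempty → genericPoint ↥X ∈ U := fun h =>
    (genericPoint_spec ↥X).mem_open_set_iff (Opens.isOpen _) |>.mpr (by simpa using h)
  -- an affine open with sections giving the basis
  choose U₀ hU₀ s hs using fun j => TopCat.Presheaf.exists_germ_eq F.presheaf (B j)
  obtain ⟨V₀, hV₀, hη₀, hle₀⟩ := exists_isAffineOpen_mem_and_subset (X := X)
    (x := genericPoint ↥X) (U := ⟨⋂ j, (U₀ j : Set X), isOpen_iInter_of_finite fun j => (U₀ j).2⟩)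
    (Set.mem_iInter.mpr hU₀)
  have hle : ∀ j, V₀ ≤ U₀ j := fun j y hy => Set.mem_iInter.mp (hle₀ hy) j
  let t : Fin r → Γ(F, V₀) := fun j => F.presheaf.map (homOfLE (hle j)).op (s j)
  have hgr : ∀ (M : X.Modules) {U V : X.Opens} (h : V ≤ U) (y : X) (hy : y ∈ V) (m : Γ(M, U)),
      M.presheaf.germ V y hy (M.presheaf.map (homOfLE h).op m) = M.presheaf.germ U y (h hy) m :=
    fun M U V h y hy m => TopCat.Presheaf.germ_res_apply M.presheaf (homOfLE h) y hy m
  have ht : ∀ j, F.presheaf.germ V₀ _ hη₀ (t j) = B j := fun j => by rw [hgr]; exact hs j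
  set ω := L.presheaf.germ V₀ (genericPoint ↥X) hη₀ ((φ ⟨V₀, hV₀⟩).symm (ιMulti _ r t)) with hω
  have hgs : ∀ (M : X.Modules) {U : X.Opens} (y : X) (hy : y ∈ U) (a : Γ(X, U)) (m : Γ(M, U)),
      M.presheaf.germ U y hy (a • m) = X.presheaf.germ U y hy a • M.presheaf.germ U y hy m :=
    fun M U y hy a m => Mero.germ_smul M U y hy a m
  -- the formula on pure wedges
  have key : ∀ (V : X.affineOpens) (hη : genericPoint ↥X ∈ V.1) (v : Fin r → Γ(F, V.1)),
      L.presheaf.germ V.1 _ hη ((φ V).symm (ιMulti _ r v)) =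
        dt B (fun i => F.presheaf.germ V.1 _ hη (v i)) • ω := by
    intro V hη v
    choose Wc hWc cc hcc using fun p : Fin r × Fin r => TopCat.Presheaf.exists_germ_eq X.presheaf
      (x := genericPoint ↥X) (B.repr (F.presheaf.germ V.1 _ hη (v p.1)) p.2)
    let O : X.Opens := V.1 ⊓ V₀ ⊓ ⟨⋂ p, (Wc p : Set X), isOpen_iInter_of_finite fun p => (Wc p).2⟩
    have hηO : genericPoint ↥X ∈ O :=
      Opens.mem_inf.mpr ⟨Opens.mem_inf.mpr ⟨hη, hη₀⟩, Set.mem_iInter.mpr hWc⟩
    have hOV : O ≤ V.1 := inf_le_left.trans inf_le_left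
    have hOV₀ : O ≤ V₀ := inf_le_left.trans inf_le_right
    have hOW : ∀ p, O ≤ Wc p := fun p y hy => Set.mem_iInter.mp (Opens.mem_inf.mp hy).2 p
    have heq : ∀ i, F.presheaf.germ O _ hηO (F.presheaf.map (homOfLE hOV).op (v i)) =
        F.presheaf.germ O _ hηO (∑ j, X.presheaf.map (homOfLE (hOW (i, j))).op (cc (i, j)) •
          F.presheaf.map (homOfLE hOV₀).op (t j) : Γ(F, O)) := by
      intro i
      refine Eq.trans ?_ (map_sum (F.presheaf.germ O _ hηO).hom _ _).symm
      rw [hgr]
      refine (B.sum_repr _).symm.trans (Finset.sum_congr rfl fun j _ => ?_)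
      refine Eq.trans ?_ (hgs F _ hηO _ _).symm
      rw [hgr, ht]
      congr 1
      exact ((TopCat.Presheaf.germ_res_apply X.presheaf _ _ _ _).trans (hcc (i, j))).symm
    choose W' hW' i₁ i₂ he using fun i => F.presheaf.germ_eq (genericPoint ↥X) hηO hηO _ _ (heq i)
    obtain ⟨W, hW, hηW, hWle⟩ := exists_isAffineOpen_mem_and_subset (X := X)
      (x := genericPoint ↥X)
      (U := O ⊓ ⟨⋂ i, (W' i : Set X), isOpen_iInter_of_finite fun i => (W' i).2⟩)
      (Opens.mem_inf.mpr ⟨hηO, Set.mem_iInter.mpr hW'⟩)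
    have hWO : W ≤ O := fun y hy => (Opens.mem_inf.mp (hWle hy)).1
    have hWV : W ≤ V.1 := hWO.trans hOV
    have hWV₀ : W ≤ V₀ := hWO.trans hOV₀
    let c : Matrix (Fin r) (Fin r) Γ(X, W) := fun i j =>
      X.presheaf.map (homOfLE (hWO.trans (hOW (i, j)))).op (cc (i, j))
    have hv : ∀ i, F.presheaf.map (homOfLE hWV).op (v i) =
        ∑ j, c i j • (F.presheaf.map (homOfLE hWV₀).op (t j)) := by
      intro i
      have hWW : W ≤ W' i := fun y hy => Set.mem_iInter.mp (Opens.mem_inf.mp (hWle hy)).2 i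
      have h := congrArg (F.presheaf.map (homOfLE hWW).op) (he i)
      simp only [map_sum, Scheme.Modules.map_smul, ← ConcreteCategory.comp_apply, ← Functor.map_comp] at h
      exact h
    have hι : (φ ⟨W, hW⟩).symm (ιMulti _ r fun i => F.presheaf.map (homOfLE hWV).op (v i)) =
        c.det • (φ ⟨W, hW⟩).symm (ιMulti _ r fun j => F.presheaf.map (homOfLE hWV₀).op (t j)) := by
      rw [funext hv, map_sum_smul, map_smul]
    have h1 := hφ V ⟨W, hW⟩ hWV v
    have h2 := hφ ⟨V₀, hV₀⟩ ⟨W, hW⟩ hWV₀ t
    rw [hι, ← h2] at h1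
    rw [← hgr L hWV _ hηW, h1, hgs, hgr L hWV₀ _ hηW, ← hω]
    congr 1
    show (X.presheaf.germ W (genericPoint ↥X) hηW).hom c.det = _
    rw [RingHom.map_det, dt]
    congr 1
    ext i j
    exact (TopCat.Presheaf.germ_res_apply X.presheaf _ _ _ _).trans (hcc (i, j))
  have keyspan : ∀ (V : X.affineOpens) (hη : genericPoint ↥X ∈ V.1) (m : Γ(L, V.1))
      (P : L.presheaf.stalk (genericPoint ↥X) → Prop), P 0 → (∀ a b, P a → P b → P (a + b)) →
      (∀ (q : Γ(X, V.1)) a, P a → P (X.presheaf.germ V.1 _ hη q • a)) →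
      (∀ v : Fin r → Γ(F, V.1), P (dt B (fun i => F.presheaf.germ V.1 _ hη (v i)) • ω)) →
      P (L.presheaf.germ V.1 _ hη m) := by
    intro V hη m P h0 hadd hsmul hpure
    obtain ⟨z, rfl⟩ := (φ V).symm.surjective m
    have hz : z ∈ Submodule.span Γ(X, V.1) (Set.range (ιMulti Γ(X, V.1) r (M := Γ(F, V.1)))) := by
      rw [exteriorPower.ιMulti_span]; trivial
    induction hz using Submodule.span_induction with
    | mem z hz => obtain ⟨v, rfl⟩ := hz; rw [key V hη v]; exact hpure v
    | zero => rw [map_zero, map_zero]; exact h0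
    | add a b _ _ ha hb => rw [map_add, map_add]; exact hadd _ _ ha hb
    | smul q a _ ha => rw [map_smul, hgs]; exact hsmul q _ ha
  refine ⟨ω, ?_, fun w => ?_, fun y c => ?_, fun y c hc ℓ => ?_⟩
  · intro h0
    obtain ⟨W', hW', i₁, i₂, he⟩ := L.presheaf.germ_eq (genericPoint ↥X) hη₀ hη₀
      ((φ ⟨V₀, hV₀⟩).symm (ιMulti _ r t)) 0 (h0.trans (map_zero _).symm)
    obtain ⟨W, hW, hηW, hWle⟩ := exists_isAffineOpen_mem_and_subset (X := X) hW'
    have hWV : W ≤ V₀ := hWle.trans (leOfHom i₁)
    have h2 := hφ ⟨V₀, hV₀⟩ ⟨W, hW⟩ hWV t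
    have hz : L.presheaf.map (homOfLE hWV).op ((φ ⟨V₀, hV₀⟩).symm (ιMulti _ r t)) = 0 := by
      have h := congrArg (L.presheaf.map (homOfLE hWle).op) he
      rw [map_zero, map_zero] at h
      exact (ConcreteCategory.congr_hom (L.presheaf.map_comp i₁.op (homOfLE (show W ≤ W' from hWle)).op) _).trans h
    rw [hz] at h2
    have h3 : ιMulti Γ(X, W) r (fun j => F.presheaf.map (homOfLE hWV).op (t j)) = 0 :=
      (φ ⟨W, hW⟩).symm.injective (h2.symm.trans (map_zero _).symm)
    letI : Module Γ(X, W) X.functionField :=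
      Module.compHom _ (X.presheaf.germ W (genericPoint ↥X) hηW).hom
    obtain ⟨D, hD⟩ := exists_alt B W hηW
    have h4 := congrArg (exteriorPower.alternatingMapLinearEquiv D) h3
    rw [exteriorPower.alternatingMapLinearEquiv_apply_ιMulti, map_zero] at h4
    rw [hD] at h4
    have h5 : (fun i => F.presheaf.germ W _ hηW (F.presheaf.map (homOfLE hWV).op (t i))) = B :=
      funext fun i => by rw [hgr]; exact ht i
    rw [h5] at h4
    exact dt_ne_zero B B.linearIndependent h4
  · obtain ⟨U, hU, m, rfl⟩ := TopCat.Presheaf.exists_germ_eq L.presheaf w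
    obtain ⟨V, hV, hηV, hVU⟩ := exists_isAffineOpen_mem_and_subset (X := X) hU
    rw [← hgr L hVU _ hηV m]
    exact keyspan ⟨V, hV⟩ hηV _ (fun w => ∃ a : X.functionField, a • ω = w) ⟨0, zero_smul _ _⟩
      (fun _ _ ⟨a, ha⟩ ⟨b, hb⟩ => ⟨a + b, by rw [add_smul, ha, hb]⟩)
      (fun q _ ⟨a, ha⟩ => ⟨X.presheaf.germ V _ hηV q * a, by rw [mul_smul, ha]⟩) fun v => ⟨_, rfl⟩
  · choose U hU m hm using fun i => TopCat.Presheaf.exists_germ_eq F.presheaf (c i)
    obtain ⟨V, hV, hyV, hVle⟩ := exists_isAffineOpen_mem_and_subset (X := X) (x := y)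
      (U := ⟨⋂ i, (U i : Set X), isOpen_iInter_of_finite fun i => (U i).2⟩) (Set.mem_iInter.mpr hU)
    have hl : ∀ i, V ≤ U i := fun i z hz => Set.mem_iInter.mp (hVle hz) i
    refine ⟨L.presheaf.germ V y hyV ((φ ⟨V, hV⟩).symm
      (ιMulti _ r fun i => F.presheaf.map (homOfLE (hl i)).op (m i))), ?_⟩
    rw [toGen_germ]
    refine (key ⟨V, hV⟩ _ _).trans ?_
    congr 2
    funext i
    rw [← hm i, toGen_germ, hgr]
  · obtain ⟨U, hU, m, rfl⟩ := TopCat.Presheaf.exists_germ_eq L.presheaf ℓ
    obtain ⟨V, hV, hyV, hVU⟩ := exists_isAffineOpen_mem_and_subset (X := X) hU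
    rw [← hgr L hVU _ hyV m, toGen_germ]
    refine keyspan ⟨V, hV⟩ ((spec y).mem_open V.isOpen hyV) _
      (fun w => ∃ a : X.presheaf.stalk y, w =
        (algebraMap (X.presheaf.stalk y) X.functionField a * dt B (fun i => toGen F y (c i))) • ω)
      ⟨0, by rw [map_zero, zero_mul, zero_smul]⟩
      (fun _ _ ⟨a, ha⟩ ⟨b, hb⟩ => ⟨a + b, by rw [ha, hb, map_add, add_mul, add_smul]⟩)
      (fun q _ ⟨a, ha⟩ => ⟨X.presheaf.germ V y hyV q * a, by
        rw [ha, map_mul, algebraMap_germ, smul_smul, mul_assoc]⟩) fun v => ?_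
    choose a ha using fun i => hc (F.presheaf.germ V y hyV (v i))
    refine ⟨(Matrix.of fun i j => a i j).det, ?_⟩
    rw [RingHom.map_det, ← dt_mul B]
    congr 2
    funext i
    rw [← toGen_germ hyV, ha i]
    rfl

end Groth.Agent.Lib.RefHull.ExtDet
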