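import Groth.Agent.Lib.Depth.Basic
import Groth.Agent.Lib.QCoh.Stalk
import Groth.Agent.Lib.CohBasics.Closure
import Groth.Agent.Lib.AssPt.Basic
import Groth.Agent.Lib.RefHull.LocFree
import Groth.Prelude.Def_RefHull
import Mathlib.RingTheory.Ideal.AssociatedPrime.Basic

/-!
# Morphisms bijective off points of depth two that are not associated to the target
-/

universe u v

noncomputable section

open CategoryTheory AlgebraicGeometry TopologicalSpace Opposite

namespace Groth.Agent.Lib.RefHull.DepthIso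

open Groth.Agent.Lib IsLocalRing RingTheory.Sequence Pointwise

section Alg

variable {R : Type u} [CommRing R] [IsLocalRing R] [IsNoetherianRing R]
  {M : Type v} [AddCommGroup M] [Module R M] [Module.Finite R M]
  {N : Type v} [AddCommGroup N] [Module R N]

omit [IsNoetherianRing R] in
theorem eq_zero_of_maximalIdeal_smul (h : (2 : ℕ∞) ≤ LocCoh.depth R M) (v : M)
    (hv : ∀ a ∈ maximalIdeal R, a • v = 0) : v = 0 := by
  rcases subsingleton_or_nontrivial M with hM | hM
  · exact Subsingleton.elim _ _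
  obtain ⟨rs, hl, hmem, hr⟩ := (Depth.Basic.le_depth_iff 2).mp h
  obtain ⟨x, y, rfl⟩ := List.length_eq_two.mp hl
  have hx := ((isWeaklyRegular_cons_iff M x [y]).mp hr.toIsWeaklyRegular).1
  exact hx ((hv x (hmem x (by simp))).trans (smul_zero x).symm)

theorem mem_range_of_maximalIdeal_smul (h : (2 : ℕ∞) ≤ LocCoh.depth R M)
    (hN : ¬ IsAssociatedPrime (maximalIdeal R) N) (f : M →ₗ[R] N) (hf : Function.Injective f)
    (w : N) (hw : ∀ a ∈ maximalIdeal R, a • w ∈ LinearMap.range f) : w ∈ LinearMap.range f := by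
  have hz : ∀ n : N, (∀ a ∈ maximalIdeal R, a • n = 0) → n = 0 := fun n hn => by
    by_contra hn0
    refine hN (isAssociatedPrime_iff.mpr ⟨inferInstance, n, le_antisymm (fun a ha => ?_) ?_⟩)
    · exact Submodule.mem_colon_singleton.mpr (by rw [Submodule.mem_bot]; exact hn a ha)
    · refine le_maximalIdeal fun htop => hn0 ?_
      have h1 : (1 : R) • n ∈ (⊥ : Submodule R N) :=
        Submodule.mem_colon_singleton.mp (htop.symm ▸ Submodule.mem_top)
      simpa using h1
  rcases subsingleton_or_nontrivial M with hM | hM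
  · refine ⟨0, ?_⟩
    rw [map_zero]
    refine (hz w fun a ha => ?_).symm
    obtain ⟨m, hm⟩ := hw a ha
    rw [← hm, Subsingleton.elim m 0, map_zero]
  obtain ⟨rs, hl, hmem, hr⟩ := (Depth.Basic.le_depth_iff 2).mp h
  obtain ⟨x, y, rfl⟩ := List.length_eq_two.mp hl
  have h2 := (isWeaklyRegular_cons_iff M x [y]).mp hr.toIsWeaklyRegular
  have hy := (isWeaklyRegular_singleton_iff _ y).mp h2.2
  obtain ⟨a, ha⟩ := hw x (hmem x (by simp))
  obtain ⟨b, hb⟩ := hw y (hmem y (by simp))
  have hab : y • a = x • b := hf (by rw [map_smul, map_smul, ha, hb, smul_comm])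
  have hmk : y • (Submodule.Quotient.mk a : QuotSMulTop x M) = y • 0 := by
    rw [smul_zero, ← Submodule.Quotient.mk_smul, hab, Submodule.Quotient.mk_eq_zero]
    exact Submodule.smul_mem_pointwise_smul b x ⊤ trivial
  obtain ⟨c, -, hc⟩ := (Submodule.mem_smul_pointwise_iff_exists _ _ _).mp
    ((Submodule.Quotient.mk_eq_zero _).mp (hy hmk))
  refine ⟨c, (sub_eq_zero.mp (hz (w - f c) fun t ht => ?_)).symm⟩
  obtain ⟨h', ht'⟩ := hw t ht
  have e : h' = t • c := h2.1 (show x • h' = x • (t • c) from hf (by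
    rw [map_smul, ht', smul_comm x t c, map_smul, hc, ha, smul_comm]))
  rw [smul_sub, ← ht', e, map_smul, sub_self]

end Alg

variable {X : Scheme.{u}} [IsLocallyNoetherian X] {F G : X.Modules}

theorem isIso (φ : F ⟶ G) (hF : Coh.IsCoh F) (hG : Coh.IsQCoh G)
    (h : ∀ x : X, Function.Bijective (RefHull.stalkMapₗ φ x) ∨
      ((2 : ℕ∞) ≤ LocCoh.depth (X.presheaf.stalk x) (F.presheaf.stalk x) ∧
        ¬ Curv2.IsAssPoint G x)) : IsIso φ := by
  haveI := hF.1
  haveI : G.IsQuasicoherent := hG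
  have hloc : ∀ {V : X.Opens} (hV : IsAffineOpen V) {z : X} (hz : z ∈ V) (p : Ideal Γ(X, V)),
      (hV.primeIdealOf ⟨z, hz⟩).asIdeal = p → ∀ a ∈ maximalIdeal (X.presheaf.stalk z),
      ∃ r ∈ p, ∃ d : Γ(X, V), IsUnit (X.presheaf.germ V z hz d) ∧
        X.presheaf.germ V z hz d * a = X.presheaf.germ V z hz r := by
    intro V hV z hz p hp a ha
    letI := TopCat.Presheaf.algebra_section_stalk X.presheaf (⟨z, hz⟩ : V)
    haveI := hV.isLocalization_stalk ⟨z, hz⟩
    obtain ⟨⟨r, d⟩, hd⟩ := IsLocalization.surj (hV.primeIdealOf ⟨z, hz⟩).asIdeal.primeCompl a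
    have hd' : X.presheaf.germ V z hz d.1 * a = X.presheaf.germ V z hz r :=
      (mul_comm _ _).trans hd
    refine ⟨r, ?_, d.1, IsLocalization.map_units (X.presheaf.stalk z) d, hd'⟩
    rw [← hp]
    by_contra hr
    have hru := IsLocalization.map_units (X.presheaf.stalk z)
      (⟨r, hr⟩ : (hV.primeIdealOf ⟨z, hz⟩).asIdeal.primeCompl)
    change IsUnit (X.presheaf.germ V z hz r) at hru
    rw [← hd'] at hru
    exact (IsLocalRing.mem_maximalIdeal _).mp ha (isUnit_of_mul_isUnit_right hru)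
  have hinj : ∀ x, Function.Injective (RefHull.stalkMapₗ φ x) := by
    intro x
    rw [injective_iff_map_eq_zero]
    intro v hv
    by_contra hv0
    obtain ⟨V, hV, hxV, -⟩ := exists_isAffineOpen_mem_and_subset (X := X) (x := x) (U := ⊤) trivial
    obtain ⟨f, t, hf, e⟩ := QCoh.Stalk.exists_smul_eq_germ F hV hxV v
    have h1 : G.presheaf.germ V x hxV (φ.app V t) = 0 := by
      rw [← RefHull.stalkMapₗ_germ, ← e, map_smul, hv, smul_zero]
    obtain ⟨g, hg, hgt⟩ := (QCoh.Stalk.germ_eq_zero_iff G hV hxV _).mp h1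
    have ht0 : g • t ≠ 0 := fun h0 => hv0 (by
      have h2 : F.presheaf.germ V x hxV t = 0 := (QCoh.Stalk.germ_eq_zero_iff F hV hxV _).mpr ⟨g, hg, h0⟩
      rw [← e] at h2
      exact ((X.mem_basicOpen f x hxV).mp hf).smul_eq_zero.mp h2)
    haveI : IsNoetherianRing Γ(X, V) := IsLocallyNoetherian.component_noetherian ⟨V, hV⟩
    let K : Submodule Γ(X, V) Γ(F, V) :=
      { carrier := {s | φ.app V s = 0}
        add_mem' := fun {a b} ha hb => by
          show φ.app V (a + b) = 0
          rw [map_add, show φ.app V a = 0 from ha, show φ.app V b = 0 from hb, add_zero]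
        zero_mem' := map_zero _
        smul_mem' := fun r a ha => by
          show φ.app V (r • a) = 0
          rw [Scheme.Modules.Hom.app_smul, show φ.app V a = 0 from ha, smul_zero] }
    have hgK : g • t ∈ K := (Scheme.Modules.Hom.app_smul φ g t).trans hgt
    obtain ⟨p, hp, -⟩ := exists_le_isAssociatedPrime_of_isNoetherianRing Γ(X, V)
      (⟨g • t, hgK⟩ : K) (fun h0 => ht0 (congrArg Subtype.val h0))
    obtain ⟨hpp, ⟨s, hsK⟩, hps⟩ := isAssociatedPrime_iff.mp hp
    obtain ⟨z, hz, hzp⟩ := AssPt.Basic.exists_point_of_prime hV p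
    have hann : ∀ r ∈ p, r • s = 0 := fun r hr => by
      have := Submodule.mem_colon_singleton.mp (hps ▸ hr)
      exact congrArg Subtype.val ((Submodule.mem_bot _).mp this)
    have hne : F.presheaf.germ V z hz s ≠ 0 := fun h0 => by
      obtain ⟨d, hd, hds⟩ := (QCoh.Stalk.germ_eq_zero_iff F hV hz _).mp h0
      refine (QCoh.Stalk.mem_primeIdealOf_compl_iff hV hz d).mpr hd ?_
      show d ∈ (hV.primeIdealOf ⟨z, hz⟩).asIdeal
      rw [hzp, hps]
      exact Submodule.mem_colon_singleton.mpr ((Submodule.mem_bot _).mpr (Subtype.ext hds))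
    have hker : RefHull.stalkMapₗ φ z (F.presheaf.germ V z hz s) = 0 := by
      rw [RefHull.stalkMapₗ_germ, show φ.app V s = 0 from hsK, map_zero]
    rcases h z with hb | ⟨hd, -⟩
    · exact hne (hb.1 (hker.trans (map_zero _).symm))
    · haveI := LocFree.finite_stalk hF z
      refine hne (eq_zero_of_maximalIdeal_smul hd _ fun a ha => ?_)
      obtain ⟨r, hr, d, hdu, e'⟩ := hloc hV hz p hzp a ha
      refine hdu.smul_eq_zero.mp ?_
      rw [smul_smul, e', ← Modules.StalkModule.germ_smul, hann r hr, map_zero]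
  have hsurj : ∀ x, Function.Surjective (RefHull.stalkMapₗ φ x) := by
    intro x w
    by_contra hw
    obtain ⟨V, hV, hxV, -⟩ := exists_isAffineOpen_mem_and_subset (X := X) (x := x) (U := ⊤) trivial
    obtain ⟨f, t, hf, e⟩ := QCoh.Stalk.exists_smul_eq_germ G hV hxV w
    haveI : IsNoetherianRing Γ(X, V) := IsLocallyNoetherian.component_noetherian ⟨V, hV⟩
    let I : Submodule Γ(X, V) Γ(G, V) :=
      { carrier := Set.range (φ.app V)
        add_mem' := by rintro _ _ ⟨a, rfl⟩ ⟨b, rfl⟩; exact ⟨a + b, map_add _ a b⟩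
        zero_mem' := ⟨0, map_zero _⟩
        smul_mem' := by rintro r _ ⟨a, rfl⟩; exact ⟨r • a, Scheme.Modules.Hom.app_smul φ r a⟩ }
    have hI : ∀ (z : X) (hz : z ∈ V) (n : Γ(G, V)), n ∈ I →
        ∃ m, RefHull.stalkMapₗ φ z m = G.presheaf.germ V z hz n := by
      rintro z hz _ ⟨a, rfl⟩
      exact ⟨_, RefHull.stalkMapₗ_germ φ z hz a⟩
    have htI : t ∉ I := fun htI => hw (by
      obtain ⟨m, hm⟩ := hI x hxV t htI
      rw [← e] at hm
      refine ⟨(((X.mem_basicOpen f x hxV).mp hf).unit⁻¹ : (X.presheaf.stalk x)ˣ) • m, ?_⟩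
      rw [Units.smul_def, map_smul, hm, smul_smul, IsUnit.val_inv_mul, one_smul])
    obtain ⟨p, hp, -⟩ := exists_le_isAssociatedPrime_of_isNoetherianRing Γ(X, V)
      (Submodule.Quotient.mk t : Γ(G, V) ⧸ I) (fun h0 => htI ((Submodule.Quotient.mk_eq_zero _).mp h0))
    obtain ⟨hpp, q, hps⟩ := isAssociatedPrime_iff.mp hp
    obtain ⟨s, rfl⟩ := Submodule.Quotient.mk_surjective _ q
    obtain ⟨z, hz, hzp⟩ := AssPt.Basic.exists_point_of_prime hV p
    have hmem : ∀ r, r ∈ p ↔ r • s ∈ I := fun r => by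
      rw [hps, Submodule.mem_colon_singleton, Submodule.mem_bot, ← Submodule.Quotient.mk_smul,
        Submodule.Quotient.mk_eq_zero]
    have hne : ¬ ∃ m, RefHull.stalkMapₗ φ z m = G.presheaf.germ V z hz s := by
      rintro ⟨m, hm⟩
      obtain ⟨d, s', hd, e'⟩ := QCoh.Stalk.exists_smul_eq_germ F hV hz m
      have h1 : G.presheaf.germ V z hz (φ.app V s' - d • s) = 0 := by
        rw [map_sub, Modules.StalkModule.germ_smul, ← RefHull.stalkMapₗ_germ, ← e', map_smul, hm,
          sub_self]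
      obtain ⟨d', hd', h2⟩ := (QCoh.Stalk.germ_eq_zero_iff G hV hz _).mp h1
      rw [smul_sub, sub_eq_zero, ← Scheme.Modules.Hom.app_smul, smul_smul] at h2
      have h3 : d' * d ∈ p := (hmem _).mpr ⟨_, h2⟩
      rw [← hzp] at h3
      rcases (hV.primeIdealOf ⟨z, hz⟩).isPrime.mem_or_mem h3 with h4 | h4
      · exact (QCoh.Stalk.mem_primeIdealOf_compl_iff hV hz d').mpr hd' h4
      · exact (QCoh.Stalk.mem_primeIdealOf_compl_iff hV hz d).mpr hd h4
    rcases h z with hb | ⟨hd, hass⟩
    · exact hne (hb.2 _)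
    · haveI := LocFree.finite_stalk hF z
      refine hne (mem_range_of_maximalIdeal_smul hd hass (RefHull.stalkMapₗ φ z) (hinj z) _
        fun a ha => ?_)
      obtain ⟨r, hr, d, hdu, e'⟩ := hloc hV hz p hzp a ha
      refine (Submodule.smul_mem_iff_of_isUnit _ hdu).mp ?_
      rw [smul_smul, e', ← Modules.StalkModule.germ_smul]
      exact hI z hz _ ((hmem r).mp hr)
  rw [Modules.StalkModule.isIso_iff_stalkMapₗ_bijective]
  exact fun x => ⟨hinj x, hsurj x⟩

end Groth.Agent.Lib.RefHull.DepthIso
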