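import Groth.Agent.Lib.RefHull.HomSh
import Mathlib.CategoryTheory.Limits.IsLimit

/-!
# Morphisms from global sections of the sheaf Hom; sequential colimits detected on stalks
-/

universe u

noncomputable section

open CategoryTheory AlgebraicGeometry TopologicalSpace Opposite

namespace Groth.Agent.Lib.RefHull.Colim

open Groth.Agent.Lib Groth.Agent.Lib.TensorMod.Dual SecHom

variable {X : Scheme.{u}} {F G H : X.Modules}

lemma app_res_map (g : Γ(RefHull.homSh F G, ⊤)) {U V : X.Opens} (h : V ≤ U) (m : Γ(F, U)) :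
    app g le_top (rs F h m) = rs G h (app g le_top m) :=
  sec_ext fun y hy => by rw [germ_app, germ_rs, germ_rs, germ_app]

/-- The morphism defined by a global section of the sheaf Hom. -/
def toHom (g : Γ(RefHull.homSh F G, ⊤)) : F ⟶ G :=
  ⟨PresheafOfModules.homMk
    { app := fun U => AddCommGrpCat.ofHom (app g (le_top (a := U.unop))).toAddMonoidHom
      naturality := fun {U V} i => by
        ext m
        exact app_res_map g i.unop.le m }
    (fun U r m => (app g (le_top (a := U.unop))).map_smul r m)⟩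

lemma stalkMap_toHom (g : Γ(RefHull.homSh F G, ⊤)) (x : X) :
    RefHull.stalkMapₗ (toHom g) x = g.1 ⟨x, Opens.mem_top x⟩ := by
  refine LinearMap.ext fun v => ?_
  obtain ⟨U, hx, m, rfl⟩ := TopCat.Presheaf.exists_germ_eq F.presheaf v
  rw [RefHull.stalkMapₗ_germ]
  exact germ_app g le_top m x hx

lemma stalkMap_comp (φ : F ⟶ G) (ψ : G ⟶ H) (x : X) (v : F.presheaf.stalk x) :
    RefHull.stalkMapₗ (φ ≫ ψ) x v = RefHull.stalkMapₗ ψ x (RefHull.stalkMapₗ φ x v) :=
  LinearMap.congr_fun (Modules.StalkModule.stalkMapₗ_comp φ ψ x) v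

/-- A cocone over a sequence is a colimit when, on every stalk, its legs are jointly surjective and
every element in the kernel of a leg dies further in the sequence. -/
theorem isColimit_of_stalks {K : ℕ ⥤ X.Modules} (c : Limits.Cocone K)
    (hsurj : ∀ (x : X) (v : c.pt.presheaf.stalk x), ∃ (n : ℕ) (w : (K.obj n).presheaf.stalk x),
      RefHull.stalkMapₗ (c.ι.app n) x w = v)
    (hker : ∀ (x : X) (n : ℕ) (w : (K.obj n).presheaf.stalk x),
      RefHull.stalkMapₗ (c.ι.app n) x w = 0 →
        ∃ (m : ℕ) (h : n ≤ m), RefHull.stalkMapₗ (K.map (homOfLE h)) x w = 0) :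
    Nonempty (Limits.IsColimit c) := by
  choose N W hW using hsurj
  have push : ∀ (d : Limits.Cocone K) (x : X) {n m : ℕ} (h : n ≤ m) (w : (K.obj n).presheaf.stalk x),
      RefHull.stalkMapₗ (d.ι.app m) x (RefHull.stalkMapₗ (K.map (homOfLE h)) x w) =
        RefHull.stalkMapₗ (d.ι.app n) x w := fun d x n m h w => by
    rw [← stalkMap_comp, d.w]
  have wd : ∀ (d : Limits.Cocone K) (x : X) {n m : ℕ} (w : (K.obj n).presheaf.stalk x)
      (w' : (K.obj m).presheaf.stalk x),
      RefHull.stalkMapₗ (c.ι.app n) x w = RefHull.stalkMapₗ (c.ι.app m) x w' →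
        RefHull.stalkMapₗ (d.ι.app n) x w = RefHull.stalkMapₗ (d.ι.app m) x w' := by
    intro d x n m w w' h
    set k := max n m
    have hn : n ≤ k := le_max_left n m
    have hm : m ≤ k := le_max_right n m
    obtain ⟨l, hl, h0⟩ := hker x k
      (RefHull.stalkMapₗ (K.map (homOfLE hn)) x w - RefHull.stalkMapₗ (K.map (homOfLE hm)) x w')
      (by rw [map_sub, push, push, h, sub_self])
    rw [← push d x hn, ← push d x hm]
    have e := congrArg (RefHull.stalkMapₗ (d.ι.app l) x) h0
    rw [push, map_zero, map_sub, sub_eq_zero] at e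
    exact e
  let f : ∀ (d : Limits.Cocone K) (x : X), RefHull.StalkHom c.pt d.pt x := fun d x =>
    { toFun := fun v => RefHull.stalkMapₗ (d.ι.app (N x v)) x (W x v)
      map_add' := fun a b => by
        have hn : N x a ≤ max (N x a) (N x b) := le_max_left _ _
        have hm : N x b ≤ max (N x a) (N x b) := le_max_right _ _
        rw [← push d x hn (W x a), ← push d x hm (W x b), ← map_add]
        refine wd d x _ _ ?_
        rw [map_add, push, push, hW, hW, hW]
      map_smul' := fun r a => by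
        rw [RingHom.id_apply, ← map_smul]
        refine wd d x _ _ ?_
        rw [map_smul, hW, hW] }
  have hf : ∀ (d : Limits.Cocone K) (x : X) (n : ℕ) (w : (K.obj n).presheaf.stalk x),
      f d x (RefHull.stalkMapₗ (c.ι.app n) x w) = RefHull.stalkMapₗ (d.ι.app n) x w :=
    fun d x n w => wd d x _ _ (hW _ _)
  have hloc : ∀ d : Limits.Cocone K,
      RefHull.IsLocSect c.pt d.pt (U := ⊤) (fun x => f d x.1) := by
    intro d V i p x
    obtain ⟨n, w, hw⟩ : ∃ n w, RefHull.stalkMapₗ (c.ι.app n) x.1 w =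
        c.pt.presheaf.germ V x.1 x.2 p := ⟨_, _, hW _ _⟩
    obtain ⟨V', hxV', m, rfl⟩ := TopCat.Presheaf.exists_germ_eq (K.obj n).presheaf w
    rw [RefHull.stalkMapₗ_germ] at hw
    obtain ⟨V₁, hx₁, i₁, i₂, e⟩ := TopCat.Presheaf.germ_eq c.pt.presheaf x.1 hxV' x.2 _ _ hw
    refine ⟨V₁, hx₁, i₂, rs d.pt i₁.le ((d.ι.app n).app V' m), fun y => ?_⟩
    have e' := congrArg (c.pt.presheaf.germ V₁ y.1 y.2) e
    erw [TopCat.Presheaf.germ_res_apply, TopCat.Presheaf.germ_res_apply] at e'
    change f d y.1 _ = _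
    rw [← e', ← RefHull.stalkMapₗ_germ, hf, germ_rs, RefHull.stalkMapₗ_germ]
    rfl
  let desc : ∀ d : Limits.Cocone K, c.pt ⟶ d.pt := fun d =>
    toHom ⟨fun x => f d x.1, hloc d⟩
  have hdesc : ∀ d x, RefHull.stalkMapₗ (desc d) x = f d x := fun d x => stalkMap_toHom _ x
  exact ⟨{
    desc := desc
    fac := fun d n => Modules.StalkModule.hom_ext_stalkMapₗ fun x => LinearMap.ext fun w => by
      show RefHull.stalkMapₗ (c.ι.app n ≫ desc d) x w = RefHull.stalkMapₗ (d.ι.app n) x w
      rw [stalkMap_comp, hdesc, hf]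
    uniq := fun d g hg => Modules.StalkModule.hom_ext_stalkMapₗ fun x => LinearMap.ext fun v => by
      show RefHull.stalkMapₗ g x v = RefHull.stalkMapₗ (desc d) x v
      rw [← hW x v, ← stalkMap_comp, hg, hdesc, hf] }⟩

end Groth.Agent.Lib.RefHull.Colim
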