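import Groth.Agent.Lib.RefHull.Pow
import Groth.Agent.Lib.RefHull.Colim
import Groth.Agent.Lib.TensorMod.LocIso

/-!
# The system of reflexive powers and the direct image from the locus where the section generates
-/

universe u

noncomputable section

open CategoryTheory AlgebraicGeometry TopologicalSpace Opposite

namespace Groth.Agent.Lib.RefHull.PowColim

open Groth.Agent.Lib Groth.Agent.Lib.TensorMod Groth.Agent.Lib.TensorMod.Dual SecHom Generic RankOne Ord Divisor DivSheaf DivRef Pow

variable {X : Scheme.{u}}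

/-- The module `j_*(O_X|_U)`. -/
abbrev P (U : X.Opens) : X.Modules :=
  (Scheme.Modules.pushforward U.ι).obj ((Coh.structureModule X).restrict U.ι)

/-- The restriction map `O_X ⟶ j_*(O_X|_U)`. -/
abbrev un (U : X.Opens) : Coh.structureModule X ⟶ P U :=
  (Scheme.Modules.restrictAdjunction U.ι).unit.app (Coh.structureModule X)

/-- The germ of the section `1`. -/
def oneGerm (x : X) : (Coh.structureModule X).presheaf.stalk x :=
  sGerm (𝟙 (Coh.structureModule X)) x

lemma oneGerm_bijective (x : X) :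
    Function.Bijective fun a : X.presheaf.stalk x => a • oneGerm x :=
  (bijective_iff (𝟙 (Coh.structureModule X)) x).mp (by
    have e : ∀ v, RefHull.stalkMapₗ (𝟙 (Coh.structureModule X)) x v = v := fun v => by
      obtain ⟨V, hxV, a, rfl⟩ := TopCat.Presheaf.exists_germ_eq (Coh.structureModule X).presheaf v
      rw [RefHull.stalkMapₗ_germ]
      rfl
    exact ⟨fun a b h => by rwa [e, e] at h, fun v => ⟨v, e v⟩⟩)

lemma stalkMap_oneGerm {G : X.Modules} (t : Coh.structureModule X ⟶ G) (x : X) :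
    RefHull.stalkMapₗ t x (oneGerm x) = sGerm t x :=
  RefHull.stalkMapₗ_germ t (U := ⊤) x (Opens.mem_top x) _

section Sections

variable (U : X.Opens)

/-- The open carrying the sections of `j_*(O_X|_U)` over `V`. -/
abbrev W (V : X.Opens) : X.Opens := U.ι ''ᵁ (U.ι ⁻¹ᵁ V)

lemma W_le (V : X.Opens) : W U V ≤ V := U.ι.image_preimage_le V

lemma mem_W {V : X.Opens} {x : X} : x ∈ W U V ↔ x ∈ U ∧ x ∈ V := by
  rw [W, Scheme.Hom.image_preimage_eq_opensRange_inf, Scheme.Opens.opensRange_ι]
  exact Opens.mem_inf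

lemma W_mono {V V' : X.Opens} (h : V' ≤ V) : W U V' ≤ W U V := fun _ hx =>
  (mem_W U).mpr ⟨((mem_W U).mp hx).1, h ((mem_W U).mp hx).2⟩

lemma un_app (V : X.Opens) (a : Γ(X, V)) :
    ((un U).app V (show Γ(Coh.structureModule X, V) from a) : Γ(X, W U V)) =
      X.presheaf.map (homOfLE (W_le U V)).op a := rfl

lemma rs_P {V V' : X.Opens} (h : V' ≤ V) (c : Γ(P U, V)) :
    (rs (P U) h c : Γ(X, W U V')) = X.presheaf.map (homOfLE (W_mono U h)).op c := rfl

lemma smul_P (V : X.Opens) (f : Γ(X, V)) (c : Γ(P U, V)) :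
    (f • c : Γ(P U, V)) = (X.presheaf.map (homOfLE (W_le U V)).op f * (show Γ(X, W U V) from c) : Γ(X, W U V)) := by
  have e := congr($(U.ι.app_appIso_inv V).hom f)
  exact congrArg (· * (show Γ(X, W U V) from c)) e

lemma unit_bijective {y : X} (hy : y ∈ U) : Function.Bijective (RefHull.stalkMapₗ (un U) y) := by
  constructor
  · rw [injective_iff_map_eq_zero]
    intro v hv
    obtain ⟨V, hyV, a, rfl⟩ := TopCat.Presheaf.exists_germ_eq (Coh.structureModule X).presheaf v
    rw [RefHull.stalkMapₗ_germ] at hv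
    obtain ⟨V', hy', i, i', e⟩ := TopCat.Presheaf.germ_eq (P U).presheaf y hyV hyV _ _
      (hv.trans (map_zero ((P U).presheaf.germ V y hyV).hom).symm)
    rw [map_zero] at e
    have h : W U V' ≤ V := (W_le U V').trans i.le
    have hz : rs (Coh.structureModule X) h a = 0 := by
      refine Eq.trans ?_ e
      refine Eq.trans ?_ (rs_P U i.le _).symm
      exact ConcreteCategory.congr_hom
        (X.presheaf.map_comp (homOfLE (W_le U V)).op (homOfLE (W_mono U i.le)).op) a
    rw [← germ_rs h ((mem_W U).mpr ⟨hy, hy'⟩), hz, map_zero]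
  · intro v
    obtain ⟨V, hyV, c, rfl⟩ := TopCat.Presheaf.exists_germ_eq (P U).presheaf v
    have hm : y ∈ W U V := (mem_W U).mpr ⟨hy, hyV⟩
    refine ⟨(Coh.structureModule X).presheaf.germ (W U V) y hm
      (show Γ(Coh.structureModule X, W U V) from (c : Γ(X, W U V))), ?_⟩
    rw [RefHull.stalkMapₗ_germ, ← germ_rs (W_le U V) hm c]
    exact congrArg _ (rs_P U (W_le U V) c).symm

lemma subsingleton_stalk (hU : U = ⊥) (x : X) (v : (P U).presheaf.stalk x) : v = 0 := by
  obtain ⟨V, hxV, c, rfl⟩ := TopCat.Presheaf.exists_germ_eq (P U).presheaf v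
  have e : W U V = ⊥ := le_bot_iff.mp fun y hy => by
    have := ((mem_W U).mp hy).1
    rwa [hU] at this
  haveI : Subsingleton Γ(X, W U V) := by rw [e]; infer_instance
  rw [show c = 0 from Subsingleton.elim (α := Γ(X, W U V)) _ _, map_zero]

variable [IsIntegral X]

lemma germ_injective {V : X.Opens} {x : X} (hx : x ∈ V) (hη : genericPoint ↥X ∈ U) :
    Function.Injective ((P U).presheaf.germ V x hx) := by
  intro a b e
  obtain ⟨V', hx', i, i', e'⟩ := TopCat.Presheaf.germ_eq (P U).presheaf x hx hx a b e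
  obtain rfl : i = i' := Subsingleton.elim _ _
  haveI : Nonempty (W U V') :=
    ⟨⟨genericPoint ↥X, (mem_W U).mpr ⟨hη, (spec x).mem_open V'.isOpen hx'⟩⟩⟩
  exact map_injective_of_isIntegral X (homOfLE (W_mono U i.le)) e'

lemma toGen_P_injective (hη : genericPoint ↥X ∈ U) (x : X) : Function.Injective (toGen (P U) x) := by
  rw [injective_iff_map_eq_zero]
  intro v hv
  obtain ⟨V, hxV, c, rfl⟩ := TopCat.Presheaf.exists_germ_eq (P U).presheaf v
  rw [toGen_germ] at hv
  rw [germ_injective U ((spec x).mem_open V.isOpen hxV) hη (hv.trans (map_zero _).symm), map_zero]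

end Sections

variable {F : X.Modules} (s : Coh.structureModule X ⟶ F)

variable [IsIntegral X]

lemma sGerm_eq_zero [IsLocallyNoetherian X] (hF : RefHull.IsRef1 F)
    (h : sGerm s (genericPoint ↥X) = 0) (x : X) : sGerm s x = 0 :=
  toGen_injective_of_isReflexive hF.1 hF.2.1 x (by rw [toGen_sGerm, h, map_zero])

lemma isoLocus_eq_empty [IsLocallyNoetherian X] (hF : RefHull.IsRef1 F)
    (h : sGerm s (genericPoint ↥X) = 0) : RefPow.isoLocus s = ∅ :=
  Set.eq_empty_iff_forall_notMem.mpr fun x hx => one_ne_zero (α := X.presheaf.stalk x)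
    (((bijective_iff s x).mp hx).1 (by
      show (1 : X.presheaf.stalk x) • sGerm s x = (0 : X.presheaf.stalk x) • sGerm s x
      rw [sGerm_eq_zero s hF h, smul_zero, smul_zero]))

lemma stalkMap_mulBy_eq_zero (hs : ∀ x, sGerm s x = 0) (n : ℕ) (x : X)
    (w : (RefPow.refPow F n).presheaf.stalk x) : RefHull.stalkMapₗ (RefPow.mulBy s n) x w = 0 := by
  match n with
  | 0 =>
    obtain ⟨a, rfl⟩ := (oneGerm_bijective x).2 w
    show RefHull.stalkMapₗ s x (a • oneGerm x) = 0
    rw [map_smul, stalkMap_oneGerm, hs, smul_zero]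
  | n + 1 =>
    obtain ⟨V, hxV, t, rfl⟩ := TopCat.Presheaf.exists_germ_eq (RefPow.refPow F (n + 1)).presheaf w
    have h0 : sec s V = 0 := sec_ext fun y hy => by
      rw [map_zero]
      refine Eq.trans ?_ (hs y)
      rw [sGerm, ← germ_rs (le_top : V ≤ ⊤) hy (sec s ⊤)]
      exact congrArg _ (Gen.rs_app_one s le_top).symm
    have h1 : SecTwist.tmul (RefPow.refPow F (n + 1)) F V t (SecTwist.val s V) = 0 := by
      rw [show SecTwist.val s V = (0 : F.val.obj (op V)) from h0]
      exact (congrArg _ (TensorProduct.tmul_zero _ _)).trans (map_zero _)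
    rw [RefHull.stalkMapₗ_germ]
    refine (congrArg _ ((RefPow.mulBy_succ_app s n V t).trans ((congrArg _ h1).trans (map_zero _)))).trans (map_zero _)

variable [IsLocallyNoetherian X]
variable (hX : Pi1.IsNormalScheme X) (hF : RefHull.IsRef1 F)

include hX hF in
theorem sPowGerm_bijective (hs : sGerm s (genericPoint ↥X) ≠ 0) (n : ℕ) (x : X)
    (h : ∀ y : X, y ⤳ x → Order.coheight y = 1 → (n : ℤ) * E s y = 0) :
    Function.Bijective fun a : X.presheaf.stalk x => a • RefPow.sPowGerm s n x := by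
  obtain ⟨hR, hne, hord⟩ := pow_spec s hX hF hs n
  have hinj := toGen_injective_of_isReflexive hR.1 hR.2.1 x
  constructor
  · intro a b e
    have e' := congrArg (toGen (RefPow.refPow F n) x) e
    rw [toGen_smul, toGen_smul, toGen_sPowGerm] at e'
    exact IsFractionRing.injective (X.presheaf.stalk x) X.functionField
      (smul_left_injective' hR.2.2 hne e')
  · intro v
    obtain ⟨k, hk⟩ := span_of_ne_zero hR.2.2 hne (toGen (RefPow.refPow F n) x v)
    obtain ⟨a, ha⟩ := mem_range_of_codim_one hX x k fun y hyx hy => by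
      rcases eq_or_ne k 0 with rfl | hk0
      · exact ⟨0, map_zero _⟩
      have hy' := dim_eq_one_iff.mp hy
      refine (mem_range_iff hX hy' hk0).mpr ?_
      have h1 : 0 ≤ secOrd (RefPow.refPow F n) (k • RefPow.sPowGerm s n (genericPoint ↥X)) y :=
        (mem_range_toGen_iff hX hy' hR (smul_ne_zero hk0 hne)).mp
          ⟨((RefPow.refPow F n).presheaf.stalkSpecializes hyx).hom v, by
            rw [toGen_spec hyx]; exact hk.symm⟩
      rw [secOrd_smul hX hy' hR hne hk0, hord y hy', h y hyx hy', add_zero] at h1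
      exact h1
    refine ⟨a, hinj ?_⟩
    rw [toGen_smul, toGen_sPowGerm, ha]
    exact hk

include hX hF in
lemma E_nonneg (hs : sGerm s (genericPoint ↥X) ≠ 0) {y : X} (hy : Order.coheight y = 1) :
    0 ≤ E s y :=
  (mem_range_toGen_iff hX hy hF hs).mp ⟨sGerm s y, toGen_sGerm s y⟩

variable {U : X.Opens} (hU : (U : Set X) = RefPow.isoLocus s)

include hU in
lemma mem_U_iff (x : X) :
    x ∈ U ↔ Function.Bijective fun a : X.presheaf.stalk x => a • sGerm s x := by
  rw [← bijective_iff, ← RefPow.mem_isoLocus, ← hU]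
  rfl

include hX hF hU in
lemma E_eq_zero (hs : sGerm s (genericPoint ↥X) ≠ 0) {y : X} (hy : Order.coheight y = 1)
    (hyU : y ∈ U) : E s y = 0 := by
  have hspan : Submodule.span (X.presheaf.stalk y) {sGerm s y} = ⊤ :=
    eq_top_iff.mpr fun v _ => Submodule.mem_span_singleton.mpr (((mem_U_iff s hU y).mp hyU).2 v)
  exact (secOrd_eq hX hy hF.2.2 hspan hs (φ := 1)
    (by rw [one_smul]; exact toGen_sGerm s y)).trans (Ord.ord_one y)

include hX hF hU in
lemma mem_U (hs : sGerm s (genericPoint ↥X) ≠ 0) (x : X)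
    (h : ∀ y : X, y ⤳ x → Order.coheight y = 1 → E s y = 0) : x ∈ U := by
  have := sPowGerm_bijective s hX hF hs 1 x fun y hyx hy => by rw [h y hyx hy, mul_zero]
  rw [sPowGerm_one] at this
  exact (mem_U_iff s hU x).mpr this

include hX hF hU in
lemma genericPoint_mem (hs : sGerm s (genericPoint ↥X) ≠ 0) : genericPoint ↥X ∈ U :=
  mem_U s hX hF hU hs _ fun y hy h1 => by
    obtain rfl := (hy.antisymm (spec y)).eq
    exact absurd h1 coheight_genericPoint_ne_one

include hF hU in
lemma eq_bot (hs : sGerm s (genericPoint ↥X) = 0) : U = ⊥ :=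
  Opens.ext (by rw [hU, isoLocus_eq_empty s hF hs]; rfl)

include hX hF hU in
lemma stalkMap_sPow_bijective {x : X} (hx : x ∈ U) (n : ℕ) :
    Function.Bijective (RefHull.stalkMapₗ (RefPow.sPow s n) x) := by
  by_cases hs : sGerm s (genericPoint ↥X) = 0
  · rw [eq_bot s hF hU hs] at hx
    exact hx.elim
  rw [bijective_iff]
  exact sPowGerm_bijective s hX hF hs n x fun y hyx hy => by
    rw [E_eq_zero s hX hF hU hs hy (hyx.mem_open U.isOpen hx), mul_zero]

omit [IsIntegral X] [IsLocallyNoetherian X] in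
lemma bijective_app {M N : X.Modules} (φ : M ⟶ N) (V : X.Opens)
    (h : ∀ y ∈ V, Function.Bijective (RefHull.stalkMapₗ φ y)) : Function.Bijective (φ.app V) := by
  refine ⟨fun a b e => sec_ext fun y hy => (h y hy).1 (by
    rw [RefHull.stalkMapₗ_germ, RefHull.stalkMapₗ_germ, e]), fun b => ?_⟩
  choose v hv using fun y : V => (h y.1 y.2).2 (N.presheaf.germ V y.1 y.2 b)
  obtain ⟨a, ha⟩ := exists_glue V v fun y => by
    obtain ⟨V', hy', a, ha⟩ := TopCat.Presheaf.exists_germ_eq M.presheaf (v y)
    have e := hv y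
    rw [← ha, RefHull.stalkMapₗ_germ] at e
    obtain ⟨V₁, hy₁, i, j, e'⟩ := TopCat.Presheaf.germ_eq N.presheaf y.1 hy' y.2 _ _ e
    refine ⟨V₁, hy₁, j.le, rs M i.le a, fun z => (h z.1 (j.le z.2)).1 ?_⟩
    have e'' := congrArg (N.presheaf.germ V₁ z.1 z.2) e'
    erw [TopCat.Presheaf.germ_res_apply, TopCat.Presheaf.germ_res_apply] at e''
    rw [hv ⟨z.1, j.le z.2⟩, germ_rs, RefHull.stalkMapₗ_germ]
    exact e''.symm
  refine ⟨a, sec_ext fun y hy => ?_⟩
  rw [← RefHull.stalkMapₗ_germ, ha ⟨y, hy⟩]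
  exact hv ⟨y, hy⟩

include hX hF hU in
lemma isIso_restrict_sPow (n : ℕ) :
    IsIso ((Scheme.Modules.restrictFunctor U.ι).map (RefPow.sPow s n)) :=
  TensorMod.LocIso.isIso_restrict_of_isIso_app fun V hV =>
    (ConcreteCategory.isIso_iff_bijective _).mpr
      (bijective_app _ V fun _ hy => stalkMap_sPow_bijective s hX hF hU (hV hy) n)

/-- The map `F^[n] ⟶ j_*(O_X|_U)` inverse to the `n`-th power of the section on `U`. -/
def leg (n : ℕ) : RefPow.refPow F n ⟶ P U :=
  haveI := isIso_restrict_sPow s hX hF hU n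
  (Scheme.Modules.restrictAdjunction U.ι).homEquiv _ _
    (inv ((Scheme.Modules.restrictFunctor U.ι).map (RefPow.sPow s n)))

lemma sPow_leg (n : ℕ) : RefPow.sPow s n ≫ leg s hX hF hU n = un U := by
  haveI := isIso_restrict_sPow s hX hF hU n
  rw [leg, ← Adjunction.homEquiv_naturality_left, IsIso.hom_inv_id, Adjunction.homEquiv_unit,
    CategoryTheory.Functor.map_id]
  exact Category.comp_id _

lemma leg_zero : leg s hX hF hU 0 = un U := (Category.id_comp _).symm.trans (sPow_leg s hX hF hU 0)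

lemma mulBy_leg (n : ℕ) :
    RefPow.mulBy s n ≫ leg s hX hF hU (n + 1) = leg s hX hF hU n := by
  haveI := isIso_restrict_sPow s hX hF hU n
  haveI := isIso_restrict_sPow s hX hF hU (n + 1)
  rw [leg, leg, ← Adjunction.homEquiv_naturality_left]
  congr 1
  refine IsIso.eq_inv_of_hom_inv_id ?_
  rw [← Category.assoc, ← Functor.map_comp, ← RefPow.sPow_succ, IsIso.hom_inv_id]

/-- The cocone of the system with vertex `j_*(O_X|_U)`. -/
def cocone : Limits.Cocone (RefPow.diagram F s) :=
  Limits.Cocone.mk (P U) (NatTrans.ofSequence (leg s hX hF hU) fun n => by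
    show (RefPow.diagram F s).map _ ≫ _ = _
    rw [RefPow.diagram_map]
    exact (mulBy_leg s hX hF hU n).trans (Category.comp_id _).symm)

lemma leg_sPowGerm (n : ℕ) (x : X) :
    RefHull.stalkMapₗ (leg s hX hF hU n) x (RefPow.sPowGerm s n x) =
      RefHull.stalkMapₗ (un U) x (oneGerm x) := by
  rw [sPowGerm_def, ← sPow_leg s hX hF hU n, Colim.stalkMap_comp]
  congr 1
  exact (stalkMap_oneGerm _ x).symm

lemma leg_mulBy (n : ℕ) (x : X) (w : (RefPow.refPow F n).presheaf.stalk x) :
    RefHull.stalkMapₗ (leg s hX hF hU (n + 1)) x (RefHull.stalkMapₗ (RefPow.mulBy s n) x w) =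
      RefHull.stalkMapₗ (leg s hX hF hU n) x w := by
  rw [← Colim.stalkMap_comp, mulBy_leg]

/-- The legs are jointly surjective on stalks. -/
theorem exists_leg_eq (x : X) (v : (P U).presheaf.stalk x) :
    ∃ (n : ℕ) (w : (RefPow.refPow F n).presheaf.stalk x),
      RefHull.stalkMapₗ (leg s hX hF hU n) x w = v := by
  classical
  by_cases hs : sGerm s (genericPoint ↥X) = 0
  · exact ⟨0, 0, by rw [map_zero, subsingleton_stalk U (eq_bot s hF hU hs) x v]⟩
  have hη := genericPoint_mem s hX hF hU hs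
  set η := genericPoint ↥X
  obtain ⟨k, hk⟩ : ∃ k : X.presheaf.stalk η,
      RefHull.stalkMapₗ (un U) η (k • oneGerm η) = toGen (P U) x v := by
    obtain ⟨o, ho⟩ := (unit_bijective U hη).2 (toGen (P U) x v)
    obtain ⟨k, rfl⟩ := (oneGerm_bijective η).2 o
    exact ⟨k, ho⟩
  rcases eq_or_ne (k : X.functionField) 0 with hk0 | hk0
  · refine ⟨0, 0, toGen_P_injective U hη x ?_⟩
    rw [map_zero, map_zero, ← hk, show k = 0 from hk0, zero_smul, map_zero]
  have hreg : ∀ y : X, y ⤳ x → Order.coheight y = 1 → y ∈ U →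
      0 ≤ Scheme.ord (k : X.functionField) y := by
    intro y hyx hy hyU
    obtain ⟨o, ho⟩ := (unit_bijective U hyU).2 (((P U).presheaf.stalkSpecializes hyx).hom v)
    obtain ⟨a, rfl⟩ := (oneGerm_bijective y).2 o
    have e := congrArg (toGen (P U) y) ho
    rw [toGen_stalkMap, toGen_spec hyx, ← hk, toGen_smul,
      show toGen _ y (oneGerm y) = oneGerm η from toGen_sGerm _ y] at e
    have e' := (oneGerm_bijective η).1 ((unit_bijective U hη).1 e)
    exact (mem_range_iff hX hy hk0).mp ⟨a, e'⟩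
  obtain ⟨V, hV, hxV, -⟩ := exists_isAffineOpen_mem_and_subset (X := X) (x := x) (Opens.mem_top x)
  have hfin := finite_ord_ne_zero (X := X) (hX := hX) hk0 hV
  set n := ∑ y ∈ hfin.toFinset, (Scheme.ord (k : X.functionField) y).natAbs
  obtain ⟨hR, hne, hord⟩ := pow_spec s hX hF hs n
  obtain ⟨w, hw⟩ := mem_range_toGen hX hR.1 ((Reflexive.isReflexive_iff_forall hR.1).mp hR.2.1 x)
    ((k : X.functionField) • RefPow.sPowGerm s n η) fun y hyx hy => by
      have hy' := dim_eq_one_iff.mp hy
      refine (mem_range_toGen_iff hX hy' hR (smul_ne_zero hk0 hne)).mpr ?_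
      rw [secOrd_smul hX hy' hR hne hk0, hord y hy']
      by_cases hyU : y ∈ U
      · rw [E_eq_zero s hX hF hU hs hy' hyU, mul_zero, add_zero]
        exact hreg y hyx hy' hyU
      · have hE : 1 ≤ E s y := by
          rcases (E_nonneg s hX hF hs hy').lt_or_eq with h | h
          · exact h
          · refine absurd (mem_U s hX hF hU hs y fun z hz hz' => ?_) hyU
            obtain rfl := eq_of_specializes_codim_one hy' hz' hz
            exact h.symm
        have h1 : (Scheme.ord (k : X.functionField) y).natAbs ≤ n := by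
          by_cases h0 : Scheme.ord (k : X.functionField) y = 0
          · simp [h0]
          · exact Finset.single_le_sum
              (f := fun y => (Scheme.ord (k : X.functionField) y).natAbs) (fun _ _ => Nat.zero_le _)
              (hfin.mem_toFinset.mpr ⟨hyx.mem_open V.isOpen hxV, hy', h0⟩)
        have h2 : -(n : ℤ) ≤ Scheme.ord (k : X.functionField) y := by
          clear_value n; omega
        nlinarith [Int.natCast_nonneg n]
  refine ⟨n, w, toGen_P_injective U hη x ?_⟩
  rw [toGen_stalkMap, hw]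
  erw [map_smul, leg_sPowGerm, ← map_smul]
  exact hk

include hX hF in
/-- An element killed by a leg dies further in the system. -/
theorem exists_map_eq_zero (x : X) (n : ℕ) (w : (RefPow.refPow F n).presheaf.stalk x)
    (hw : RefHull.stalkMapₗ (leg s hX hF hU n) x w = 0) :
    RefHull.stalkMapₗ (RefPow.mulBy s n) x w = 0 := by
  by_cases hs : sGerm s (genericPoint ↥X) = 0
  · exact stalkMap_mulBy_eq_zero s (sGerm_eq_zero s hF hs) n x w
  obtain ⟨hR, hne, -⟩ := pow_spec s hX hF hs n
  have hη := genericPoint_mem s hX hF hU hs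
  obtain ⟨k, hk⟩ := span_of_ne_zero hR.2.2 hne (toGen (RefPow.refPow F n) x w)
  have e := congrArg (toGen (P U) x) hw
  rw [toGen_stalkMap, map_zero, ← hk] at e
  erw [map_smul, leg_sPowGerm, ← map_smul] at e
  have e' : k • oneGerm (genericPoint ↥X) = 0 := (unit_bijective U hη).1 (e.trans (map_zero _).symm)
  have hk0 : k = 0 := (oneGerm_bijective _).1 (e'.trans (zero_smul _ _).symm)
  rw [show w = 0 from toGen_injective_of_isReflexive hR.1 hR.2.1 x
    (by rw [map_zero, ← hk, hk0]; exact zero_smul _ _), map_zero]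

theorem isColimit_cocone : Nonempty (Limits.IsColimit (cocone s hX hF hU)) :=
  Colim.isColimit_of_stalks _ (fun x v => exists_leg_eq s hX hF hU x v) fun x n w hw =>
    ⟨n + 1, Nat.le_succ n, by
      rw [RefPow.diagram_map]; exact exists_map_eq_zero s hX hF hU x n w hw⟩

end Groth.Agent.Lib.RefHull.PowColim
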