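import Groth.Agent.Lib.RefHull.Generic
import Groth.Agent.Lib.RefHull.PowColim
import Groth.Agent.Lib.RefHull.DepthIso
import Groth.Agent.Lib.QCoh.Pushforward
import Groth.Agent.Lib.Depth.Basic

/-!
# Direct images from opens with small complement
-/

universe u

noncomputable section

open CategoryTheory AlgebraicGeometry TopologicalSpace Opposite

namespace Groth.Agent.Lib.RefHull.PushU

open Groth.Agent.Lib Groth.Agent.Lib.TensorMod Groth.Agent.Lib.TensorMod.Dual SecHom Generic RingTheory.Sequence Pointwise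

section DepthAlg

variable {R : Type u} [CommRing R] [IsLocalRing R] [IsNoetherianRing R]
  {M : Type u} [AddCommGroup M] [Module R M] [Module.IsReflexive R M]

/-- A reflexive module has depth at least two if the ring has. -/
theorem two_le_depth (h : (2 : ℕ∞) ≤ LocCoh.depth R R) : (2 : ℕ∞) ≤ LocCoh.depth R M := by
  obtain ⟨rs, hl, hmem, hr⟩ := (Depth.Basic.le_depth_iff 2).mp h
  obtain ⟨x, y, rfl⟩ := List.length_eq_two.mp hl
  have h2 := (isWeaklyRegular_cons_iff R x [y]).mp hr.toIsWeaklyRegular
  have hy := (isWeaklyRegular_singleton_iff _ y).mp h2.2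
  have hev := Module.bijective_dual_eval R M
  have hw : IsWeaklyRegular M [x, y] := by
    refine (isWeaklyRegular_cons_iff M x [y]).mpr ⟨fun a b hab => hev.1 (LinearMap.ext fun θ => ?_),
      (isWeaklyRegular_singleton_iff _ y).mpr ?_⟩
    · exact h2.1 (show x • θ a = x • θ b by rw [← map_smul, ← map_smul]; exact congrArg θ hab)
    · intro p q hpq
      obtain ⟨a, rfl⟩ := Submodule.Quotient.mk_surjective _ p
      obtain ⟨b, rfl⟩ := Submodule.Quotient.mk_surjective _ q
      change y • (Submodule.Quotient.mk a : QuotSMulTop x M) = y • Submodule.Quotient.mk b at hpq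
      rw [← Submodule.Quotient.mk_smul, ← Submodule.Quotient.mk_smul, Submodule.Quotient.eq,
        ← smul_sub] at hpq
      obtain ⟨c, -, hc⟩ := (Submodule.mem_smul_pointwise_iff_exists _ _ _).mp hpq
      have hdiv : ∀ θ : Module.Dual R M, ∃ r, x • r = θ (a - b) := fun θ => by
        have e : y • (Submodule.Quotient.mk (θ (a - b)) : QuotSMulTop x R) = y • 0 := by
          rw [smul_zero, ← Submodule.Quotient.mk_smul, ← map_smul, ← hc, map_smul,
            Submodule.Quotient.mk_eq_zero]
          exact Submodule.smul_mem_pointwise_smul _ x ⊤ trivial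
        obtain ⟨r, -, hr⟩ := (Submodule.mem_smul_pointwise_iff_exists _ _ _).mp
          ((Submodule.Quotient.mk_eq_zero _).mp (hy e))
        exact ⟨r, hr⟩
      choose r hr using hdiv
      let φ : Module.Dual R (Module.Dual R M) :=
        { toFun := r
          map_add' := fun θ θ' => h2.1 (show x • r (θ + θ') = x • (r θ + r θ') by
            rw [smul_add, hr, hr, hr, LinearMap.add_apply])
          map_smul' := fun s θ => h2.1 (show x • r (s • θ) = x • (s • r θ) by
            rw [hr, LinearMap.smul_apply, smul_comm, hr]) }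
      obtain ⟨d, hd⟩ := hev.2 φ
      have hd' : x • d = a - b := hev.1 (LinearMap.ext fun θ => by
        rw [map_smul, hd, LinearMap.smul_apply]
        exact hr θ)
      rw [Submodule.Quotient.eq, ← hd']
      exact Submodule.smul_mem_pointwise_smul d x ⊤ trivial
  exact Depth.Basic.length_le_idealDepth hw hmem

end DepthAlg

variable {X : Scheme.{u}} (U : X.Opens)

/-- `j_*(M|_U)`. -/
abbrev P (M : X.Modules) : X.Modules := (Scheme.Modules.pushforward U.ι).obj (M.restrict U.ι)

/-- The restriction map. -/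
abbrev un (M : X.Modules) : M ⟶ P U M := (Scheme.Modules.restrictAdjunction U.ι).unit.app M

open PowColim (W W_le W_mono mem_W)

variable {M : X.Modules}

lemma rs_P {V V' : X.Opens} (h : V' ≤ V) (c : Γ(P U M, V)) :
    (rs (P U M) h c : Γ(M, W U V')) = rs M (W_mono U h) (show Γ(M, W U V) from c) := rfl

lemma unit_bijective {y : X} (hy : y ∈ U) : Function.Bijective (RefHull.stalkMapₗ (un U M) y) := by
  constructor
  · rw [injective_iff_map_eq_zero]
    intro v hv
    obtain ⟨V, hyV, a, rfl⟩ := TopCat.Presheaf.exists_germ_eq M.presheaf v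
    rw [RefHull.stalkMapₗ_germ] at hv
    obtain ⟨V', hy', i, i', e⟩ := TopCat.Presheaf.germ_eq (P U M).presheaf y hyV hyV _ _
      (hv.trans (map_zero ((P U M).presheaf.germ V y hyV).hom).symm)
    rw [map_zero] at e
    have h : W U V' ≤ V := (W_le U V').trans i.le
    have hz : rs M h a = 0 := by
      refine Eq.trans ?_ e
      refine Eq.trans ?_ (rs_P U i.le _).symm
      exact ConcreteCategory.congr_hom
        (M.presheaf.map_comp (homOfLE (W_le U V)).op (homOfLE (W_mono U i.le)).op) a
    rw [← germ_rs h ((mem_W U).mpr ⟨hy, hy'⟩), hz, map_zero]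
  · intro v
    obtain ⟨V, hyV, c, rfl⟩ := TopCat.Presheaf.exists_germ_eq (P U M).presheaf v
    have hm : y ∈ W U V := (mem_W U).mpr ⟨hy, hyV⟩
    refine ⟨M.presheaf.germ (W U V) y hm (show Γ(M, W U V) from c), ?_⟩
    rw [RefHull.stalkMapₗ_germ, ← germ_rs (W_le U V) hm c]
    exact congrArg _ (rs_P U (W_le U V) c).symm

variable [IsIntegral X]

/-- Stalks of a direct image from an open are torsion free when those on the open are. -/
theorem toGen_injective (hη : genericPoint ↥X ∈ U)
    (hinj : ∀ y ∈ U, Function.Injective (toGen M y)) (x : X) :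
    Function.Injective (toGen (P U M) x) := by
  rw [injective_iff_map_eq_zero]
  intro v hv
  obtain ⟨V, hxV, c, rfl⟩ := TopCat.Presheaf.exists_germ_eq (P U M).presheaf v
  have hηV := (spec x).mem_open V.isOpen hxV
  have hm : genericPoint ↥X ∈ W U V := (mem_W U).mpr ⟨hη, hηV⟩
  have e0 : RefHull.stalkMapₗ (un U M) (genericPoint ↥X)
      (M.presheaf.germ (W U V) (genericPoint ↥X) hm (show Γ(M, W U V) from c)) = 0 := by
    rw [RefHull.stalkMapₗ_germ]
    rw [toGen_germ] at hv
    refine Eq.trans ?_ hv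
    rw [← germ_rs (W_le U V) hm c]
    exact congrArg _ (rs_P U (W_le U V) c).symm
  have e1 := (unit_bijective U hη).1 (e0.trans (map_zero _).symm)
  have e2 : (show Γ(M, W U V) from c) = 0 := sec_ext fun y hy => hinj y ((mem_W U).mp hy).1 (by
    rw [toGen_germ, map_zero, map_zero]
    exact e1)
  rw [show c = 0 from e2, map_zero]

lemma smul_eq_zero_imp {x : X} (hinj : Function.Injective (toGen M x)) {a : X.presheaf.stalk x}
    (ha : a ≠ 0) {v : M.presheaf.stalk x} (h : a • v = 0) : v = 0 := by
  refine hinj ?_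
  rw [map_zero]
  have e := congrArg (toGen M x) h
  rw [toGen_smul, map_zero] at e
  exact (isUnit_iff_ne_zero.mpr (algebraMap_ne_zero ha)).smul_eq_zero.mp e

variable [IsLocallyNoetherian X]

omit [IsIntegral X] in
lemma isQCoh_P (G : (U : Scheme.{u}).Modules) (hG : G.IsQuasicoherent) :
    ((Scheme.Modules.pushforward U.ι).obj G).IsQuasicoherent :=
  QCoh.Pushforward.isQCoh_pushforward U.ι

lemma genericPoint_mem_of_depth
    (hU : ∀ x : X, x ∉ U → (2 : ℕ∞) ≤ LocCoh.depth (X.presheaf.stalk x) (X.presheaf.stalk x)) :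
    genericPoint ↥X ∈ U := by
  by_contra h
  haveI : Nontrivial (X.presheaf.stalk (genericPoint ↥X)) := inferInstance
  obtain ⟨rs, hl, hmem, hr⟩ := (Depth.Basic.le_depth_iff 2).mp (hU _ h)
  obtain ⟨x, y, rfl⟩ := List.length_eq_two.mp hl
  have hx : x = 0 := by
    by_contra hx0
    exact (IsLocalRing.mem_maximalIdeal _).mp (hmem x (by simp))
      ((isUnit_iff_ne_zero (G₀ := X.functionField)).mpr hx0)
  have h1 := ((isWeaklyRegular_cons_iff _ x [y]).mp hr.toIsWeaklyRegular).1
  exact one_ne_zero (α := X.presheaf.stalk (genericPoint ↥X))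
    (h1 (show x • (1 : X.presheaf.stalk (genericPoint ↥X)) = x • 0 by rw [hx, zero_smul, zero_smul]))

/-- Reflexive modules extend uniquely over loci of depth two. -/
theorem isIso_unit_of_depth
    (hU : ∀ x : X, x ∉ U → (2 : ℕ∞) ≤ LocCoh.depth (X.presheaf.stalk x) (X.presheaf.stalk x))
    (hM : Coh.IsCoh M) (hr : ∀ x, RefHull.IsReflexiveAt M x) : IsIso (un U M) := by
  have hη := genericPoint_mem_of_depth U hU
  haveI := hM.1
  haveI : (M.restrict U.ι).IsQuasicoherent := inferInstance
  refine DepthIso.isIso _ hM (isQCoh_P U _ inferInstance) fun x => ?_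
  by_cases hx : x ∈ U
  · exact Or.inl (unit_bijective U hx)
  haveI : Module.IsReflexive (X.presheaf.stalk x) (M.presheaf.stalk x) := hr x
  refine Or.inr ⟨two_le_depth (hU x hx), fun hass => ?_⟩
  obtain ⟨hp, v, hv⟩ := isAssociatedPrime_iff.mp hass
  obtain ⟨rs, hl, hmem, hr'⟩ := (Depth.Basic.le_depth_iff 2).mp (hU x hx)
  obtain ⟨a, b, rfl⟩ := List.length_eq_two.mp hl
  have ha0 : a ≠ 0 := fun h => one_ne_zero (α := X.presheaf.stalk x)
    (((isWeaklyRegular_cons_iff _ a [b]).mp hr'.toIsWeaklyRegular).1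
      (show a • (1 : X.presheaf.stalk x) = a • 0 by rw [h, zero_smul, zero_smul]))
  have hav : a • v = 0 :=
    (Submodule.mem_bot _).mp (Submodule.mem_colon_singleton.mp (hv ▸ hmem a (by simp)))
  have hv0 : v = 0 := smul_eq_zero_imp
    (toGen_injective U hη (fun y _ => toGen_injective_of_isReflexiveAt y (hr y)) x) ha0 hav
  apply hp.ne_top
  rw [hv, hv0, eq_top_iff]
  exact fun r _ => Submodule.mem_colon_singleton.mpr (by rw [smul_zero]; exact zero_mem _)

/-- Reflexive modules on normal schemes extend uniquely in codimension two. -/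
theorem isIso_unit_of_codim (hX : Pi1.IsNormalScheme X) (hη : genericPoint ↥X ∈ U)
    (hU : ∀ y : X, ringKrullDim (X.presheaf.stalk y) = 1 → y ∈ U)
    (hM : Coh.IsCoh M) (hr : ∀ x, RefHull.IsReflexiveAt M x) : IsIso (un U M) := by
  haveI := hM.1
  rw [Modules.StalkModule.isIso_iff_stalkMapₗ_bijective]
  intro x
  refine ⟨fun a b e => ?_, fun v => ?_⟩
  · refine toGen_injective_of_isReflexiveAt x (hr x) ((unit_bijective U hη).1 ?_)
    rw [← toGen_stalkMap, ← toGen_stalkMap]
    exact congrArg _ e
  · obtain ⟨w, hw⟩ := (unit_bijective U (M := M) hη).2 (toGen (P U M) x v)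
    obtain ⟨v', hv'⟩ := mem_range_toGen hX hM (hr x) w fun y hyx hy => by
      obtain ⟨u', hu'⟩ := (unit_bijective U (M := M) (hU y hy)).2
        (((P U M).presheaf.stalkSpecializes hyx).hom v)
      refine ⟨u', (unit_bijective U hη).1 ?_⟩
      rw [← toGen_stalkMap, hu', RankOne.toGen_spec hyx, hw]
    refine ⟨v', toGen_injective U hη (fun y _ => toGen_injective_of_isReflexiveAt y (hr y)) x ?_⟩
    show toGen (P U M) x (RefHull.stalkMapₗ (un U M) x v') = _
    rw [toGen_stalkMap, hv', hw]

end Groth.Agent.Lib.RefHull.PushU
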