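import Groth.Agent.Lib.Regular.Serre
import Mathlib.LinearAlgebra.Dual.Lemmas
import Mathlib.RingTheory.Noetherian.Basic

/-!
# Duals over regular local rings of dimension at most two are free
-/

universe u

namespace Groth.Agent.Lib.RefHull.DimTwo

open Module Regular.PD

variable {R : Type u} [CommRing R] [IsRegularLocalRing R]

theorem free_dual (h : (IsLocalRing.maximalIdeal R).spanFinrank ≤ 2) (N : Type u) [AddCommGroup N]
    [Module R N] [Module.Finite R N] : Module.Free R (Dual R N) := by
  obtain ⟨b, f, hf⟩ := exists_free_cover (R := R) N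
  obtain ⟨a, g, hg⟩ := exists_free_cover (R := R) (LinearMap.ker f)
  let k : (Fin a → R) →ₗ[R] (Fin b → R) := (LinearMap.ker f).subtype ∘ₗ g
  let d := k.dualMap
  have hQ : PDle R (Dual R (Fin a → R) ⧸ LinearMap.range d) 2 :=
    pdle_mono (Regular.Serre.pdle_all _) h
  have hI : PDle R (LinearMap.range d) 1 :=
    pdle_of_equiv (LinearEquiv.ofEq _ _ (Submodule.ker_mkQ _))
      ((pdle_succ_iff (Submodule.mkQ_surjective _) 1).mp hQ)
  have hK : PDle R (LinearMap.ker d) 0 :=
    pdle_of_equiv (LinearEquiv.ofEq _ _ (LinearMap.ker_rangeRestrict d))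
      ((pdle_succ_iff (LinearMap.surjective_rangeRestrict d) 0).mp hI)
  have hmem : ∀ θ : Dual R N, f.dualMap θ ∈ LinearMap.ker d := fun θ => by
    rw [LinearMap.mem_ker]
    refine LinearMap.ext fun v => ?_
    show θ (f (g v).1) = 0
    rw [LinearMap.mem_ker.mp (g v).2, map_zero]
  let e : Dual R N →ₗ[R] LinearMap.ker d := f.dualMap.codRestrict _ hmem
  have he : Function.Bijective e := by
    constructor
    · intro θ θ' h'
      exact LinearMap.dualMap_injective_of_surjective hf (congrArg Subtype.val h')
    · intro φ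
      have hφ : LinearMap.ker f ≤ LinearMap.ker φ.1 := fun v hv => by
        obtain ⟨w, hw⟩ := hg ⟨v, hv⟩
        have := LinearMap.congr_fun (LinearMap.mem_ker.mp φ.2) w
        rw [LinearMap.mem_ker]
        have e1 : k w = v := congrArg Subtype.val hw
        rw [← e1]
        exact this
      refine ⟨((LinearMap.ker f).liftQ φ.1 hφ) ∘ₗ (f.quotKerEquivOfSurjective hf).symm.toLinearMap,
        Subtype.ext (LinearMap.ext fun v => ?_)⟩
      show (LinearMap.ker f).liftQ φ.1 hφ ((f.quotKerEquivOfSurjective hf).symm (f v)) = φ.1 v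
      rw [← LinearMap.quotKerEquivOfSurjective_apply_mk f hf, LinearEquiv.symm_apply_apply]
      rfl
  have hP : Module.Projective R (Dual R N) :=
    pdle_zero_iff.mp (pdle_of_equiv (LinearEquiv.ofBijective e he).symm hK)
  exact Module.free_of_flat_of_isLocalRing

theorem free_of_isReflexive (h : (IsLocalRing.maximalIdeal R).spanFinrank ≤ 2) (M : Type u)
    [AddCommGroup M] [Module R M] [Module.Finite R M] [Module.IsReflexive R M] : Module.Free R M := by
  have hdual : Module.Finite R (Dual R M) := by
    obtain ⟨n, f, hf⟩ := exists_free_cover (R := R) M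
    exact Module.Finite.of_injective f.dualMap (LinearMap.dualMap_injective_of_surjective hf)
  have := free_dual h (Dual R M)
  exact Module.Free.of_equiv (Module.evalEquiv R M).symm

end Groth.Agent.Lib.RefHull.DimTwo
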