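import Groth.Agent.Lib.RefHull.Tensor

/-!
# The class of a rank one reflexive module
-/

universe u

noncomputable section

open CategoryTheory AlgebraicGeometry TopologicalSpace Opposite

namespace Groth.Agent.Lib.RefHull.DivRef

open Groth.Agent.Lib Groth.Agent.Lib.TensorMod Groth.Agent.Lib.TensorMod.Dual SecHom Generic RankOne Ord Divisor DivSheaf Tensor

variable {X : Scheme.{u}} [IsIntegral X] [IsLocallyNoetherian X]

lemma coheight_genericPoint_ne_one : Order.coheight (genericPoint ↥X) ≠ 1 := fun h => by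
  have := dim_eq_one_iff.mpr h
  rw [ringKrullDim_eq_zero_of_isField (Field.toIsField X.functionField)] at this
  exact zero_ne_one this

/-- Two codimension one points related by specialization are equal. -/
theorem eq_of_specializes_codim_one {x y : X} (hx : Order.coheight x = 1) (hy : Order.coheight y = 1)
    (h : y ⤳ x) : y = x := by
  obtain ⟨U, hU, hxU, -⟩ := exists_isAffineOpen_mem_and_subset (X := X) (x := x) (Opens.mem_top x)
  haveI : IsNoetherianRing Γ(X, U) := IsLocallyNoetherian.component_noetherian ⟨U, hU⟩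
  have hyU := h.mem_open U.isOpen hxU
  have hle := (AssPt.Basic.specializes_iff_primeIdealOf hU hxU hyU).mp h
  rcases hle.eq_or_lt with he | hlt
  · have := congrArg hU.fromSpec (PrimeSpectrum.ext he)
    rwa [hU.fromSpec_primeIdealOf, hU.fromSpec_primeIdealOf] at this
  · exfalso
    have h1 := Ideal.height_add_one_le_of_lt_of_isPrime hlt
    have e1 := Ideal.Prime.ringKrullDim_stalk_eq_height hU hxU
    have e2 := Ideal.Prime.ringKrullDim_stalk_eq_height hU hyU
    rw [dim_eq_one_iff.mpr hx] at e1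
    rw [dim_eq_one_iff.mpr hy] at e2
    rw [show (hU.primeIdealOf ⟨x, hxU⟩).asIdeal.height = 1 by exact_mod_cast e1.symm,
      show (hU.primeIdealOf ⟨y, hyU⟩).asIdeal.height = 1 by exact_mod_cast e2.symm] at h1
    exact absurd h1 (by decide)

omit [IsLocallyNoetherian X] in
lemma stalkSpecializes_genericPoint (k : X.presheaf.stalk (genericPoint ↥X)) :
    (X.presheaf.stalkSpecializes (spec (genericPoint ↥X))).hom k = k := by
  obtain ⟨U, hU, f, rfl⟩ := TopCat.Presheaf.exists_germ_eq X.presheaf k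
  exact TopCat.Presheaf.germ_stalkSpecializes_apply X.presheaf hU (spec (genericPoint ↥X)) f

omit [IsIntegral X] [IsLocallyNoetherian X] in
lemma oEquiv_germ {U : X.Opens} {z : X} (hz : z ∈ U) (n : Γ(Coh.structureModule X, U)) :
    Reflexive.oEquiv z ((Coh.structureModule X).presheaf.germ U z hz n) =
      X.presheaf.germ U z hz (show Γ(X, U) from n) := by
  refine (LinearEquiv.symm_apply_eq (AssPt.Basic.unitStalkEquiv z)).mpr ?_
  change _ = X.presheaf.germ U z hz (show Γ(X, U) from n) •
    (Coh.structureModule X).presheaf.germ ⊤ z trivial (1 : Γ(X, ⊤))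
  refine (AssPt.Basic.unitStalk_germ_smul_one z hz (show Γ(X, U) from n)).symm.trans ?_
  congr 1
  refine (Eq.trans (congrArg _ ?_) (TopCat.Presheaf.germ_res_apply
    (Coh.structureModule X).presheaf (homOfLE (le_top : U ≤ ⊤)) z hz (1 : Γ(X, ⊤))))
  exact (map_one (X.presheaf.map (homOfLE (le_top : U ≤ ⊤)).op).hom).symm

variable (hX : Pi1.IsNormalScheme X) {D : X → ℤ}

include hX in
theorem exists_ord_eq {y : X} (hy : Order.coheight y = 1) (n : ℤ) :
    ∃ a : X.functionField, a ≠ 0 ∧ Scheme.ord a y = n := by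
  obtain ⟨ϖ, hϖ⟩ := exists_irreducible hX hy
  have hne : algebraMap (X.presheaf.stalk y) X.functionField ϖ ≠ 0 := algebraMap_ne_zero hϖ.ne_zero
  have h : ∀ m : ℕ, ∃ a : X.functionField, a ≠ 0 ∧ Scheme.ord a y = m := fun m =>
    ⟨algebraMap _ _ ((1 : (X.presheaf.stalk y)ˣ) * ϖ ^ m),
      algebraMap_ne_zero (mul_ne_zero (Units.ne_zero 1) (pow_ne_zero _ hϖ.ne_zero)),
      ord_unit_mul_pow hX hy hϖ 1 m⟩
  obtain ⟨p, rfl | rfl⟩ := n.eq_nat_or_neg
  · exact h p
  · obtain ⟨a, ha, ha'⟩ := h p
    exact ⟨a⁻¹, inv_ne_zero ha, by rw [Ord.ord_inv ha, ha']⟩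

/-- Approximation: an element of the stalk at `x` of prescribed order at a codimension one
generization. -/
theorem exists_stalk_ord (hD : IsDiv D) {x y : X} (hyx : y ⤳ x) (hy : Order.coheight y = 1) :
    ∃ v : (divSh hX D).presheaf.stalk x, valAt hX D x v ≠ 0 ∧
      Scheme.ord (valAt hX D x v) y = - D y := by
  haveI := isQCoh (hX := hX) hD
  obtain ⟨a, ha, ha'⟩ := exists_ord_eq hX hy (- D y)
  obtain ⟨w, hw⟩ := exists_valAt_eq (hX := hX) hD y a fun z hz hz1 => by
    obtain rfl := eq_of_specializes_codim_one hy hz1 hz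
    exact Or.inr (by omega)
  obtain ⟨U, hU, hxU, -⟩ := exists_isAffineOpen_mem_and_subset (X := X) (x := x) (Opens.mem_top x)
  have hyU := hyx.mem_open U.isOpen hxU
  obtain ⟨f, t, hf, e⟩ := StalkLoc.Basic.exists_smul_eq_germ hU hyU w
  have hu : IsUnit (X.presheaf.germ U y hyU f) := (X.mem_basicOpen f y hyU).mp hf
  have hval : valAt hX D x ((divSh hX D).presheaf.germ U x hxU t) =
      algebraMap (X.presheaf.stalk y) X.functionField (X.presheaf.germ U y hyU f) * a := by
    rw [← valAt_toGen, toGen_germ, ← toGen_germ hyU, valAt_toGen, ← e, valAt_smul, hw]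
  have hne := algebraMap_ne_zero hu.ne_zero
  refine ⟨_, by rw [hval]; exact mul_ne_zero hne ha, ?_⟩
  rw [hval, Scheme.ord_mul hne ha, ord_of_isUnit hX hy hu, ha', zero_add]

/-- `O(D)` is reflexive. -/
theorem isReflexiveAt (hD : IsDiv D) (x : X) : RefHull.IsReflexiveAt (divSh hX D) x := by
  let K := X.functionField
  let M := (divSh hX D).presheaf.stalk x
  haveI := Reflexive.finite_stalk (isCoh (hX := hX) hD) x
  have hprod : ∀ (m : M) (c : (divSh hX fun y => - D y).presheaf.stalk x), ∃ r : X.presheaf.stalk x,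
      algebraMap (X.presheaf.stalk x) K r = valAt hX D x m * valAt hX (fun y => - D y) x c := by
    intro m c
    refine mem_range_of_codim_one hX x _ fun y hyx hy => ?_
    have hy1 := dim_eq_one_iff.mp hy
    rcases eq_or_ne (valAt hX D x m) 0 with hm | hm
    · exact ⟨0, by rw [hm, zero_mul, map_zero]⟩
    rcases eq_or_ne (valAt hX (fun y => - D y) x c) 0 with hc | hc
    · exact ⟨0, by rw [hc, mul_zero, map_zero]⟩
    rw [mem_range_iff hX hy1 (mul_ne_zero hm hc), Scheme.ord_mul hm hc]
    have h1 := ((cond_valAt x m hyx) hy1).resolve_left hm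
    have h2 := ((cond_valAt x c hyx) hy1).resolve_left hc
    omega
  choose r hr using hprod
  have hinj : Function.Injective (algebraMap (X.presheaf.stalk x) K) :=
    IsFractionRing.injective (X.presheaf.stalk x) K
  let θ : (divSh hX fun y => - D y).presheaf.stalk x → Module.Dual (X.presheaf.stalk x) M := fun c =>
    { toFun := fun m => r m c
      map_add' := fun a b => hinj (by rw [map_add, hr, hr, hr, map_add, add_mul])
      map_smul' := fun s a => hinj (by
        rw [RingHom.id_apply, smul_eq_mul, map_mul, hr, hr, valAt_smul, mul_assoc]) }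
  refine ⟨⟨?_, fun φ => ?_⟩⟩
  · rw [injective_iff_map_eq_zero]
    intro m hm
    obtain ⟨v, hv⟩ := exists_valAt_eq (hX := hX) hD.neg (genericPoint ↥X) 1 fun z hz hz1 =>
      absurd (by rwa [hz.antisymm (spec z) |>.eq] at hz1) coheight_genericPoint_ne_one
    haveI := isQCoh (hX := hX) hD.neg
    obtain ⟨b, c, hb, hbc⟩ := exists_frac x v
    have h0 : algebraMap _ K (θ c m) = 0 := by
      rw [show θ c m = Module.Dual.eval _ _ m (θ c) from rfl, hm, LinearMap.zero_apply, map_zero]
    rw [show θ c m = r m c from rfl, hr] at h0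
    refine valAt_injective x (((mul_eq_zero.mp h0).resolve_right ?_).trans (map_zero _).symm)
    rw [← valAt_toGen, ← hbc, valAt_smul, hv, mul_one]
    exact fun e => algebraMap_ne_zero hb ((stalkSpecializes_genericPoint _).symm.trans e)
  · obtain ⟨k, hk, hkφ⟩ := DualAlg.exists_smul_eval (R := X.presheaf.stalk x) (M := M)
    obtain ⟨m₀, hm₀⟩ := hkφ φ
    have hk' : algebraMap (X.presheaf.stalk x) K k ≠ 0 := algebraMap_ne_zero hk
    obtain ⟨w, hw⟩ := exists_valAt_eq (hX := hX) hD x (valAt hX D x m₀ / algebraMap _ K k)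
      fun y hyx hy1 => by
        rcases eq_or_ne (valAt hX D x m₀) 0 with h0 | h0
        · exact Or.inl (by rw [h0, zero_div])
        refine Or.inr ?_
        obtain ⟨c, hc, hc'⟩ := exists_stalk_ord hX hD.neg hyx hy1
        have e : k * φ (θ c) = r m₀ c := (LinearMap.congr_fun hm₀ (θ c) :)
        have e' := congrArg (algebraMap (X.presheaf.stalk x) K) e
        rw [map_mul, hr] at e'
        have hv : algebraMap (X.presheaf.stalk x) K (φ (θ c)) =
            valAt hX D x m₀ / algebraMap (X.presheaf.stalk x) K k * valAt hX (fun y => - D y) x c := by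
          rw [div_mul_eq_mul_div, eq_div_iff hk', ← e', mul_comm]
        have hne := mul_ne_zero (div_ne_zero h0 hk') hc
        have h := (mem_range_iff hX hy1 hne).mp
          ⟨X.presheaf.stalkSpecializes hyx (φ (θ c)), by
            rw [← hv]
            obtain ⟨U, hxU, f, hf⟩ := TopCat.Presheaf.exists_germ_eq X.presheaf (φ (θ c))
            rw [← hf]
            erw [TopCat.Presheaf.germ_stalkSpecializes_apply X.presheaf hxU hyx]
            rw [algebraMap_germ, algebraMap_germ]⟩
        rw [Scheme.ord_mul (div_ne_zero h0 hk') hc, hc'] at h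
        omega
    refine ⟨w, LinearMap.ext fun η => mul_left_cancel₀ hk ?_⟩
    have hwm : k • w = m₀ := valAt_injective x (by rw [valAt_smul, hw, mul_div_cancel₀ _ hk'])
    calc k * Module.Dual.eval _ _ w η = η (k • w) := by rw [map_smul]; rfl
      _ = k * φ η := by rw [hwm]; exact (LinearMap.congr_fun hm₀ η).symm

theorem isReflexive (hD : IsDiv D) : RefHull.IsReflexive (divSh hX D) :=
  (Reflexive.isReflexive_iff_forall (isCoh (hX := hX) hD)).mpr (isReflexiveAt hX hD)

theorem isRef1 (hD : IsDiv D) : RefHull.IsRef1 (divSh hX D) :=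
  ⟨isCoh (hX := hX) hD, isReflexive hX hD, genInvertible (hX := hX) hD⟩

/-- `O(D)` has a rational section with divisor `D`. -/
theorem exists_section (hD : IsDiv D) :
    ∃ s : (divSh hX D).presheaf.stalk (genericPoint ↥X), s ≠ 0 ∧
      ∀ y : X, Order.coheight y = 1 → secOrd (divSh hX D) s y = D y := by
  obtain ⟨s, hs⟩ := exists_valAt_eq (hX := hX) hD (genericPoint ↥X) 1 fun z hz hz1 =>
    absurd (by rwa [hz.antisymm (spec z) |>.eq] at hz1) coheight_genericPoint_ne_one
  have hs0 : s ≠ 0 := fun e => one_ne_zero (hs.symm.trans (by rw [e, map_zero]))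
  refine ⟨s, hs0, fun y hy => ?_⟩
  obtain ⟨a, ha, ha'⟩ := exists_ord_eq hX hy (- D y)
  obtain ⟨t, ht⟩ := exists_valAt_eq (hX := hX) hD y a fun z hz hz1 => by
    obtain rfl := eq_of_specializes_codim_one hy hz1 hz
    exact Or.inr (by omega)
  have hspan : Submodule.span (X.presheaf.stalk y) {t} = ⊤ := by
    refine eq_top_iff.mpr fun w _ => ?_
    rcases eq_or_ne (valAt hX D y w) 0 with h0 | h0
    · rw [valAt_injective y (h0.trans (map_zero _).symm)]
      exact Submodule.zero_mem _
    have h1 := ((cond_valAt y w (specializes_rfl : y ⤳ y)) hy).resolve_left h0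
    obtain ⟨r, hr⟩ := (mem_range_iff hX hy (div_ne_zero h0 ha)).mpr (by
      rw [ord_div h0 ha, ha']; omega)
    exact Submodule.mem_span_singleton.mpr
      ⟨r, valAt_injective y (by rw [valAt_smul, hr, ht, div_mul_cancel₀ _ ha])⟩
  rw [secOrd_eq hX hy (genInvertible (hX := hX) hD) hspan hs0 (φ := a⁻¹)
    (valAt_injective _ (by
      rw [valAt_smul, valAt_toGen, ht, hs]
      obtain ⟨U, hU, f, hf⟩ := TopCat.Presheaf.exists_germ_eq X.presheaf (a⁻¹ : X.functionField)
      rw [← hf, algebraMap_germ, hf, inv_mul_cancel₀ ha])),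
    Ord.ord_inv ha, ha', neg_neg]

variable {F G : X.Modules}

include hX in
/-- The reflexive tensor product is of rank one and its divisor is the sum. -/
theorem refTensor_spec (hF : RefHull.IsRef1 F) (hG : RefHull.IsRef1 G)
    {s : F.presheaf.stalk (genericPoint ↥X)} (hs : s ≠ 0)
    {t : G.presheaf.stalk (genericPoint ↥X)} (ht : t ≠ 0) :
    RefHull.IsRef1 (RefHull.ddual (CohB1.tensorMod F G)) ∧
      RefHull.stalkMapₗ (RefHull.bidualMap (CohB1.tensorMod F G)) (genericPoint ↥X)
        (pair (genericPoint ↥X) s t) ≠ 0 ∧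
      ∀ y : X, Order.coheight y = 1 →
        secOrd (RefHull.ddual (CohB1.tensorMod F G))
          (RefHull.stalkMapₗ (RefHull.bidualMap (CohB1.tensorMod F G)) (genericPoint ↥X)
            (pair (genericPoint ↥X) s t)) y = secOrd F s y + secOrd G t y := by
  set T := CohB1.tensorMod F G
  set β := RefHull.stalkMapₗ (RefHull.bidualMap T) (genericPoint ↥X)
  have hT : Coh.IsCoh T := isCoh_tensorMod hF.1 hG.1
  have hH : Coh.IsCoh (RefHull.ddual T) := Reflexive.isCoh_ddual hT
  have hR : RefHull.IsReflexive (RefHull.ddual T) :=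
    Reflexive.isReflexive_dual (Reflexive.isCoh_dual hT)
  have hb : Function.Bijective β := stalkMap_bidual_bijective_genericPoint hT
  have hw : β (pair (genericPoint ↥X) s t) ≠ 0 := fun h =>
    pair_ne_zero hF.2.2 hG.2.2 hs ht (hb.1 (h.trans (map_zero _).symm))
  have hg : RefHull.GenInvertible (RefHull.ddual T) :=
    genInvertible_of_basis hH (toGen_injective_of_isReflexive hH hR) hw fun v => by
      obtain ⟨v', rfl⟩ := hb.2 v
      obtain ⟨a, rfl⟩ := span_pair_generic hF.2.2 hG.2.2 hs ht v'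
      exact ⟨a, (map_smul β a _).symm⟩
  refine ⟨⟨hH, hR, hg⟩, hw, fun y hy => ?_⟩
  obtain ⟨a, ha, ha0⟩ := exists_generator hX hy hF
  obtain ⟨b, hb', hb0⟩ := exists_generator hX hy hG
  obtain ⟨φ, hφ⟩ := span_of_ne_zero hF.2.2 ha0 s
  obtain ⟨ψ, hψ⟩ := span_of_ne_zero hG.2.2 hb0 t
  have hφ0 : φ ≠ 0 := fun h => hs (by rw [← hφ, h, zero_smul])
  have hψ0 : ψ ≠ 0 := fun h => ht (by rw [← hψ, h, zero_smul])
  have hspan : Submodule.span (X.presheaf.stalk y)
      {RefHull.stalkMapₗ (RefHull.bidualMap T) y (pair y a b)} = ⊤ := by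
    rw [← Set.image_singleton, Submodule.span_image, span_pair ha hb', Submodule.map_top,
      LinearMap.range_eq_top]
    exact stalkMap_bidual_surjective hX hT y (dim_of_coheight hy).le
  rw [secOrd_eq hX hy hF.2.2 ha hs hφ, secOrd_eq hX hy hG.2.2 hb' ht hψ,
    secOrd_eq hX hy hg hspan hw (φ := φ * ψ) ?_, Scheme.ord_mul hφ0 hψ0]
  rw [toGen_stalkMap, toGen_pair]
  rw [← hφ, ← hψ]
  simp only [map_smul, LinearMap.smul_apply, smul_smul]
  rw [mul_comm]

omit [IsLocallyNoetherian X] in
theorem exists_rational_section (hF : RefHull.IsRef1 F) :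
    ∃ s : F.presheaf.stalk (genericPoint ↥X), s ≠ 0 :=
  let ⟨s, hs, _⟩ := exists_basis_generic hF.2.2
  ⟨s, hs⟩

include hX in
/-- The dual is of rank one and its divisor is the opposite. -/
theorem dual_spec (hF : RefHull.IsRef1 F) {s : F.presheaf.stalk (genericPoint ↥X)} (hs : s ≠ 0) :
    RefHull.IsRef1 (RefHull.dual F) ∧ ∃ t : (RefHull.dual F).presheaf.stalk (genericPoint ↥X), t ≠ 0 ∧
      ∀ y : X, Order.coheight y = 1 → secOrd (RefHull.dual F) t y = - secOrd F s y := by
  haveI := hF.1.1
  have hH : Coh.IsCoh (RefHull.dual F) := Reflexive.isCoh_dual hF.1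
  have hR : RefHull.IsReflexive (RefHull.dual F) := Reflexive.isReflexive_dual hF.1
  let η := genericPoint ↥X
  choose c hc using span_of_ne_zero hF.2.2 hs
  have kc : ∀ w a, a • s = w → c w = a := fun w a ha =>
    smul_left_injective' hF.2.2 hs ((hc w).trans ha.symm)
  let θ : Module.Dual (X.presheaf.stalk η) (F.presheaf.stalk η) :=
    { toFun := c
      map_add' := fun a b => kc _ _ (by rw [add_smul, hc, hc])
      map_smul' := fun r a => kc _ _ (by rw [RingHom.id_apply, smul_eq_mul, mul_smul, hc]) }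
  let E := Reflexive.dualStalkEquiv hF.1 η
  have hθs : θ s = 1 := kc s 1 (one_smul _ _)
  have ht : E.symm θ ≠ 0 := fun h => one_ne_zero (hθs.symm.trans (by
    rw [← E.apply_symm_apply θ, h, map_zero, LinearMap.zero_apply]))
  have hspanE : ∀ v, ∃ a : X.functionField, a • E.symm θ = v := fun v => by
    refine ⟨E v s, E.injective ?_⟩
    rw [map_smul, E.apply_symm_apply]
    refine LinearMap.ext fun w => ?_
    rw [LinearMap.smul_apply, show θ w = c w from rfl]
    conv_rhs => rw [← hc w, map_smul]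
    exact mul_comm _ _
  have hg : RefHull.GenInvertible (RefHull.dual F) :=
    genInvertible_of_basis hH (toGen_injective_of_isReflexive hH hR) ht hspanE
  refine ⟨⟨hH, hR, hg⟩, _, ht, fun y hy => ?_⟩
  obtain ⟨a, ha, ha0⟩ := exists_generator hX hy hF
  obtain ⟨φ, hφ⟩ := span_of_ne_zero hF.2.2 ha0 s
  have hφ0 : φ ≠ 0 := fun h => hs (by rw [← hφ, h, zero_smul])
  have hinj := toGen_injective_of_isReflexive hF.1 hF.2.1 y
  have hfree : ∀ r : X.presheaf.stalk y, r • a = 0 → r = 0 := fun r h => by
    refine IsFractionRing.injective (X.presheaf.stalk y) X.functionField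
      ((smul_left_injective' hF.2.2 ha0 ?_).trans (map_zero _).symm)
    rw [← toGen_smul, h, map_zero, zero_smul]
  choose q hq using fun v : F.presheaf.stalk y => Submodule.mem_span_singleton.mp
    (show v ∈ Submodule.span (X.presheaf.stalk y) {a} by rw [ha]; trivial)
  have kq : ∀ v r, r • a = v → q v = r := fun v r h =>
    sub_eq_zero.mp (hfree _ (by rw [sub_smul, hq, h, sub_self]))
  let δ : Module.Dual (X.presheaf.stalk y) (F.presheaf.stalk y) :=
    { toFun := q
      map_add' := fun u v => kq _ _ (by rw [add_smul, hq, hq])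
      map_smul' := fun r v => kq _ _ (by rw [RingHom.id_apply, smul_eq_mul, mul_smul, hq]) }
  let Ey := Reflexive.dualStalkEquiv hF.1 y
  have hspan : Submodule.span (X.presheaf.stalk y) {Ey.symm δ} = ⊤ := by
    refine eq_top_iff.mpr fun v _ => Submodule.mem_span_singleton.mpr ⟨Ey v a, Ey.injective ?_⟩
    rw [map_smul, Ey.apply_symm_apply]
    refine LinearMap.ext fun w => ?_
    rw [LinearMap.smul_apply, show δ w = q w from rfl]
    conv_rhs => rw [← hq w, map_smul]
    exact mul_comm _ _
  have hcompat : ∀ (v : (RefHull.dual F).presheaf.stalk y) (w : F.presheaf.stalk y),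
      E (toGen (RefHull.dual F) y v) (toGen F y w) =
        algebraMap (X.presheaf.stalk y) X.functionField (Ey v w) := by
    intro v w
    obtain ⟨U, hU, g, rfl⟩ := TopCat.Presheaf.exists_germ_eq (RefHull.dual F).presheaf v
    obtain ⟨W, hW, m, rfl⟩ := TopCat.Presheaf.exists_germ_eq F.presheaf w
    have hyUW : y ∈ U ⊓ W := Opens.mem_inf.mpr ⟨hU, hW⟩
    have hηUW := (spec y).mem_open (U ⊓ W).isOpen hyUW
    obtain ⟨n, hn⟩ := exists_app g (inf_le_left : U ⊓ W ≤ U) (rs F inf_le_right m)
    have h1 := hn ⟨y, hyUW⟩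
    have h2 := hn ⟨_, hηUW⟩
    rw [germ_rs] at h1 h2
    rw [toGen_germ, toGen_germ, Reflexive.dualStalkEquiv_apply, RefHull.evalStalk_germ, ← h2,
      Reflexive.dualStalkEquiv_apply, RefHull.evalStalk_germ, ← h1]
    rw [oEquiv_germ, oEquiv_germ, algebraMap_germ]
  rw [secOrd_eq hX hy hF.2.2 ha hs hφ, secOrd_eq hX hy hg hspan ht (φ := φ⁻¹) ?_, Ord.ord_inv hφ0]
  apply E.injective
  rw [map_smul, E.apply_symm_apply]
  refine LinearMap.ext fun w => ?_
  have hw : (c w * φ) • toGen F y a = w := by rw [mul_smul, hφ, hc]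
  rw [LinearMap.smul_apply, ← hw, map_smul, hcompat, Ey.apply_symm_apply,
    show δ a = q a from rfl, kq a 1 (one_smul _ _), map_one, hw, show θ w = c w from rfl]
  simp only [smul_eq_mul]
  field_simp

end Groth.Agent.Lib.RefHull.DivRef
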