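import Groth.Agent.Lib.RefHull.DivSheaf
import Groth.Agent.Lib.DerivedOX.TensorSheaf
import Groth.Agent.Lib.TensorMod.TensorQCoh
import Groth.Prelude.Def_SecTwist

/-!
# Rational sections of tensor products
-/

universe u

noncomputable section

open CategoryTheory AlgebraicGeometry TopologicalSpace Opposite
open scoped TensorProduct

namespace Groth.Agent.Lib.RefHull.Tensor

open Groth.Agent.Lib Groth.Agent.Lib.TensorMod Groth.Agent.Lib.TensorMod.Dual SecHom Generic RankOne Ord Divisor
open Groth.Agent.Lib.DerivedOX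

variable {X : Scheme.{u}} {F G : X.Modules}

variable (F G) in
/-- The stalk of a tensor product. -/
def tStalk (x : X) : (CohB1.tensorMod F G).presheaf.stalk x ≃ₗ[X.presheaf.stalk x]
    F.presheaf.stalk x ⊗[X.presheaf.stalk x] G.presheaf.stalk x :=
  TensorSheaf.tensorStalk x F G

/-- The pairing into the stalk of the tensor product. -/
def pair (x : X) : F.presheaf.stalk x →ₗ[X.presheaf.stalk x]
    G.presheaf.stalk x →ₗ[X.presheaf.stalk x] (CohB1.tensorMod F G).presheaf.stalk x :=
  (TensorProduct.mk _ _ _).compr₂ (tStalk F G x).symm.toLinearMap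

lemma pair_apply (x : X) (a : F.presheaf.stalk x) (b : G.presheaf.stalk x) :
    pair x a b = (tStalk F G x).symm (a ⊗ₜ b) := rfl

lemma pair_germ {U : X.Opens} {x : X} (hx : x ∈ U) (m : Γ(F, U)) (n : Γ(G, U)) :
    pair x (F.presheaf.germ U x hx m) (G.presheaf.germ U x hx n) =
      (CohB1.tensorMod F G).presheaf.germ U x hx (SecTwist.tmul F G U m n) := by
  refine (LinearEquiv.symm_apply_eq (tStalk F G x)).mpr ?_
  have e : (CohB1.tensorMod F G).presheaf.germ U x hx (SecTwist.tmul F G U m n) =
      TensorSheaf.shStalkEquiv x _ (TensorStalk.germ (P := CohB1.tensorPre F G) hx (m ⊗ₜ n)) :=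
    (TensorStalk.stMap_germ (x := x) (TensorSheaf.unitSh (CohB1.tensorPre F G)) hx (m ⊗ₜ n)).symm
  rw [e]
  refine Eq.symm ((TensorSheaf.tensorStalk_shStalkEquiv x F G _).trans ?_)
  exact (congrArg (TensorProduct.congr (TensorSheaf.fgtStalkEquiv x F) (TensorSheaf.fgtStalkEquiv x G))
    (TensorStalk.tensorStalkEquiv_germ_tm hx m n)).trans rfl

lemma span_pair {x : X} {a : F.presheaf.stalk x} {b : G.presheaf.stalk x}
    (ha : Submodule.span (X.presheaf.stalk x) {a} = ⊤) (hb : Submodule.span (X.presheaf.stalk x) {b} = ⊤) :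
    Submodule.span (X.presheaf.stalk x) {pair x a b} = ⊤ := by
  have h : Submodule.span (X.presheaf.stalk x) {a ⊗ₜ[X.presheaf.stalk x] b} = ⊤ := by
    refine eq_top_iff.mpr fun w _ => ?_
    induction w using TensorProduct.induction_on with
    | zero => exact Submodule.zero_mem _
    | tmul v v' =>
      obtain ⟨r, rfl⟩ := Submodule.mem_span_singleton.mp
        (show v ∈ Submodule.span (X.presheaf.stalk x) {a} by rw [ha]; trivial)
      obtain ⟨r', rfl⟩ := Submodule.mem_span_singleton.mp
        (show v' ∈ Submodule.span (X.presheaf.stalk x) {b} by rw [hb]; trivial)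
      refine Submodule.mem_span_singleton.mpr ⟨r * r', ?_⟩
      rw [TensorProduct.smul_tmul', TensorProduct.tmul_smul, TensorProduct.smul_tmul', smul_smul, mul_comm]
    | add v v' hv hv' => exact Submodule.add_mem _ (hv trivial) (hv' trivial)
  rw [pair_apply, ← Set.image_singleton (f := (tStalk F G x).symm), ← LinearEquiv.coe_coe,
    Submodule.span_image, h, Submodule.map_top, LinearEquiv.range]

theorem isCoh_tensorMod (hF : Coh.IsCoh F) (hG : Coh.IsCoh G) :
    Coh.IsCoh (CohB1.tensorMod F G) := by
  haveI := hF.1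
  haveI := hF.2
  haveI := hG.1
  haveI := hG.2
  exact ⟨TensorQCoh.isQCoh_tensorMod F G, TensorQCoh.isFiniteType_tensorMod F G⟩

variable [IsIntegral X]

lemma toGen_pair (x : X) (a : F.presheaf.stalk x) (b : G.presheaf.stalk x) :
    toGen (CohB1.tensorMod F G) x (pair x a b) =
      pair (genericPoint ↥X) (toGen F x a) (toGen G x b) := by
  obtain ⟨U, hU, m, rfl⟩ := TopCat.Presheaf.exists_germ_eq F.presheaf a
  obtain ⟨V, hV, n, rfl⟩ := TopCat.Presheaf.exists_germ_eq G.presheaf b
  have hx : x ∈ U ⊓ V := Opens.mem_inf.mpr ⟨hU, hV⟩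
  rw [← germ_rs (inf_le_left : U ⊓ V ≤ U) hx m, ← germ_rs (inf_le_right : U ⊓ V ≤ V) hx n, pair_germ,
    toGen_germ hx (rs F inf_le_left m), toGen_germ hx (rs G inf_le_right n), pair_germ]
  exact toGen_germ (F := CohB1.tensorMod F G) hx _

lemma pair_ne_zero (hF : RefHull.GenInvertible F) (hG : RefHull.GenInvertible G)
    {s : F.presheaf.stalk (genericPoint ↥X)} (hs : s ≠ 0)
    {t : G.presheaf.stalk (genericPoint ↥X)} (ht : t ≠ 0) :
    pair (genericPoint ↥X) s t ≠ 0 := by
  intro h
  choose c hc using span_of_ne_zero hF hs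
  choose d hd using span_of_ne_zero hG ht
  have kc : ∀ w a, a • s = w → c w = a := fun w a ha =>
    smul_left_injective' hF hs ((hc w).trans ha.symm)
  have kd : ∀ w a, a • t = w → d w = a := fun w a ha =>
    smul_left_injective' hG ht ((hd w).trans ha.symm)
  let μ : F.presheaf.stalk (genericPoint ↥X) →ₗ[X.presheaf.stalk (genericPoint ↥X)]
      G.presheaf.stalk (genericPoint ↥X) →ₗ[X.presheaf.stalk (genericPoint ↥X)] X.functionField :=
    LinearMap.mk₂ _ (fun v w => c v * d w)
      (fun a b w => by rw [kc (a + b) (c a + c b) (by rw [add_smul, hc, hc]), add_mul])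
      (fun r a w => by rw [kc (r • a) (r * c a) (by rw [mul_smul, hc]), mul_assoc, smul_eq_mul])
      (fun v a b => by rw [kd (a + b) (d a + d b) (by rw [add_smul, hd, hd]), mul_add])
      (fun r v a => by rw [kd (r • a) (r * d a) (by rw [mul_smul, hd]), smul_eq_mul, mul_left_comm])
  have h' : s ⊗ₜ[X.presheaf.stalk (genericPoint ↥X)] t = 0 :=
    (tStalk F G _).symm.injective (h.trans (map_zero _).symm)
  have h'' := congrArg (TensorProduct.lift μ) h'
  rw [map_zero, TensorProduct.lift.tmul, LinearMap.mk₂_apply, kc s 1 (one_smul _ _),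
    kd t 1 (one_smul _ _), mul_one] at h''
  exact one_ne_zero h''

lemma span_pair_generic (hF : RefHull.GenInvertible F) (hG : RefHull.GenInvertible G)
    {s : F.presheaf.stalk (genericPoint ↥X)} (hs : s ≠ 0)
    {t : G.presheaf.stalk (genericPoint ↥X)} (ht : t ≠ 0)
    (w : (CohB1.tensorMod F G).presheaf.stalk (genericPoint ↥X)) :
    ∃ a : X.functionField, a • pair (genericPoint ↥X) s t = w := by
  have h : Submodule.span (X.presheaf.stalk (genericPoint ↥X)) {pair (genericPoint ↥X) s t} = ⊤ :=
    span_pair (eq_top_iff.mpr fun v _ => Submodule.mem_span_singleton.mpr (span_of_ne_zero hF hs v))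
      (eq_top_iff.mpr fun v _ => Submodule.mem_span_singleton.mpr (span_of_ne_zero hG ht v))
  exact Submodule.mem_span_singleton.mp (show w ∈ _ by rw [h]; trivial)

variable [IsLocallyNoetherian X]

/-- A coherent module with injective maps to the generic stalk and one-dimensional generic stalk is
invertible near the generic point. -/
theorem genInvertible_of_basis {H : X.Modules} (hH : Coh.IsCoh H)
    (hinj : ∀ x, Function.Injective (toGen H x)) {t : H.presheaf.stalk (genericPoint ↥X)} (ht : t ≠ 0)
    (hspan : ∀ w, ∃ a : X.functionField, a • t = w) : RefHull.GenInvertible H := by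
  haveI := hH.1
  obtain ⟨U₀, hη₀, n₀, hn₀⟩ := TopCat.Presheaf.exists_germ_eq H.presheaf t
  obtain ⟨U, hU, hηU, hle'⟩ := exists_isAffineOpen_mem_and_subset (X := X) hη₀
  have hle : U ≤ U₀ := hle'
  set n := rs H hle n₀ with hn
  have hnt : H.presheaf.germ U _ hηU n = t := by rw [hn, germ_rs]; exact hn₀
  haveI := CohBasics.Closure.finite_sections hH hU
  obtain ⟨k, m, hm⟩ := Module.Finite.exists_fin (R := Γ(X, U)) (M := Γ(H, U))
  choose a ha using fun i => hspan (H.presheaf.germ U _ hηU (m i))
  choose W hW c hc using fun i => TopCat.Presheaf.exists_germ_eq X.presheaf (a i)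
  have hopen : IsOpen ((U : Set X) ∩ ⋂ i, (W i : Set X)) :=
    U.isOpen.inter (isOpen_iInter_of_finite fun i => (W i).2)
  let O : X.Opens := ⟨_, hopen⟩
  have hηO : genericPoint ↥X ∈ O := ⟨hηU, Set.mem_iInter.mpr hW⟩
  have hOU : O ≤ U := fun y hy => hy.1
  refine ⟨O, O.isOpen.dense ⟨_, hηO⟩, ?_⟩
  have hspan_y : ∀ (y : X) (hy : y ∈ O) (v : H.presheaf.stalk y),
      ∃ r : X.presheaf.stalk y, r • H.presheaf.germ U y (hOU hy) n = v := by
    intro y hy v
    have h1 := CohBasics.Affine.germ_span_eq_top hU _ hm (hOU hy)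
    have hle2 : Submodule.span (X.presheaf.stalk y)
        (H.presheaf.germ U y (hOU hy) '' Set.range m) ≤
        Submodule.span (X.presheaf.stalk y) {H.presheaf.germ U y (hOU hy) n} := by
      rw [Submodule.span_le]
      rintro _ ⟨_, ⟨i, rfl⟩, rfl⟩
      have hyW : y ∈ W i := Set.mem_iInter.mp hy.2 i
      refine Submodule.mem_span_singleton.mpr ⟨X.presheaf.germ (W i) y hyW (c i), hinj y ?_⟩
      rw [toGen_smul, algebraMap_germ, toGen_germ, toGen_germ, hnt, hc, ha]
    exact Submodule.mem_span_singleton.mp (hle2 (h1 ▸ (trivial : v ∈ (⊤ : Submodule (X.presheaf.stalk y) _))))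
  refine Gen.isInvertible_iff.mpr fun z => ?_
  have hgen : Gen.IsGen H O (rs H hOU n) := fun V hV => by
    constructor
    · intro r r' hrr
      refine TopCat.Presheaf.section_ext X.sheaf V r r' fun y hy => ?_
      have hη := (spec y).mem_open V.isOpen hy
      have e := congrArg (toGen H y ∘ H.presheaf.germ V y hy) hrr
      simp only [Function.comp_apply, Mero.germ_smul, germ_rs, toGen_smul, toGen_germ, hnt] at e
      refine IsFractionRing.injective (X.presheaf.stalk y) X.functionField ?_
      by_contra hne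
      have h0 : (algebraMap (X.presheaf.stalk y) X.functionField (X.presheaf.germ V y hy r) -
          algebraMap (X.presheaf.stalk y) X.functionField (X.presheaf.germ V y hy r')) • t = 0 := by
        rw [sub_smul]; exact sub_eq_zero.mpr e
      exact ht ((isUnit_iff_ne_zero.mpr (sub_ne_zero.mpr hne)).smul_eq_zero.mp h0)
    · intro s
      by_cases hη : genericPoint ↥X ∈ V
      · obtain ⟨α, hα⟩ := hspan (H.presheaf.germ V _ hη s)
        have hV' : ∀ y ∈ V, ∃ r, algebraMap (X.presheaf.stalk y) X.functionField r = α := fun y hy => by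
          obtain ⟨r, hr⟩ := hspan_y y (hV hy) (H.presheaf.germ V y hy s)
          refine ⟨r, ?_⟩
          have e := congrArg (toGen H y) hr
          rw [toGen_smul, toGen_germ, toGen_germ, hnt, ← hα] at e
          by_contra hne
          have h0 : (algebraMap (X.presheaf.stalk y) X.functionField r - α) • t = 0 := by
            rw [sub_smul]; exact sub_eq_zero.mpr e
          exact ht ((isUnit_iff_ne_zero.mpr (sub_ne_zero.mpr hne)).smul_eq_zero.mp h0)
        obtain ⟨q, hq⟩ := DivSheaf.exists_function hη α hV'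
        refine ⟨q, sec_ext fun y hy => hinj y ?_⟩
        dsimp only
        rw [Mero.germ_smul, germ_rs, germ_rs, toGen_smul, algebraMap_germ, toGen_germ, toGen_germ, hnt, hq, hα]
      · exact ⟨0, sec_ext fun y hy => absurd ((spec y).mem_open V.isOpen hy) hη⟩
  obtain ⟨i⟩ := Gen.exists_iso_of_gen hgen
  exact Gen.isInvertible_iff.mp (Invertible.isInvertible_of_iso i.symm DivSheaf.isInvertible_structure) z

end Groth.Agent.Lib.RefHull.Tensor
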