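import Groth.Agent.Lib.RefHull.ExtDet
import Groth.Agent.Lib.RefHull.DivRef
import Groth.Agent.Lib.RefHull.LocFree
import Groth.Agent.Lib.RefHull.DimTwo
import Groth.Agent.Lib.RefHull.Tensor
import Groth.Agent.Lib.TensorMod.LocFree
import Groth.Agent.Lib.Cyc.TorPD
import Groth.Agent.Lib.Regular.UFD

/-!
# Reflexive hulls of determinants on regular schemes of dimension at most two
-/

universe u

noncomputable section

open CategoryTheory AlgebraicGeometry TopologicalSpace Opposite

namespace Groth.Agent.Lib.RefHull.ExtHull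

open Groth.Agent.Lib Generic Ord RankOne

variable {X : Scheme.{u}} [IsIntegral X] [IsLocallyNoetherian X]

/-- Regular schemes with integral local rings are normal. -/
theorem isNormal (hreg : ∀ x : ↥X, IsRegularLocalRing ↑(X.presheaf.stalk x)) : Pi1.IsNormalScheme X :=
  fun x => haveI := hreg x
    ⟨inferInstance, Regular.UFD.isIntegrallyClosed _⟩

/-- A rank one reflexive module on a regular scheme of dimension at most two is invertible. -/
theorem isInvertible (hreg : ∀ x : ↥X, IsRegularLocalRing ↑(X.presheaf.stalk x))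
    (hdim : topologicalKrullDim ↥X ≤ 2) {H : X.Modules} (hH : RefHull.IsRef1 H) :
    PicF.IsInvertible H := by
  have hfree : ∀ x : X, Module.Free (X.presheaf.stalk x) (H.presheaf.stalk x) := fun x => by
    haveI := hreg x
    haveI : Module.IsReflexive (X.presheaf.stalk x) (H.presheaf.stalk x) :=
      (Reflexive.isReflexive_iff_forall hH.1).mp hH.2.1 x
    haveI := Reflexive.finite_stalk hH.1 x
    refine DimTwo.free_of_isReflexive ?_ _
    have h1 := IsRegularLocalRing.spanFinrank_maximalIdeal (R := X.presheaf.stalk x)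
    have h2 := (Cyc.TorPD.ringKrullDim_stalk_le x).trans hdim
    rw [← h1] at h2
    exact_mod_cast h2
  refine TensorMod.LocFree.isInvertible_of_rank_one fun x => ?_
  obtain ⟨U, n, hx, ⟨i⟩⟩ := LocFree.isFinLocFree hH.1 hfree x
  obtain ⟨s, hs⟩ := CurveBundle.Coherent.exists_basis_sections i
  have hη := (spec x).mem_open U.isOpen hx
  let b : Module.Basis (Fin n) X.functionField (H.presheaf.stalk (genericPoint ↥X)) :=
    Module.Basis.mk (hs _ hη).1 (hs _ hη).2.ge
  obtain ⟨t, ht0, ht⟩ := exists_basis_generic hH.2.2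
  have h1 : Module.finrank X.functionField (H.presheaf.stalk (genericPoint ↥X)) = 1 :=
    finrank_eq_one t ht0 ht
  rw [Module.finrank_eq_card_basis b, Fintype.card_fin] at h1
  subst h1
  exact ⟨U, hx, ⟨i⟩⟩

variable {F : X.Modules} {r : ℕ}

/-- Free generators of the image of a stalk at a codimension one point. -/
theorem exists_gens (hX : Pi1.IsNormalScheme X) (hF : Coh.IsCoh F)
    (hr : Module.finrank X.functionField (F.presheaf.stalk (genericPoint ↥X)) = r)
    {y : X} (hy : Order.coheight y = 1) :
    ∃ c : Fin r → F.presheaf.stalk y,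
      LinearIndependent X.functionField (fun i => toGen F y (c i)) ∧
      ∀ v, ∃ a : Fin r → X.presheaf.stalk y, toGen F y v =
        ∑ j, algebraMap (X.presheaf.stalk y) X.functionField (a j) • toGen F y (c j) := by
  haveI := hF.1
  haveI := isDVR hX hy
  haveI := Reflexive.finite_stalk hF y
  letI : Module (X.presheaf.stalk y) (F.presheaf.stalk (genericPoint ↥X)) :=
    Module.compHom _ (algebraMap (X.presheaf.stalk y) X.functionField)
  haveI : IsScalarTower (X.presheaf.stalk y) X.functionField (F.presheaf.stalk (genericPoint ↥X)) :=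
    IsScalarTower.of_algebraMap_smul fun _ _ => rfl
  let l : F.presheaf.stalk y →ₗ[X.presheaf.stalk y] F.presheaf.stalk (genericPoint ↥X) :=
    { toFun := toGen F y, map_add' := map_add _, map_smul' := toGen_smul y }
  haveI : Module.Finite (X.presheaf.stalk y) (LinearMap.range l) := Module.Finite.range l
  haveI : Module.IsTorsionFree (X.presheaf.stalk y) (LinearMap.range l) := by
    refine Module.IsTorsionFree.mk fun a ha => ?_
    intro p q hpq
    refine Subtype.ext ?_
    have hne : algebraMap (X.presheaf.stalk y) X.functionField a ≠ 0 :=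
      algebraMap_ne_zero ha.ne_zero
    exact ((isUnit_iff_ne_zero.mpr hne).smul_left_cancel).mp (congrArg Subtype.val hpq)
  let b := Module.Free.chooseBasis (X.presheaf.stalk y) (LinearMap.range l)
  have hli : LinearIndependent X.functionField (fun i => (b i : F.presheaf.stalk (genericPoint ↥X))) :=
    (LinearIndependent.iff_fractionRing (X.presheaf.stalk y) X.functionField).mp
      (b.linearIndependent.map' (LinearMap.range l).subtype (Submodule.ker_subtype _))
  have hrep : ∀ v, ∃ a : Module.Free.ChooseBasisIndex (X.presheaf.stalk y) (LinearMap.range l) →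
      X.presheaf.stalk y, toGen F y v = ∑ j, algebraMap (X.presheaf.stalk y) X.functionField (a j) •
        (b j : F.presheaf.stalk (genericPoint ↥X)) := fun v => by
    refine ⟨b.repr ⟨l v, v, rfl⟩, ?_⟩
    have h := congrArg Subtype.val (b.sum_repr ⟨l v, v, rfl⟩)
    simp only [AddSubmonoidClass.coe_finsetSum, SetLike.val_smul] at h
    exact h.symm
  have hsp : ⊤ ≤ Submodule.span X.functionField
      (Set.range fun i => (b i : F.presheaf.stalk (genericPoint ↥X))) := fun w _ => by
    obtain ⟨a, v, ha, hv⟩ := exists_frac y w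
    obtain ⟨q, hq⟩ := hrep v
    rw [show w = (algebraMap (X.presheaf.stalk y) X.functionField a)⁻¹ • toGen F y v by
      rw [← hv, smul_smul, inv_mul_cancel₀ (algebraMap_ne_zero ha), one_smul], hq]
    exact Submodule.smul_mem _ _ (Submodule.sum_mem _ fun j _ =>
      Submodule.smul_mem _ _ (Submodule.subset_span ⟨j, rfl⟩))
  let B := Module.Basis.mk hli hsp
  rw [Module.finrank_eq_card_basis B] at hr
  let e := (Fintype.equivFinOfCardEq hr).symm
  choose c hc using fun i => (b i).2
  refine ⟨fun i => c (e i), ?_, fun v => ?_⟩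
  · have : (fun i => toGen F y (c (e i))) = fun i => (b (e i) : F.presheaf.stalk (genericPoint ↥X)) :=
      funext fun i => hc (e i)
    rw [this]
    exact hli.comp e e.injective
  · obtain ⟨a, ha⟩ := hrep v
    refine ⟨fun i => a (e i), ha.trans ?_⟩
    rw [← e.sum_comp]
    exact Finset.sum_congr rfl fun i _ => by rw [show toGen F y (c (e i)) = _ from hc (e i)]

/-- The divisor of the reflexive hull of the determinant. -/
theorem exists_hull (hX : Pi1.IsNormalScheme X) (hF : Coh.IsCoh F) {L : X.Modules}
    (hL : ExtPow.IsExtPow r F L)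
    (B : Module.Basis (Fin r) X.functionField (F.presheaf.stalk (genericPoint ↥X))) :
    RefHull.IsRef1 (RefHull.ddual L) ∧
      ∃ v : (RefHull.ddual L).presheaf.stalk (genericPoint ↥X), v ≠ 0 ∧
        ∀ y : X, Order.coheight y = 1 → ∀ c : Fin r → F.presheaf.stalk y,
          LinearIndependent X.functionField (fun i => toGen F y (c i)) →
          (∀ v', ∃ a : Fin r → X.presheaf.stalk y, toGen F y v' =
            ∑ j, algebraMap (X.presheaf.stalk y) X.functionField (a j) • toGen F y (c j)) →
          secOrd (RefHull.ddual L) v y = - Scheme.ord (ExtDet.dt B fun i => toGen F y (c i)) y := by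
  obtain ⟨ω, hω0, hωs, hA, hB⟩ := ExtDet.exists_det hL B
  have hLc := ExtDet.isCoh hL hF
  set H := RefHull.ddual L
  have hH : Coh.IsCoh H := Reflexive.isCoh_ddual hLc
  have hR : RefHull.IsReflexive H := Reflexive.isReflexive_dual (Reflexive.isCoh_dual hLc)
  let β := RefHull.stalkMapₗ (RefHull.bidualMap L) (genericPoint ↥X)
  have hb : Function.Bijective β := stalkMap_bidual_bijective_genericPoint hLc
  have hv0 : β ω ≠ 0 := fun h => hω0 (hb.1 (h.trans (map_zero _).symm))
  have hg : RefHull.GenInvertible H :=
    Tensor.genInvertible_of_basis hH (toGen_injective_of_isReflexive hH hR) hv0 fun w => by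
      obtain ⟨w', rfl⟩ := hb.2 w
      obtain ⟨a, rfl⟩ := hωs w'
      exact ⟨a, (map_smul β a _).symm⟩
  refine ⟨⟨hH, hR, hg⟩, β ω, hv0, fun y hy c hc hgen => ?_⟩
  set d := ExtDet.dt B fun i => toGen F y (c i)
  have hd : d ≠ 0 := ExtDet.dt_ne_zero B hc
  obtain ⟨ℓ, hℓ⟩ := hA y c
  have hspan : Submodule.span (X.presheaf.stalk y) {RefHull.stalkMapₗ (RefHull.bidualMap L) y ℓ} = ⊤ := by
    refine eq_top_iff.mpr fun h _ => ?_
    obtain ⟨m, rfl⟩ := stalkMap_bidual_surjective hX hLc y (dim_of_coheight hy).le h
    obtain ⟨a, ha⟩ := hB y c hgen m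
    refine Submodule.mem_span_singleton.mpr ⟨a, toGen_injective_of_isReflexive hH hR y ?_⟩
    rw [toGen_smul, toGen_stalkMap, toGen_stalkMap, hℓ, ha, mul_smul]
    exact (map_smul β _ _).symm
  rw [secOrd_eq hX hy hg hspan hv0 (φ := d⁻¹) ?_, Ord.ord_inv hd]
  rw [toGen_stalkMap, hℓ]
  exact (map_smul β _ _).symm.trans (by rw [smul_smul, inv_mul_cancel₀ hd, one_smul])

end Groth.Agent.Lib.RefHull.ExtHull
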