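import Groth.Agent.Lib.RefHull.DivRef

/-!
# The group of rank one reflexive modules
-/

universe u

noncomputable section

open CategoryTheory AlgebraicGeometry TopologicalSpace Opposite

namespace Groth.Agent.Lib.RefHull.Group

open Groth.Agent.Lib Groth.Agent.Lib.TensorMod Generic RankOne Ord Divisor DivSheaf DivRef

variable {X : Scheme.{u}}

theorem iso_of_cl_eq {F G : X.Modules} (h : PicF.cl F = PicF.cl G) : Nonempty (F ≅ G) := by
  have h' := Quot.eqvGen_exact h
  clear h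
  induction h' with
  | rel a b hab => exact hab
  | refl a => exact ⟨Iso.refl _⟩
  | symm a b _ ih => exact ih.map Iso.symm
  | trans a b c _ _ ih ih' => exact ⟨ih.some ≪≫ ih'.some⟩

theorem cl_eq_of_iso {F G : X.Modules} (h : Nonempty (F ≅ G)) : PicF.cl F = PicF.cl G := Quot.sound h

variable [IsIntegral X] [IsLocallyNoetherian X]

theorem isRef1_structure : RefHull.IsRef1 (Coh.structureModule X) := by
  haveI := (Reflexive.isCoh_structure (X := X)).1
  refine ⟨Reflexive.isCoh_structure, (Reflexive.isReflexive_iff_forall Reflexive.isCoh_structure).mpr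
    fun x => ?_, ⊤, by simp, ?_⟩
  · exact Module.equiv (R := X.presheaf.stalk x) (AssPt.Basic.unitStalkEquiv x)
  · refine Gen.isInvertible_iff.mpr fun z => ?_
    obtain ⟨i⟩ := Gen.exists_iso_of_gen (L := Coh.structureModule X) (U := ⊤) (e := Gen.one X ⊤)
      fun V h => by
        have e : Dual.rs (Coh.structureModule X) h (Gen.one X ⊤) = Gen.one X V :=
          map_one (X.presheaf.map (homOfLE h).op).hom
        rw [e]
        have e2 : (fun a : Γ(X, V) => a • Gen.one X V) =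
            fun a => (show Γ(Coh.structureModule X, V) from a) :=
          funext fun a => (Gen.smul_one_eq a).symm
        rw [e2]
        exact Function.bijective_id
    exact Gen.isInvertible_iff.mp (Invertible.isInvertible_of_iso i.symm DivSheaf.isInvertible_structure) z

variable (hX : Pi1.IsNormalScheme X)

include hX in
theorem one_section :
    ∃ s : (Coh.structureModule X).presheaf.stalk (genericPoint ↥X), s ≠ 0 ∧
      ∀ y : X, Order.coheight y = 1 → secOrd (Coh.structureModule X) s y = 0 := by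
  let η := genericPoint ↥X
  refine ⟨AssPt.Basic.unitStalkEquiv η 1, fun h => one_ne_zero
    ((AssPt.Basic.unitStalkEquiv η).injective (h.trans (map_zero _).symm)), fun y hy => ?_⟩
  have hspan : Submodule.span (X.presheaf.stalk y) {AssPt.Basic.unitStalkEquiv y 1} = ⊤ := by
    refine eq_top_iff.mpr fun v _ => Submodule.mem_span_singleton.mpr
      ⟨(AssPt.Basic.unitStalkEquiv y).symm v, ?_⟩
    rw [← map_smul, smul_eq_mul, mul_one, LinearEquiv.apply_symm_apply]
  rw [secOrd_eq hX hy isRef1_structure.2.2 hspan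
    (fun h => one_ne_zero ((AssPt.Basic.unitStalkEquiv η).injective (h.trans (map_zero _).symm)))
    (φ := 1) ?_, Ord.ord_one]
  rw [one_smul]
  change toGen _ y ((1 : X.presheaf.stalk y) • (Coh.structureModule X).presheaf.germ ⊤ y trivial (1 : Γ(X, ⊤))) =
    (1 : X.presheaf.stalk η) • (Coh.structureModule X).presheaf.germ ⊤ η trivial (1 : Γ(X, ⊤))
  rw [one_smul, one_smul]
  exact toGen_germ _ _

/-- The classes of rank one reflexive modules. -/
abbrev Cls (X : Scheme.{u}) : Type (u + 1) :=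
  {c : PicF.Cl X // ∃ F : X.Modules, PicF.cl F = c ∧ RefHull.IsRef1 F}

/-- The divisor of some rational section of a class. -/
def HasDiv (a : Cls X) (D : X → ℤ) : Prop :=
  ∃ (F : X.Modules) (_ : RefHull.IsRef1 F) (s : F.presheaf.stalk (genericPoint ↥X)),
    PicF.cl F = a.1 ∧ s ≠ 0 ∧ ∀ y : X, Order.coheight y = 1 → secOrd F s y = D y

include hX in
theorem eq_of_hasDiv {a b : Cls X} {D E : X → ℤ} (ha : HasDiv a D) (hb : HasDiv b E)
    (h : ∀ y : X, Order.coheight y = 1 → D y = E y) : a = b := by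
  obtain ⟨F, hF, s, hFa, hs, hD⟩ := ha
  obtain ⟨G, hG, t, hGb, ht, hE⟩ := hb
  obtain ⟨e, -⟩ := exists_iso hX hF hG hs ht fun y hy => by rw [hD y hy, hE y hy, h y hy]
  exact Subtype.ext (by rw [← hFa, ← hGb]; exact cl_eq_of_iso ⟨e⟩)

theorem exists_hasDiv (a : Cls X) : ∃ D, HasDiv a D := by
  obtain ⟨F, hFa, hF⟩ := a.2
  obtain ⟨s, hs, -⟩ := exists_basis_generic hF.2.2
  exact ⟨_, F, hF, s, hFa, hs, fun y _ => rfl⟩

/-- The product of two classes. -/
def mul (a b : Cls X) : Cls X :=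
  ⟨PicF.cl (RefHull.ddual (CohB1.tensorMod a.2.choose b.2.choose)), _, rfl,
    let ⟨_, ha⟩ := a.2.choose_spec
    let ⟨_, hb⟩ := b.2.choose_spec
    (refTensor_spec hX ha hb (exists_basis_generic ha.2.2).choose_spec.1
      (exists_basis_generic hb.2.2).choose_spec.1).1⟩

/-- The class of the structure sheaf. -/
def one : Cls X := ⟨PicF.cl (Coh.structureModule X), _, rfl, isRef1_structure⟩

/-- The inverse of a class. -/
def inv (a : Cls X) : Cls X :=
  ⟨PicF.cl (RefHull.dual a.2.choose), _, rfl,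
    (dual_spec hX a.2.choose_spec.2 (exists_basis_generic a.2.choose_spec.2.2.2).choose_spec.1).1⟩

theorem hasDiv_change {a : Cls X} {D : X → ℤ} (h : HasDiv a D) (hX : Pi1.IsNormalScheme X)
    {F : X.Modules} (hF : RefHull.IsRef1 F) (hFa : PicF.cl F = a.1) :
    ∃ s : F.presheaf.stalk (genericPoint ↥X), s ≠ 0 ∧
      ∀ y : X, Order.coheight y = 1 → secOrd F s y = D y := by
  obtain ⟨G, hG, t, hGa, ht, hD⟩ := h
  obtain ⟨e⟩ := iso_of_cl_eq (hGa.trans hFa.symm)
  have hb : Function.Injective (RefHull.stalkMapₗ e.hom (genericPoint ↥X)) :=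
    ((Modules.StalkModule.isIso_iff_stalkMapₗ_bijective e.hom).mp inferInstance _).1
  exact ⟨_, fun h0 => ht (hb (h0.trans (map_zero _).symm)),
    fun y hy => (secOrd_iso hX hG hF e hy ht).trans (hD y hy)⟩

theorem hasDiv_mul {a b : Cls X} {D E : X → ℤ} (ha : HasDiv a D) (hb : HasDiv b E) :
    HasDiv (mul hX a b) (fun y => D y + E y) := by
  obtain ⟨s, hs, hD⟩ := hasDiv_change ha hX a.2.choose_spec.2 a.2.choose_spec.1
  obtain ⟨t, ht, hE⟩ := hasDiv_change hb hX b.2.choose_spec.2 b.2.choose_spec.1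
  obtain ⟨h1, h2, h3⟩ := refTensor_spec hX a.2.choose_spec.2 b.2.choose_spec.2 hs ht
  exact ⟨_, h1, _, rfl, h2, fun y hy => by rw [h3 y hy, hD y hy, hE y hy]⟩

theorem hasDiv_inv {a : Cls X} {D : X → ℤ} (ha : HasDiv a D) :
    HasDiv (inv hX a) (fun y => - D y) := by
  obtain ⟨s, hs, hD⟩ := hasDiv_change ha hX a.2.choose_spec.2 a.2.choose_spec.1
  obtain ⟨h1, t, ht, h3⟩ := dual_spec hX a.2.choose_spec.2 hs
  exact ⟨_, h1, t, rfl, ht, fun y hy => by rw [h3 y hy, hD y hy]⟩

include hX in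
theorem hasDiv_one : HasDiv (one : Cls X) (fun _ => 0) := by
  obtain ⟨s, hs, h⟩ := one_section hX
  exact ⟨_, isRef1_structure, s, rfl, hs, h⟩

include hX in
theorem group_law :
    ∃ (mul : Cls X → Cls X → Cls X) (one : Cls X) (inv : Cls X → Cls X),
      (∀ a b, mul a b = mul b a) ∧ (∀ a b c, mul (mul a b) c = mul a (mul b c)) ∧ (∀ a, mul one a = a) ∧
        (∀ a, mul (inv a) a = one) ∧
        (∀ (F G : X.Modules) (hF : RefHull.IsRef1 F) (hG : RefHull.IsRef1 G),
          (mul ⟨PicF.cl F, F, rfl, hF⟩ ⟨PicF.cl G, G, rfl, hG⟩).1 = PicF.cl (RefHull.ddual (CohB1.tensorMod F G))) ∧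
        one.1 = PicF.cl (Coh.structureModule X) ∧
        (∀ (F : X.Modules) (hF : RefHull.IsRef1 F), (inv ⟨PicF.cl F, F, rfl, hF⟩).1 = PicF.cl (RefHull.dual F)) := by
  refine ⟨mul hX, one, inv hX, fun a b => ?_, fun a b c => ?_, fun a => ?_, fun a => ?_,
    fun F G hF hG => ?_, rfl, fun F hF => ?_⟩
  · obtain ⟨D, hD⟩ := exists_hasDiv a
    obtain ⟨E, hE⟩ := exists_hasDiv b
    exact eq_of_hasDiv hX (hasDiv_mul hX hD hE) (hasDiv_mul hX hE hD) fun y _ => add_comm _ _
  · obtain ⟨D, hD⟩ := exists_hasDiv a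
    obtain ⟨E, hE⟩ := exists_hasDiv b
    obtain ⟨K, hK⟩ := exists_hasDiv c
    exact eq_of_hasDiv hX (hasDiv_mul hX (hasDiv_mul hX hD hE) hK)
      (hasDiv_mul hX hD (hasDiv_mul hX hE hK)) fun y _ => add_assoc _ _ _
  · obtain ⟨D, hD⟩ := exists_hasDiv a
    exact eq_of_hasDiv hX (hasDiv_mul hX (hasDiv_one hX) hD) hD fun y _ => zero_add _
  · obtain ⟨D, hD⟩ := exists_hasDiv a
    exact eq_of_hasDiv hX (hasDiv_mul hX (hasDiv_inv hX hD) hD) (hasDiv_one hX) fun y _ => neg_add_cancel _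
  · obtain ⟨s, hs, -⟩ := exists_basis_generic hF.2.2
    obtain ⟨t, ht, -⟩ := exists_basis_generic hG.2.2
    obtain ⟨h1, h2, h3⟩ := refTensor_spec hX hF hG hs ht
    exact congrArg Subtype.val (eq_of_hasDiv hX
      (hasDiv_mul hX (a := ⟨PicF.cl F, F, rfl, hF⟩) (b := ⟨PicF.cl G, G, rfl, hG⟩)
        ⟨F, hF, s, rfl, hs, fun y _ => rfl⟩ ⟨G, hG, t, rfl, ht, fun y _ => rfl⟩)
      (b := ⟨PicF.cl _, _, rfl, h1⟩) ⟨_, h1, _, rfl, h2, h3⟩ fun y _ => rfl)
  · obtain ⟨s, hs, -⟩ := exists_basis_generic hF.2.2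
    obtain ⟨h1, t, ht, h3⟩ := dual_spec hX hF hs
    exact congrArg Subtype.val (eq_of_hasDiv hX
      (hasDiv_inv hX (a := ⟨PicF.cl F, F, rfl, hF⟩) ⟨F, hF, s, rfl, hs, fun y _ => rfl⟩)
      (b := ⟨PicF.cl _, _, rfl, h1⟩) ⟨_, h1, t, rfl, ht, h3⟩ fun y _ => rfl)

end Groth.Agent.Lib.RefHull.Group
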