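import Groth.Agent.Lib.Ideal.EffCartier
import Mathlib.AlgebraicGeometry.Morphisms.ClosedImmersion
import Mathlib.RingTheory.Localization.AtPrime.Basic

/-!
# Stalks of closed subschemes cut out by one function
-/

universe u

open CategoryTheory AlgebraicGeometry TopologicalSpace Opposite

namespace Groth.Agent.Lib.RefHull.SubStalk

variable {X : Scheme.{u}} (I : X.IdealSheafData)

/-- The kernel on stalks of the inclusion of a closed subscheme is generated by the local generators. -/
theorem ker_stalkMap {U : X.affineOpens} {S : Set Γ(X, U.1)} (hI : I.ideal U = Ideal.span S)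
    (d : I.subscheme) (hd : I.subschemeι d ∈ U.1) :
    RingHom.ker (I.subschemeι.stalkMap d).hom =
      Ideal.span ((X.presheaf.germ U.1 (I.subschemeι d) hd).hom '' S) := by
  set x := I.subschemeι d
  have hker := I.ker_subschemeι_app U
  apply le_antisymm
  · intro a ha
    letI := TopCat.Presheaf.algebra_section_stalk X.presheaf (⟨x, hd⟩ : U.1)
    haveI := U.2.isLocalization_stalk ⟨x, hd⟩
    obtain ⟨⟨r, g⟩, hrg⟩ := IsLocalization.surj (U.2.primeIdealOf ⟨x, hd⟩).asIdeal.primeCompl a
    have hgu := IsLocalization.map_units (X.presheaf.stalk x) g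
    have hr : X.presheaf.germ U.1 x hd r = a * X.presheaf.germ U.1 x hd g.1 := hrg.symm
    have h0 : I.subscheme.presheaf.germ (I.subschemeι ⁻¹ᵁ U.1) d hd (I.subschemeι.app U.1 r) = 0 := by
      rw [← Scheme.Hom.germ_stalkMap_apply, hr, map_mul, RingHom.mem_ker.mp ha, zero_mul]
    have hV : IsAffineOpen (I.subschemeι ⁻¹ᵁ U.1) := U.2.preimage I.subschemeι
    letI := TopCat.Presheaf.algebra_section_stalk I.subscheme.presheaf (⟨d, hd⟩ : I.subschemeι ⁻¹ᵁ U.1)
    haveI := hV.isLocalization_stalk ⟨d, hd⟩
    obtain ⟨c, hc⟩ := (IsLocalization.map_eq_zero_iff (hV.primeIdealOf ⟨d, hd⟩).asIdeal.primeCompl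
      (I.subscheme.presheaf.stalk d) _).mp h0
    obtain ⟨c', hc'⟩ := I.subschemeι_app_surjective U c.1
    have hcu : IsUnit (X.presheaf.germ U.1 x hd c') := by
      have h1 : IsUnit ((I.subschemeι.stalkMap d).hom (X.presheaf.germ U.1 x hd c')) := by
        rw [Scheme.Hom.germ_stalkMap_apply, hc']
        exact IsLocalization.map_units (I.subscheme.presheaf.stalk d) c
      exact (isUnit_map_iff (I.subschemeι.stalkMap d).hom _).mp h1
    have hmem : c' * r ∈ I.ideal U := by
      rw [← hker, RingHom.mem_ker, map_mul, hc']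
      exact hc
    have h2 : X.presheaf.germ U.1 x hd (c' * r) ∈ Ideal.span ((X.presheaf.germ U.1 x hd).hom '' S) := by
      rw [← Ideal.map_span]
      exact Ideal.mem_map_of_mem _ (hI ▸ hmem)
    rw [map_mul, hr, ← mul_assoc] at h2
    have h3 : IsUnit (X.presheaf.germ U.1 x hd g.1) := hgu
    rw [Ideal.mul_unit_mem_iff_mem _ h3, Ideal.unit_mul_mem_iff_mem _ hcu] at h2
    exact h2
  · rw [Ideal.span_le]
    rintro _ ⟨f, hf, rfl⟩
    have h : I.subschemeι.app U.1 f = 0 := by
      rw [← RingHom.mem_ker, hker, hI]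
      exact Ideal.subset_span hf
    show (I.subschemeι.stalkMap d).hom _ = 0
    erw [Scheme.Hom.germ_stalkMap_apply, h, map_zero]

theorem stalkMap_surjective (d : I.subscheme) :
    Function.Surjective (I.subschemeι.stalkMap d).hom :=
  SurjectiveOnStalks.stalkMap_surjective I.subschemeι d

end Groth.Agent.Lib.RefHull.SubStalk
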