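import Groth.Agent.Lib.RefHull.DivRef
import Groth.Agent.Lib.RefHull.SubStalk
import Groth.Agent.Lib.RefHull.Group
import Groth.Agent.Lib.ClSub.Cartier
import Groth.Agent.Lib.CurveBundle.Coherent
import Groth.Agent.Lib.TensorMod.LocFree

/-!
# The divisor of an integral effective Cartier divisor and of twists
-/

universe u

noncomputable section

open CategoryTheory AlgebraicGeometry TopologicalSpace Opposite

namespace Groth.Agent.Lib.RefHull.DivTwist

open Groth.Agent.Lib Generic Ord RankOne

variable {X : Scheme.{u}} [IsIntegral X] [IsLocallyNoetherian X]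

/-- Invertible modules are reflexive of rank one. -/
theorem isRef1_of_isInvertible {P : X.Modules} (hP : PicF.IsInvertible P) : RefHull.IsRef1 P := by
  have h1 := TensorMod.LocFree.of_isInvertible hP
  have hc := CurveBundle.Coherent.isCoh (TensorMod.LocFree.of_rank h1)
  refine ⟨hc, (Reflexive.isReflexive_iff_forall hc).mpr fun x => ?_, ⊤, by simp, ?_⟩
  · obtain ⟨b⟩ := CurveBundle.Coherent.exists_basis_stalk h1 x
    haveI := Module.Free.of_basis b
    haveI := Module.Finite.of_basis b
    exact (inferInstance : Module.IsReflexive (X.presheaf.stalk x) (P.presheaf.stalk x))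
  · exact TensorMod.LocFree.isInvertible_of_rank_one (TensorMod.LocFree.rank_of_iso
      ((Scheme.Modules.restrictFunctorIsoPullback _).app P).symm (TensorMod.LocFree.rank_pullback _ h1))

variable {I : X.IdealSheafData}

omit [IsIntegral X] [IsLocallyNoetherian X] in
theorem isUnit_germ {U : X.affineOpens} {f : Γ(X, U.1)} (hI : I.ideal U = Ideal.span {f}) {y : X}
    (hy : y ∈ U.1) (hn : y ∉ Set.range I.subschemeι) : IsUnit (X.presheaf.germ U.1 y hy f) := by
  rw [Scheme.IdealSheafData.range_subschemeι, SetLike.mem_coe,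
    Scheme.IdealSheafData.mem_support_iff_of_mem hy, hI, Scheme.zeroLocus_span] at hn
  simp only [Scheme.mem_zeroLocus_iff, Set.mem_singleton_iff, forall_eq, not_not] at hn
  exact (X.mem_basicOpen f y hy).mp hn

/-- The codimension one point of an integral effective Cartier divisor. -/
theorem exists_point (hX : Pi1.IsNormalScheme X) (hI : BlowUp.IsEffCartierIdeal I)
    (hi : IsIntegral I.subscheme) :
    ∃ d : I.subscheme, Order.coheight (I.subschemeι d) = 1 ∧
      (∀ y : X, Order.coheight y = 1 → y ∈ Set.range I.subschemeι → y = I.subschemeι d) ∧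
      ∀ (U : X.affineOpens) (f : Γ(X, U.1)) (hd : I.subschemeι d ∈ U.1),
        I.ideal U = Ideal.span {f} → Irreducible (X.presheaf.germ U.1 (I.subschemeι d) hd f) := by
  haveI := hi
  let d := genericPoint ↥I.subscheme
  set z := I.subschemeι d with hz
  haveI := (hX z).1
  have hmax : ∀ (U : X.affineOpens) (f : Γ(X, U.1)) (hd : z ∈ U.1), I.ideal U = Ideal.span {f} →
      IsLocalRing.maximalIdeal (X.presheaf.stalk z) = Ideal.span {X.presheaf.germ U.1 z hd f} := by
    intro U f hd hU
    have h := SubStalk.ker_stalkMap I hU d hd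
    rw [Set.image_singleton] at h
    refine h.symm ▸ ?_
    haveI := RingHom.ker_isMaximal_of_surjective (I.subschemeι.stalkMap d).hom
      (SubStalk.stalkMap_surjective I d) (K := I.subscheme.functionField)
    exact (IsLocalRing.eq_maximalIdeal inferInstance).symm
  obtain ⟨U, hzU, f, hf, hU⟩ := hI z
  have hη := (spec z).mem_open U.1.isOpen hzU
  have hf0 : X.presheaf.germ U.1 z hzU f ≠ 0 := fun h => by
    haveI : Nonempty (U.1 : Scheme.{u}) := ⟨⟨z, hzU⟩⟩
    have h' : X.presheaf.germ U.1 z hzU f = X.presheaf.germ U.1 z hzU 0 := h.trans (map_zero _).symm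
    exact nonZeroDivisors.ne_zero hf (germ_injective_of_isIntegral X z hzU h')
  have hne : IsLocalRing.maximalIdeal (X.presheaf.stalk z) ≠ ⊥ := by
    rw [hmax U f hzU hU, Ne, Ideal.span_singleton_eq_bot]
    exact hf0
  haveI : IsDiscreteValuationRing (X.presheaf.stalk z) := by
    haveI : ¬ IsField (X.presheaf.stalk z) := fun h =>
      hne (IsLocalRing.isField_iff_maximalIdeal_eq.mp h)
    exact ((IsDiscreteValuationRing.TFAE (X.presheaf.stalk z) this).out 4 0 rfl rfl).mp
      ⟨_, hmax U f hzU hU⟩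
  have hz1 : Order.coheight z = 1 :=
    dim_eq_one_iff.mp (IsPrincipalIdealRing.ringKrullDim_eq_one _
      (IsDiscreteValuationRing.not_isField _))
  refine ⟨d, hz1, fun y hy hyI => ?_, fun U f hd hU => ?_⟩
  · obtain ⟨e, rfl⟩ := hyI
    exact (DivRef.eq_of_specializes_codim_one hy hz1
      (((genericPoint_spec ↥I.subscheme).specializes (Set.mem_univ e)).map
        I.subschemeι.base.hom.2)).symm
  · exact (IsDiscreteValuationRing.irreducible_iff_uniformizer _).mpr (hmax U f hd hU)

/-- The inclusion of the ideal on stalks, as a map into the local ring. -/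
def ιs (I : X.IdealSheafData) (y : X) :
    (_root_.ClSub.idealMod I).presheaf.stalk y →ₗ[X.presheaf.stalk y] X.presheaf.stalk y :=
  (Reflexive.oEquiv y).toLinearMap.comp (RefHull.stalkMapₗ (_root_.ClSub.idealModι I) y)

omit [IsIntegral X] [IsLocallyNoetherian X] in
theorem ιs_germ {U : X.Opens} {y : X} (hy : y ∈ U) (m : Γ(_root_.ClSub.idealMod I, U)) :
    ιs I y ((_root_.ClSub.idealMod I).presheaf.germ U y hy m) =
      X.presheaf.germ U y hy ((_root_.ClSub.idealModι I).app U m) := by
  show Reflexive.oEquiv y (RefHull.stalkMapₗ _ y _) = _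
  rw [RefHull.stalkMapₗ_germ, DivRef.oEquiv_germ]

omit [IsIntegral X] [IsLocallyNoetherian X] in
/-- The local equation generates the stalk. -/
theorem span_germ {U : X.affineOpens} {f : Γ(X, U.1)} (hU : I.ideal U = Ideal.span {f})
    {m : Γ(_root_.ClSub.idealMod I, U.1)} (hm : (_root_.ClSub.idealModι I).app U.1 m = f) {y : X}
    (hy : y ∈ U.1) :
    Submodule.span (X.presheaf.stalk y) {(_root_.ClSub.idealMod I).presheaf.germ U.1 y hy m} = ⊤ := by
  refine eq_top_iff.mpr fun v _ => ?_
  obtain ⟨W₀, hW₀, n₀, rfl⟩ := TopCat.Presheaf.exists_germ_eq (_root_.ClSub.idealMod I).presheaf v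
  obtain ⟨W, hW, hyW, hle⟩ := exists_isAffineOpen_mem_and_subset (X := X) (x := y) (U := W₀ ⊓ U.1)
    (Opens.mem_inf.mpr ⟨hW₀, hy⟩)
  have h0 : W ≤ W₀ := fun p hp => (Opens.mem_inf.mp (hle hp)).1
  have h1 : W ≤ U.1 := fun p hp => (Opens.mem_inf.mp (hle hp)).2
  set n := (_root_.ClSub.idealMod I).presheaf.map (homOfLE h0).op n₀
  have hmem : (_root_.ClSub.idealModι I).app W n ∈ I.ideal ⟨W, hW⟩ :=
    (ClSub.Sections.mem_range_idealModι_app_affine_iff I ⟨W, hW⟩ _).mp ⟨n, rfl⟩
  rw [← I.map_ideal (U := ⟨W, hW⟩) (V := U) h1, hU, Ideal.map_span, Set.image_singleton] at hmem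
  obtain ⟨r, hr⟩ := (Ideal.mem_span_singleton' (α := Γ(X, W))).mp hmem
  have hn : r • (_root_.ClSub.idealMod I).presheaf.map (homOfLE h1).op m = n := by
    apply ClSub.Sections.idealModι_app_injective I W
    rw [Scheme.Modules.Hom.app_smul]
    refine Eq.trans ?_ hr
    show r * _ = r * _
    congr 1
    exact (ConcreteCategory.congr_hom ((_root_.ClSub.idealModι I).mapPresheaf.naturality
      (homOfLE h1).op) m).trans (congrArg (X.presheaf.map (homOfLE h1).op) hm)
  refine Submodule.mem_span_singleton.mpr ⟨X.presheaf.germ W y hyW r, ?_⟩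
  have h2 := congrArg ((_root_.ClSub.idealMod I).presheaf.germ W y hyW) hn
  rw [Mero.germ_smul, TopCat.Presheaf.germ_res_apply, TopCat.Presheaf.germ_res_apply] at h2
  exact h2

/-- The order of the section `1` of the ideal of a divisor: minus the divisor. -/
theorem exists_idealSec (hX : Pi1.IsNormalScheme X) (hI : BlowUp.IsEffCartierIdeal I) (z : I.subscheme)
    (hz : ∀ (U : X.affineOpens) (f : Γ(X, U.1)) (hd : I.subschemeι z ∈ U.1),
        I.ideal U = Ideal.span {f} → Irreducible (X.presheaf.germ U.1 (I.subschemeι z) hd f)) :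
    RefHull.IsRef1 (_root_.ClSub.idealMod I) ∧
      ∃ t : (_root_.ClSub.idealMod I).presheaf.stalk (genericPoint ↥X), t ≠ 0 ∧
      ∀ y : X, Order.coheight y = 1 →
        (y ∉ Set.range I.subschemeι → secOrd (_root_.ClSub.idealMod I) t y = 0) ∧
        (y = I.subschemeι z → secOrd (_root_.ClSub.idealMod I) t y = -1) := by
  have hR := isRef1_of_isInvertible (ClSub.Cartier.isInvertible_idealMod hI)
  refine ⟨hR, ?_⟩
  let η := genericPoint ↥X
  have hloc : ∀ y : X, ∃ (U : X.affineOpens) (f : Γ(X, U.1)) (m : Γ(_root_.ClSub.idealMod I, U.1)),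
      y ∈ U.1 ∧ f ∈ nonZeroDivisors Γ(X, U.1) ∧ I.ideal U = Ideal.span {f} ∧
        (_root_.ClSub.idealModι I).app U.1 m = f := fun y => by
    obtain ⟨U, hy, f, hf, hU⟩ := hI y
    obtain ⟨m, hm⟩ := (ClSub.Sections.mem_range_idealModι_app_affine_iff I U f).mpr
      (hU ▸ Ideal.mem_span_singleton_self f)
    exact ⟨U, f, m, hy, hf, hU, hm⟩
  have hgne : ∀ (U : X.affineOpens) (hη : η ∈ U.1) (f : Γ(X, U.1)), f ∈ nonZeroDivisors Γ(X, U.1) →
      X.presheaf.germ U.1 η hη f ≠ 0 := fun U hη f hf h => by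
    haveI : Nonempty (U.1 : Scheme.{u}) := ⟨⟨η, hη⟩⟩
    have h' : X.presheaf.germ U.1 η hη f = X.presheaf.germ U.1 η hη 0 := h.trans (map_zero _).symm
    exact nonZeroDivisors.ne_zero hf (germ_injective_of_isIntegral X η hη h')
  obtain ⟨U₀, f₀, m₀, hη₀, hf₀, hU₀, hm₀⟩ := hloc η
  have hinj : Function.Injective (ιs I η) := by
    rw [injective_iff_map_eq_zero]
    intro v hv
    obtain ⟨a, rfl⟩ := Submodule.mem_span_singleton.mp
      (show v ∈ _ from (span_germ hU₀ hm₀ hη₀).ge (Submodule.mem_top (x := v)))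
    rw [map_smul, ιs_germ, hm₀, smul_eq_mul] at hv
    rcases mul_eq_zero.mp (show (a : X.functionField) * _ = 0 from hv) with h | h
    · rw [h, zero_smul]
    · exact absurd h (hgne U₀ hη₀ f₀ hf₀)
  let a₀ : X.functionField := X.presheaf.germ U₀.1 η hη₀ f₀
  let t : (_root_.ClSub.idealMod I).presheaf.stalk η :=
    a₀⁻¹ • (_root_.ClSub.idealMod I).presheaf.germ U₀.1 η hη₀ m₀
  have ht1 : ιs I η t = (1 : X.functionField) := by
    refine (map_smul (ιs I η) _ _).trans ?_
    rw [ιs_germ, hm₀]
    exact inv_mul_cancel₀ (hgne U₀ hη₀ f₀ hf₀)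
  have ht0 : t ≠ 0 := fun h => one_ne_zero (α := X.functionField) (ht1.symm.trans (by rw [h, map_zero]))
  refine ⟨t, ht0, fun y hy => ?_⟩
  obtain ⟨U, f, m, hyU, hf, hU, hm⟩ := hloc y
  have hη := (spec y).mem_open U.1.isOpen hyU
  have hord : secOrd (_root_.ClSub.idealMod I) t y =
      - Scheme.ord (algebraMap (X.presheaf.stalk y) X.functionField (X.presheaf.germ U.1 y hyU f)) y := by
    rw [algebraMap_germ, ← Ord.ord_inv (hgne U hη f hf)]
    refine secOrd_eq hX hy hR.2.2 (span_germ hU hm hyU) ht0 (hinj ?_)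
    rw [ht1, toGen_germ]
    refine (map_smul (ιs I η) _ _).trans ?_
    rw [ιs_germ, hm]
    exact inv_mul_cancel₀ (hgne U hη f hf)
  refine ⟨fun hn => ?_, fun he => ?_⟩
  · rw [hord, ord_of_isUnit hX hy (isUnit_germ hU hyU hn), neg_zero]
  · subst he
    have h := ord_unit_mul_pow hX hy (hz U f hyU hU) 1 1
    rw [Units.val_one, one_mul, pow_one] at h
    rw [hord, h]
    rfl

/-- Tensor products of invertible modules: the divisors add. -/
theorem tensor_spec (hX : Pi1.IsNormalScheme X) {P Q : X.Modules} (hP : PicF.IsInvertible P)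
    (hQ : PicF.IsInvertible Q) {s : P.presheaf.stalk (genericPoint ↥X)} (hs : s ≠ 0)
    {t : Q.presheaf.stalk (genericPoint ↥X)} (ht : t ≠ 0) :
    PicF.IsInvertible (CohB1.tensorMod P Q) ∧
      ∃ w : (CohB1.tensorMod P Q).presheaf.stalk (genericPoint ↥X), w ≠ 0 ∧
        ∀ y : X, Order.coheight y = 1 →
          secOrd (CohB1.tensorMod P Q) w y = secOrd P s y + secOrd Q t y := by
  have hT : PicF.IsInvertible (CohB1.tensorMod P Q) :=
    TensorMod.LocFree.isInvertible_of_rank_one (by
      simpa using TensorMod.LocFree.rank_tensorMod (TensorMod.LocFree.of_isInvertible hP)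
        (TensorMod.LocFree.of_isInvertible hQ))
  refine ⟨hT, ?_⟩
  have hR := isRef1_of_isInvertible hT
  obtain ⟨hH, hw, hord⟩ :=
    DivRef.refTensor_spec hX (isRef1_of_isInvertible hP) (isRef1_of_isInvertible hQ) hs ht
  haveI : IsIso (RefHull.bidualMap (CohB1.tensorMod P Q)) := hR.2.1
  let e : RefHull.ddual (CohB1.tensorMod P Q) ≅ CohB1.tensorMod P Q :=
    (asIso (RefHull.bidualMap (CohB1.tensorMod P Q))).symm
  have hb : Function.Injective (RefHull.stalkMapₗ e.hom (genericPoint ↥X)) :=
    ((Modules.StalkModule.isIso_iff_stalkMapₗ_bijective e.hom).mp inferInstance _).1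
  exact ⟨_, fun h => hw (hb (h.trans (map_zero _).symm)),
    fun y hy => (Divisor.secOrd_iso hX hH hR e hy hw).trans (hord y hy)⟩

/-- Tensor powers of an invertible module: the divisor is multiplied. -/
theorem tensorPow_spec (hX : Pi1.IsNormalScheme X) {P : X.Modules} (hP : PicF.IsInvertible P)
    {s : P.presheaf.stalk (genericPoint ↥X)} (hs : s ≠ 0) : ∀ k : ℕ,
    PicF.IsInvertible (CohB1.tensorPow P k) ∧
      ∃ w : (CohB1.tensorPow P k).presheaf.stalk (genericPoint ↥X), w ≠ 0 ∧
        ∀ y : X, Order.coheight y = 1 → secOrd (CohB1.tensorPow P k) w y = k * secOrd P s y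
  | 0 => by
      obtain ⟨w, hw, h⟩ := Group.one_section hX
      exact ⟨DivSheaf.isInvertible_structure, w, hw, fun y hy => by rw [Nat.cast_zero, zero_mul]; exact h y hy⟩
  | k + 1 => by
      obtain ⟨hk, w, hw, h⟩ := tensorPow_spec hX hP hs k
      obtain ⟨hT, w', hw', h'⟩ := tensor_spec hX hk hP hw hs
      exact ⟨hT, w', hw', fun y hy => by
        refine (h' y hy).trans ?_
        rw [h y hy]; push_cast; ring⟩

end Groth.Agent.Lib.RefHull.DivTwist
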