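import Mathlib.LinearAlgebra.Matrix.ToLinearEquiv
import Mathlib.LinearAlgebra.Matrix.NonsingularInverse
import Mathlib.RingTheory.DiscreteValuationRing.Basic
import Mathlib.RingTheory.LocalRing.ResidueField.Basic
import Mathlib.LinearAlgebra.Basis.VectorSpace
import Mathlib.LinearAlgebra.Dimension.RankNullity
import Mathlib.LinearAlgebra.FiniteDimensional.Lemmas

/-!
# Determinants of matrices with cokernel killed by a uniformizer
-/

universe u

namespace Groth.Agent.Lib.RefHull.DetOrd

open Matrix

variable {R : Type u} [CommRing R] [IsDomain R] [IsDiscreteValuationRing R]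

/-- If `ϖ` kills the cokernel of `M`, which is generated by `s` elements, then `det M` has order at most
`min s r`. -/
theorem exists_det_eq {r s : ℕ} {ϖ : R} (hϖ : Irreducible ϖ) (M N : Matrix (Fin r) (Fin r) R)
    (hN : N * M = ϖ • 1) (g : Fin s → Fin r → R)
    (hg : ∀ v : Fin r → R, ∃ (w : Fin r → R) (b : Fin s → R), v = w ᵥ* M + ∑ l, b l • g l) :
    ∃ (k : ℕ) (u : Rˣ), k ≤ min s r ∧ M.det = u * ϖ ^ k := by
  have hdd : N.det * M.det = ϖ ^ r := by
    rw [← det_mul, hN, det_smul, det_one, mul_one, Fintype.card_fin]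
  have hM0 : M.det ≠ 0 := fun h => pow_ne_zero r hϖ.ne_zero (by rw [← hdd, h, mul_zero])
  have hN0 : N.det ≠ 0 := fun h => pow_ne_zero r hϖ.ne_zero (by rw [← hdd, h, zero_mul])
  obtain ⟨k, u, hk⟩ := IsDiscreteValuationRing.eq_unit_mul_pow_irreducible hM0 hϖ
  obtain ⟨j, v, hj⟩ := IsDiscreteValuationRing.eq_unit_mul_pow_irreducible hN0 hϖ
  have hkj : j + k = r := by
    have h : ((v * u : Rˣ) : R) * ϖ ^ (j + k) = ((1 : Rˣ) : R) * ϖ ^ r := by
      rw [Units.val_one, one_mul, ← hdd, hk, hj, Units.val_mul, pow_add]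
      ring
    exact IsDiscreteValuationRing.unit_mul_pow_congr_pow hϖ hϖ _ _ _ _ h
  refine ⟨k, u, le_min ?_ (by omega), hk⟩
  -- reduction to the residue field
  classical
  let κ := IsLocalRing.ResidueField R
  let π : R →+* κ := IsLocalRing.residue R
  have hπϖ : π ϖ = 0 := (IsLocalRing.residue_eq_zero_iff ϖ).mpr hϖ.not_isUnit
  have hπ : Function.Surjective π := Ideal.Quotient.mk_surjective
  let A : (Fin r → κ) →ₗ[κ] (Fin r → κ) := (M.map π).vecMulLinear
  let C : (Fin r → κ) →ₗ[κ] (Fin r → κ) := (N.map π).vecMulLinear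
  have hCA : A.comp C = 0 := by
    refine LinearMap.ext fun x => ?_
    show (x ᵥ* N.map π) ᵥ* M.map π = 0
    rw [vecMul_vecMul, ← Matrix.map_mul, hN]
    have : (ϖ • (1 : Matrix (Fin r) (Fin r) R)).map π = 0 := by
      ext a b
      simp [hπϖ]
    rw [this, vecMul_zero]
  have hCle : LinearMap.range C ≤ LinearMap.ker A := LinearMap.range_le_ker_iff.mpr hCA
  let G : (Fin s → κ) →ₗ[κ] (Fin r → κ) := Fintype.linearCombination κ (fun l j => π (g l j))
  have htop : LinearMap.range A ⊔ LinearMap.range G = ⊤ := by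
    refine eq_top_iff.mpr fun x _ => ?_
    choose y hy using fun i => hπ (x i)
    obtain ⟨w, b, hb⟩ := hg y
    refine Submodule.mem_sup.mpr ⟨A (π ∘ w), ⟨_, rfl⟩, G (π ∘ b), ⟨_, rfl⟩, ?_⟩
    funext i
    rw [← hy i, hb]
    simp [A, G, Fintype.linearCombination_apply, Matrix.vecMul, dotProduct, map_sum, Finset.sum_apply]
  have h1 : Module.finrank κ (LinearMap.range A ⊔ LinearMap.range G : Submodule κ (Fin r → κ)) = r := by
    rw [htop, finrank_top, Module.finrank_fin_fun]
  have h2 := Submodule.finrank_add_le_finrank_add_finrank (LinearMap.range A) (LinearMap.range G)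
  have h3 : Module.finrank κ (LinearMap.range G) ≤ s :=
    (LinearMap.finrank_range_le G).trans (by rw [Module.finrank_fin_fun])
  have h4 := LinearMap.finrank_range_add_finrank_ker A
  have h5 := LinearMap.finrank_range_add_finrank_ker C
  have h6 := Submodule.finrank_mono hCle
  rw [Module.finrank_fin_fun] at h4 h5
  rw [h1] at h2
  -- a basis extending the kernel of the reduction of N
  obtain ⟨K', hK'⟩ := Submodule.exists_isCompl (LinearMap.ker C)
  let e : Module.Basis (Fin (Module.finrank κ (LinearMap.ker C)) ⊕ Fin (Module.finrank κ K')) κ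
      (Fin r → κ) :=
    ((Module.finBasis κ (LinearMap.ker C)).prod (Module.finBasis κ K')).map
      (Submodule.prodEquivOfIsCompl _ _ hK')
  have he : ∀ a, e (Sum.inl a) = ((Module.finBasis κ (LinearMap.ker C) a : LinearMap.ker C) : Fin r → κ) :=
    fun a => by simp [e]
  have hpq : (Module.finrank κ (LinearMap.ker C)) + (Module.finrank κ K') = r := by
    rw [Submodule.finrank_add_eq_of_isCompl hK', Module.finrank_fin_fun]
  let ι : Fin r ≃ Fin (Module.finrank κ (LinearMap.ker C)) ⊕ Fin (Module.finrank κ K') := ((finCongr hpq).symm.trans finSumFinEquiv.symm)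
  choose P hP using fun (i : Fin r) (j : Fin r) => hπ (e (ι i) j)
  let P' : Matrix (Fin r) (Fin r) R := Matrix.of P
  have hPu : IsUnit P'.det := by
    have hrows : LinearIndependent κ (P'.map π).row := by
      have : (P'.map π).row = fun i => e (ι i) := funext fun i => funext fun j => hP i j
      rw [this]
      exact e.linearIndependent.comp ι ι.injective
    have h := (Matrix.isUnit_iff_isUnit_det _).mp (Matrix.linearIndependent_rows_iff_isUnit.mp hrows)
    rw [show P'.map π = π.mapMatrix P' from rfl, ← RingHom.map_det] at h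
    exact (isUnit_map_iff π _).mp h
  have hdiv : ∀ (a : Fin (Module.finrank κ (LinearMap.ker C))) (j : Fin r), ϖ ∣ (P' * N) (ι.symm (Sum.inl a)) j := by
    intro a j
    have h0 : C (e (Sum.inl a)) = 0 := by
      rw [he a]
      exact (Module.finBasis κ (LinearMap.ker C) a).2
    have h0' : π ((P' * N) (ι.symm (Sum.inl a)) j) = 0 := by
      rw [Matrix.mul_apply, map_sum]
      refine Eq.trans (Finset.sum_congr rfl fun x _ => ?_) (congrFun h0 j)
      rw [map_mul, show π (P' (ι.symm (Sum.inl a)) x) = e (ι (ι.symm (Sum.inl a))) x from hP _ _,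
        Equiv.apply_symm_apply]
      rfl
    rw [IsLocalRing.residue_eq_zero_iff, (IsDiscreteValuationRing.irreducible_iff_uniformizer ϖ).mp hϖ] at h0'
    exact Ideal.mem_span_singleton.mp h0'
  choose Q hQ using hdiv
  let d : Fin r → R := fun i => Sum.elim (fun _ => ϖ) (fun _ => 1) (ι i)
  let Q' : Matrix (Fin r) (Fin r) R := Matrix.of fun i j =>
    Sum.elim (fun a => Q a j) (fun _ => (P' * N) i j) (ι i)
  have hfac : P' * N = Matrix.diagonal d * Q' := by
    ext i j
    rw [Matrix.diagonal_mul]
    rcases h : ι i with a | b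
    · simp only [d, Q', Matrix.of_apply, h, Sum.elim_inl]
      rw [← hQ a j, ← h, Equiv.symm_apply_apply]
    · simp only [d, Q', Matrix.of_apply, h, Sum.elim_inr, one_mul]
  have hdet : ϖ ^ (Module.finrank κ (LinearMap.ker C)) ∣ N.det := by
    have h := congrArg Matrix.det hfac
    rw [det_mul, det_mul, det_diagonal, ← ι.symm.prod_comp, Fintype.prod_sum_type] at h
    simp only [d, Equiv.apply_symm_apply, Sum.elim_inl, Sum.elim_inr, Finset.prod_const,
      Finset.card_univ, Fintype.card_fin, one_pow, mul_one] at h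
    exact (IsUnit.dvd_mul_left hPu).mp ⟨Q'.det, h⟩
  have hqj : (Module.finrank κ (LinearMap.ker C)) ≤ j := by
    rw [hj, mul_comm] at hdet
    exact (pow_dvd_pow_iff hϖ.ne_zero hϖ.not_isUnit).mp ((Units.isUnit v).dvd_mul_right.mp hdet)
  omega

end Groth.Agent.Lib.RefHull.DetOrd
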