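import Groth.Agent.Lib.CurveBundle.Coherent
import Groth.Agent.Lib.TensorMod.LocFree
import Groth.Agent.Lib.CohBasics.Affine
import Mathlib.AlgebraicGeometry.Morphisms.ClosedImmersion
import Mathlib.AlgebraicGeometry.IdealSheaf.Subscheme
import Groth.Prelude.Def_MeroDiv

/-!
# Stalks of direct images from closed subschemes
-/

universe u

open CategoryTheory AlgebraicGeometry TopologicalSpace Opposite

namespace Groth.Agent.Lib.RefHull.PushStalk

open Groth.Agent.Lib

variable {X : Scheme.{u}} {I : X.IdealSheafData} {G : (I.subscheme).Modules}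

/-- The stalk of the direct image vanishes off the subscheme. -/
theorem eq_zero {y : X} (hy : y ∉ Set.range I.subschemeι)
    (v : ((Scheme.Modules.pushforward I.subschemeι).obj G).presheaf.stalk y) : v = 0 := by
  obtain ⟨U, hU, m, rfl⟩ := TopCat.Presheaf.exists_germ_eq _ v
  let W : X.Opens := U ⊓ ⟨(Set.range I.subschemeι)ᶜ, I.subschemeι.isClosedEmbedding.isClosed_range.isOpen_compl⟩
  have hyW : y ∈ W := Opens.mem_inf.mpr ⟨hU, hy⟩
  have hempty : I.subschemeι ⁻¹ᵁ W = ⊥ := by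
    refine eq_bot_iff.mpr fun d hd => absurd ⟨d, rfl⟩ (Opens.mem_inf.mp hd).2
  have h0 : ((Scheme.Modules.pushforward I.subschemeι).obj G).presheaf.map
      (homOfLE (inf_le_left : W ≤ U)).op m = 0 := by
    refine TopCat.Sheaf.eq_of_locally_eq' ⟨G.presheaf, G.isSheaf⟩ (fun i : PEmpty.{u + 1} => i.elim)
      (I.subschemeι ⁻¹ᵁ W) (fun i => i.elim) (by rw [hempty]; exact bot_le) _ _ fun i => i.elim
  rw [← TopCat.Presheaf.germ_res_apply _ (homOfLE (inf_le_left : W ≤ U)) y hyW m]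
  exact (congrArg _ h0).trans (map_zero _)

/-- The equation of the subscheme kills the stalk of the direct image. -/
theorem smul_eq_zero {U : X.affineOpens} {f : Γ(X, U.1)} (hf : f ∈ I.ideal U) {y : X} (hy : y ∈ U.1)
    (v : ((Scheme.Modules.pushforward I.subschemeι).obj G).presheaf.stalk y) :
    X.presheaf.germ U.1 y hy f • v = 0 := by
  obtain ⟨V, hV, m, rfl⟩ := TopCat.Presheaf.exists_germ_eq _ v
  have hyW : y ∈ U.1 ⊓ V := Opens.mem_inf.mpr ⟨hy, hV⟩
  rw [← TopCat.Presheaf.germ_res_apply _ (homOfLE (inf_le_right : U.1 ⊓ V ≤ V)) y hyW m,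
    ← TopCat.Presheaf.germ_res_apply X.presheaf (homOfLE (inf_le_left : U.1 ⊓ V ≤ U.1)) y hyW f]
  refine (Mero.germ_smul _ _ y hyW _ _).symm.trans ((congrArg _ ?_).trans (map_zero _))
  set f' := X.presheaf.map (homOfLE (inf_le_left : U.1 ⊓ V ≤ U.1)).op f
  have h0 : I.subschemeι.app (U.1 ⊓ V) f' = 0 := by
    have h1 : I.subschemeι.app U.1 f = 0 := by
      rw [← RingHom.mem_ker, I.ker_subschemeι_app U]
      exact hf
    refine (ConcreteCategory.congr_hom (I.subschemeι.naturality (homOfLE inf_le_left).op) f).trans ?_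
    show I.subscheme.presheaf.map _ (I.subschemeι.app U.1 f) = 0
    rw [h1, map_zero]
  show (I.subschemeι.app (U.1 ⊓ V) f' • _ : Γ(G, I.subschemeι ⁻¹ᵁ (U.1 ⊓ V))) = 0
  rw [h0]; exact zero_smul Γ(I.subscheme, I.subschemeι ⁻¹ᵁ (U.1 ⊓ V)) _

/-- The stalk of the direct image of a module locally free of rank `s` is generated by `s` elements. -/
theorem exists_gens {s : ℕ} (hG : FlatMod.IsFinLocFreeOfRank s G) (d : I.subscheme) :
    ∃ g : Fin s → ((Scheme.Modules.pushforward I.subschemeι).obj G).presheaf.stalk (I.subschemeι d),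
      ∀ v, ∃ b : Fin s → X.presheaf.stalk (I.subschemeι d), v = ∑ l, b l • g l := by
  obtain ⟨U', hd, ⟨i⟩⟩ := hG d
  obtain ⟨t, ht⟩ := CurveBundle.Coherent.exists_basis_sections i
  obtain ⟨V, hV, hVeq⟩ := (I.subschemeι.isClosedEmbedding.isEmbedding.isInducing.isOpen_iff).mp U'.2
  have hdV : I.subschemeι d ∈ V := by
    have : d ∈ I.subschemeι ⁻¹' V := by rw [hVeq]; exact hd
    exact this
  obtain ⟨W, hW, hzW, hWV⟩ := exists_isAffineOpen_mem_and_subset (X := X) (U := ⟨V, hV⟩) hdV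
  have hle : I.subschemeι ⁻¹ᵁ W ≤ U' := fun p hp => by
    have : p ∈ I.subschemeι ⁻¹' V := hWV hp
    rwa [hVeq] at this
  let P := (Scheme.Modules.pushforward I.subschemeι).obj G
  let e : Fin s → Γ(P, W) := fun l => G.presheaf.map (homOfLE hle).op (t l)
  refine ⟨fun l => P.presheaf.germ W _ hzW (e l), fun v => ?_⟩
  obtain ⟨V', hV', m, rfl⟩ := TopCat.Presheaf.exists_germ_eq P.presheaf v
  obtain ⟨W', hW', hzW', hle'⟩ := exists_isAffineOpen_mem_and_subset (X := X) (U := V' ⊓ W)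
    (Opens.mem_inf.mpr ⟨hV', hzW⟩)
  have hV'' : W' ≤ V' := fun p hp => (Opens.mem_inf.mp (hle' hp)).1
  have hWW : W' ≤ W := fun p hp => (Opens.mem_inf.mp (hle' hp)).2
  have hA : IsAffineOpen (I.subschemeι ⁻¹ᵁ W') := hW'.preimage I.subschemeι
  have hleU : I.subschemeι ⁻¹ᵁ W' ≤ U' := fun p hp => hle (hWW hp)
  haveI : G.IsQuasicoherent := (CurveBundle.Coherent.isCoh (TensorMod.LocFree.of_rank hG)).1
  have hspan : Submodule.span Γ(I.subscheme, I.subschemeι ⁻¹ᵁ W')
      (Set.range fun l => G.presheaf.map (homOfLE hleU).op (t l)) = ⊤ := by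
    refine CohBasics.Affine.span_eq_top_of_germ hA _ fun p hp => ?_
    rw [← Set.range_comp]
    refine Eq.trans (congrArg _ (congrArg Set.range (funext fun l => ?_))) (ht p (hleU hp)).2
    exact TopCat.Presheaf.germ_res_apply G.presheaf (homOfLE hleU) p hp (t l)
  let m' : Γ(G, I.subschemeι ⁻¹ᵁ W') := P.presheaf.map (homOfLE hV'').op m
  obtain ⟨a, ha⟩ := (Submodule.mem_span_range_iff_exists_fun _).mp
    (show m' ∈ _ from hspan.ge Submodule.mem_top)
  choose c hc using fun l => I.subschemeι_app_surjective ⟨W', hW'⟩ (a l)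
  refine ⟨fun l => X.presheaf.germ W' _ hzW' (c l), ?_⟩
  rw [← TopCat.Presheaf.germ_res_apply P.presheaf (homOfLE hV'') _ hzW' m]
  have hm : P.presheaf.map (homOfLE hV'').op m =
      ∑ l, c l • P.presheaf.map (homOfLE hWW).op (e l) := by
    refine ha.symm.trans (Finset.sum_congr rfl fun l _ => ?_)
    show a l • _ = (I.subschemeι.app W' (c l) • _ : Γ(G, I.subschemeι ⁻¹ᵁ W'))
    rw [hc l]
    congr 1
    exact (ConcreteCategory.congr_hom (G.presheaf.map_comp _ _) (t l))
  rw [hm, map_sum]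
  refine Finset.sum_congr rfl fun l _ => ?_
  rw [Mero.germ_smul P W' _ hzW']
  congr 1
  exact TopCat.Presheaf.germ_res_apply P.presheaf (homOfLE hWW) _ hzW' (e l)

end Groth.Agent.Lib.RefHull.PushStalk
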