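import Groth.Agent.Lib.RefHull.ExtHull
import Groth.Agent.Lib.RefHull.DivTwist
import Groth.Agent.Lib.RefHull.PushStalk
import Groth.Agent.Lib.RefHull.DetOrd
import Groth.Agent.Lib.Modules.StalkModule
import Mathlib.Algebra.Homology.ShortComplex.ExactFunctor

/-!
# Determinants of modifications along an effective Cartier divisor
-/

universe u

noncomputable section

open CategoryTheory CategoryTheory.Limits AlgebraicGeometry TopologicalSpace Opposite

namespace Groth.Agent.Lib.RefHull.Modif

open Groth.Agent.Lib Generic Ord RankOne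

variable {X : Scheme.{u}}

/-- Stalks of a right exact sequence. -/
theorem exact_stalk {F F' P : X.Modules} (a : F ⟶ F') (b : F' ⟶ P) (w : a ≫ b = 0)
    (hex : (ShortComplex.mk a b w).Exact) (hb : Epi b) (y : X) :
    (∀ v, RefHull.stalkMapₗ b y v = 0 → ∃ u, RefHull.stalkMapₗ a y u = v) ∧
      Function.Surjective (RefHull.stalkMapₗ b y) := by
  haveI : PreservesFiniteColimits (Modules.StalkModule.stalkModFunctor X y) :=
    PreservesColimitsOfSize.preservesFiniteColimits _
  have h := hex.map (Modules.StalkModule.stalkModFunctor X y)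
  refine ⟨fun v hv => ?_, (Modules.StalkModule.epi_iff_stalkMapₗ_surjective b).mp hb y⟩
  exact ((ShortComplex.moduleCat_exact_iff _).mp h) v hv

variable [IsIntegral X] [IsLocallyNoetherian X]

/-- A generic basis and the rank from a free locus. -/
theorem exists_basis {F : X.Modules} {r : ℕ} {U : X.Opens} (hU : (U : Set ↥X).Nonempty)
    (h : FlatMod.IsFinLocFreeOfRank r (F.restrict U.ι)) :
    Nonempty (Module.Basis (Fin r) X.functionField (F.presheaf.stalk (genericPoint ↥X))) := by
  have hη : genericPoint ↥X ∈ U :=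
    ((genericPoint_spec ↥X).mem_open_set_iff U.isOpen).mpr (by simpa using hU)
  let z : (U : Scheme.{u}) := ⟨_, hη⟩
  obtain ⟨b⟩ := CurveBundle.Coherent.exists_basis_stalk h z
  let e := Modules.StalkRestrict.restrictStalkAddEquiv U.ι F z
  let σ : X.presheaf.stalk (U.ι z) ≃+* (U : Scheme.{u}).presheaf.stalk z :=
    (asIso (U.ι.stalkMap z)).commRingCatIsoToRingEquiv
  have hs : ∀ (a : X.presheaf.stalk (U.ι z)) v, e (σ a • v) = a • e v := fun a v =>
    Modules.StalkRestrict.restrictStalkAddEquiv_smul U.ι F z a v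
  have hli : LinearIndependent (X.presheaf.stalk (U.ι z)) (fun j => e (b j)) :=
    b.linearIndependent.map_of_injective_injective (σ : _ → _) e.toAddMonoidHom
      (fun _ hr => (map_eq_zero_iff σ σ.injective).mp hr)
      (fun _ hm => (map_eq_zero_iff e e.injective).mp hm) hs
  have hsp : ⊤ ≤ Submodule.span (X.presheaf.stalk (U.ι z)) (Set.range fun j => e (b j)) := by
    rw [Set.range_comp' e b]
    refine fun v _ => ?_
    obtain ⟨v', rfl⟩ := e.surjective v
    have := Modules.StalkRestrict.span_image_restrictStalkAddEquiv U.ι F z (Set.range b)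
    exact (Set.ext_iff.mp this (e v')).mpr ⟨v', b.span_eq.ge Submodule.mem_top, rfl⟩
  exact ⟨Module.Basis.mk hli hsp⟩

/-- Expansion of a transformed family. -/
theorem sum_expand {r : ℕ} {K V : Type u} [Field K] [AddCommGroup V] [Module K V]
    (e : Fin r → V) (f : Fin r → V) (A B : Matrix (Fin r) (Fin r) K)
    (h1 : ∀ i, e i = ∑ j, A i j • f j) {g : Fin r → V} (h2 : ∀ i, g i = ∑ j, B i j • e j) (i : Fin r) :
    g i = ∑ l, (B * A) i l • f l := by
  rw [h2]
  simp only [h1, Finset.smul_sum, smul_smul, Matrix.mul_apply, Finset.sum_smul]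
  exact Finset.sum_comm

theorem matrix_eq {r : ℕ} {K V : Type u} [Field K] [AddCommGroup V] [Module K V]
    {f : Fin r → V} (hf : LinearIndependent K f) (A B : Matrix (Fin r) (Fin r) K)
    (h : ∀ i, ∑ j, A i j • f j = ∑ j, B i j • f j) : A = B := by
  ext i j
  exact sub_eq_zero.mp (Fintype.linearIndependent_iff.mp hf (fun j => A i j - B i j)
    (by simp only [sub_smul, Finset.sum_sub_distrib, h i, sub_self]) j)

set_option maxHeartbeats 3200000 in
theorem main (hreg : ∀ x : ↥X, IsRegularLocalRing ↑(X.presheaf.stalk x))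
    (hdim : topologicalKrullDim ↥X ≤ 2) (I : X.IdealSheafData) (hD : BlowUp.IsEffCartierIdeal I)
    (hDi : IsIntegral I.subscheme) (s : ℕ) (G : (I.subscheme).Modules)
    (hG : FlatMod.IsFinLocFreeOfRank s G) (F F' : X.Modules) (hF : Coh.IsCoh F) (hF' : Coh.IsCoh F')
    (a : F ⟶ F') (b : F' ⟶ (Scheme.Modules.pushforward I.subschemeι).obj G) (w : a ≫ b = 0)
    (hex : (ShortComplex.mk a b w).Exact) (hb : Epi b) (r : ℕ) {U : X.Opens}
    (hU : (U : Set ↥X).Nonempty) (hUF : FlatMod.IsFinLocFreeOfRank r (F.restrict U.ι))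
    (hUF' : FlatMod.IsFinLocFreeOfRank r (F'.restrict U.ι))
    (L L' : X.Modules) (hL : ExtPow.IsExtPow r F L) (hL' : ExtPow.IsExtPow r F' L') :
    PicF.IsInvertible (RefHull.ddual L) ∧ PicF.IsInvertible (RefHull.ddual L') ∧
      ∃ k : ℕ, k ≤ min s r ∧
        Nonempty (RefHull.ddual L' ≅
          CohB1.tensorMod (RefHull.ddual L)
            (CohB1.tensorPow (RefHull.dual (_root_.ClSub.idealMod I)) k)) := by
  have hX := ExtHull.isNormal hreg
  obtain ⟨B⟩ := exists_basis hU hUF
  obtain ⟨B₁⟩ := exists_basis hU hUF'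
  obtain ⟨d, hz1, huniq, hirr⟩ := DivTwist.exists_point hX hD hDi
  set z := I.subschemeι d with hz
  -- the modification is generically bijective
  have hηn : genericPoint ↥X ∉ Set.range I.subschemeι := by
    obtain ⟨Uc, hc, f, hf, hUc⟩ := hD (genericPoint ↥X)
    haveI : Nonempty (Uc.1 : Scheme.{u}) := ⟨⟨_, hc⟩⟩
    have hne : X.presheaf.germ Uc.1 (genericPoint ↥X) hc f ≠ 0 := fun h => by
      have h' : X.presheaf.germ Uc.1 (genericPoint ↥X) hc f =
          X.presheaf.germ Uc.1 (genericPoint ↥X) hc 0 := h.trans (map_zero _).symm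
      exact nonZeroDivisors.ne_zero hf (germ_injective_of_isIntegral X _ hc h')
    intro h
    rw [Scheme.IdealSheafData.range_subschemeι, SetLike.mem_coe,
      Scheme.IdealSheafData.mem_support_iff_of_mem hc, hUc, Scheme.zeroLocus_span] at h
    exact (Scheme.mem_zeroLocus_iff _ _ _).mp h f rfl
      ((X.mem_basicOpen f _ hc).mpr (IsUnit.mk0 (G₀ := X.functionField) _ hne))
  have hsurj : ∀ y : X, y ∉ Set.range I.subschemeι → Function.Surjective (RefHull.stalkMapₗ a y) :=
    fun y hy v => (exact_stalk a b w hex hb y).1 v (PushStalk.eq_zero hy _)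
  let aη : F.presheaf.stalk (genericPoint ↥X) →ₗ[X.functionField] F'.presheaf.stalk (genericPoint ↥X) :=
    RefHull.stalkMapₗ a (genericPoint ↥X)
  haveI := Module.Finite.of_basis B
  haveI := Module.Finite.of_basis B₁
  have hfr : Module.finrank X.functionField (F.presheaf.stalk (genericPoint ↥X)) =
      Module.finrank X.functionField (F'.presheaf.stalk (genericPoint ↥X)) := by
    rw [Module.finrank_eq_card_basis B, Module.finrank_eq_card_basis B₁]
  have haη : Function.Bijective aη := by
    have hs : Function.Surjective aη := hsurj _ hηn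
    exact ⟨(LinearMap.injective_iff_surjective_of_finrank_eq_finrank hfr).mpr hs, hs⟩
  let eη := LinearEquiv.ofBijective aη haη
  let B' := B.map eη
  obtain ⟨hR, v, hv, hord⟩ := ExtHull.exists_hull hX hF hL B
  obtain ⟨hR', v', hv', hord'⟩ := ExtHull.exists_hull hX hF' hL' B'
  -- the local comparison
  have key : ∀ y : X, Order.coheight y = 1 →
      ∃ (c : Fin r → F.presheaf.stalk y) (c' : Fin r → F'.presheaf.stalk y)
        (M : Matrix (Fin r) (Fin r) (X.presheaf.stalk y)),
        secOrd (RefHull.ddual L') v' y - secOrd (RefHull.ddual L) v y =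
          Scheme.ord (algebraMap (X.presheaf.stalk y) X.functionField M.det) y ∧ M.det ≠ 0 ∧
        LinearIndependent X.functionField (fun i => toGen F' y (c' i)) ∧
        (∀ i, toGen F' y (RefHull.stalkMapₗ a y (c i)) =
          ∑ j, algebraMap (X.presheaf.stalk y) X.functionField (M i j) • toGen F' y (c' j)) ∧
        (∀ u, ∃ q : Fin r → X.presheaf.stalk y, toGen F y u =
          ∑ j, algebraMap (X.presheaf.stalk y) X.functionField (q j) • toGen F y (c j)) ∧
        (∀ u, ∃ q : Fin r → X.presheaf.stalk y, toGen F' y u =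
          ∑ j, algebraMap (X.presheaf.stalk y) X.functionField (q j) • toGen F' y (c' j)) := by
    intro y hy
    obtain ⟨c, hc, hcg⟩ := ExtHull.exists_gens hX hF
      ((Module.finrank_eq_card_basis B).trans (Fintype.card_fin r)) hy
    obtain ⟨c', hc', hc'g⟩ := ExtHull.exists_gens hX hF'
      ((Module.finrank_eq_card_basis B₁).trans (Fintype.card_fin r)) hy
    choose M hM using fun i => hc'g (RefHull.stalkMapₗ a y (c i))
    let M' : Matrix (Fin r) (Fin r) (X.presheaf.stalk y) := Matrix.of M
    have hd : ExtDet.dt B (fun i => toGen F y (c i)) =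
        algebraMap (X.presheaf.stalk y) X.functionField M'.det *
          ExtDet.dt B' (fun i => toGen F' y (c' i)) := by
      rw [RingHom.map_det, ← ExtDet.dt_mul]
      unfold ExtDet.dt
      congr 1
      ext i j
      have h : eη (toGen F y (c i)) =
          ∑ j, algebraMap (X.presheaf.stalk y) X.functionField (M i j) • toGen F' y (c' j) :=
        (toGen_stalkMap a y (c i)).symm.trans (hM i)
      show B.repr _ j = B'.repr _ j
      simp only [RingHom.mapMatrix_apply, Matrix.map_apply, M', Matrix.of_apply, ← h]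
      simp [B']
    have h0 := ExtDet.dt_ne_zero B hc
    rw [hd] at h0
    obtain ⟨hm0, hd0⟩ := ne_zero_and_ne_zero_of_mul h0
    refine ⟨c, c', M', ?_, fun h => hm0 (by rw [h, map_zero]), hc', hM, hcg, hc'g⟩
    rw [hord' y hy c' hc' hc'g, hord y hy c hc hcg, hd, Scheme.ord_mul hm0 hd0]
    omega
  -- transfer of coordinates
  have hcoord : ∀ (y : X) (c : Fin r → F.presheaf.stalk y) (c' : Fin r → F'.presheaf.stalk y)
      (M : Matrix (Fin r) (Fin r) (X.presheaf.stalk y)),
      (∀ i, toGen F' y (RefHull.stalkMapₗ a y (c i)) =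
        ∑ j, algebraMap (X.presheaf.stalk y) X.functionField (M i j) • toGen F' y (c' j)) →
      ∀ (u : F.presheaf.stalk y) (q : Fin r → X.presheaf.stalk y),
        toGen F y u = ∑ j, algebraMap (X.presheaf.stalk y) X.functionField (q j) • toGen F y (c j) →
        toGen F' y (RefHull.stalkMapₗ a y u) =
          ∑ j, algebraMap (X.presheaf.stalk y) X.functionField (Matrix.vecMul q M j) • toGen F' y (c' j) := by
    intro y c c' M hM u q hq
    rw [toGen_stalkMap, hq, map_sum]
    simp only [map_smul, ← toGen_stalkMap, hM, Finset.smul_sum, smul_smul, Matrix.vecMul, dotProduct,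
      map_sum, map_mul, Finset.sum_smul]
    exact Finset.sum_comm
  have houtside : ∀ y : X, Order.coheight y = 1 → y ∉ Set.range I.subschemeι →
      secOrd (RefHull.ddual L') v' y = secOrd (RefHull.ddual L) v y := by
    intro y hy hn
    obtain ⟨c, c', M, hdiff, -, hli, hM, hcg, -⟩ := key y hy
    choose u hu using fun j => hsurj y hn (c' j)
    choose N hN using fun j => hcg (u j)
    have h1 : (Matrix.of N * M).map (algebraMap (X.presheaf.stalk y) X.functionField) = 1 := by
      refine matrix_eq hli _ _ fun i => ?_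
      have h := hcoord y c c' M hM (u i) (N i) (hN i)
      rw [hu i] at h
      refine Eq.trans ?_ (h.symm.trans ?_)
      · refine Finset.sum_congr rfl fun j _ => ?_
        congr 1
      · simp [Matrix.one_apply]
    have h2 : (Matrix.of N * M) = 1 := by
      refine Matrix.map_injective (IsFractionRing.injective (X.presheaf.stalk y) X.functionField) ?_
      dsimp only
      rw [h1, Matrix.map_one _ (map_zero _) (map_one _)]
    have h3 : IsUnit M.det := IsUnit.of_mul_eq_one (Matrix.of N).det (by
      rw [mul_comm, ← Matrix.det_mul, h2, Matrix.det_one])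
    rw [ord_of_isUnit hX hy h3] at hdiff
    omega
  have hinside : ∃ k : ℕ, k ≤ min s r ∧
      secOrd (RefHull.ddual L') v' z = secOrd (RefHull.ddual L) v z + k := by
    obtain ⟨c, c', M, hdiff, -, hli, hM, hcg, hc'g⟩ := key z hz1
    haveI := isDVR hX hz1
    obtain ⟨Uc, hzU, f, -, hUc⟩ := hD z
    set ϖ := X.presheaf.germ Uc.1 z hzU f
    have hϖ : Irreducible ϖ := hirr Uc f hzU hUc
    have hkill : ∀ x, RefHull.stalkMapₗ b z (ϖ • x) = 0 := fun x =>
      (map_smul _ _ _).trans (PushStalk.smul_eq_zero (hUc ▸ Ideal.mem_span_singleton_self f) hzU _)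
    choose u hu using fun j => (exact_stalk a b w hex hb z).1 (ϖ • c' j) (hkill _)
    choose N hN using fun j => hcg (u j)
    have hinjA := IsFractionRing.injective (X.presheaf.stalk z) X.functionField
    have hNM : Matrix.of N * M = ϖ • 1 := by
      refine Matrix.map_injective hinjA ?_
      refine matrix_eq hli _ _ fun i => ?_
      have h := hcoord z c c' M hM (u i) (N i) (hN i)
      rw [hu i, toGen_smul] at h
      refine Eq.trans ?_ (h.symm.trans ?_)
      · refine Finset.sum_congr rfl fun j _ => ?_
        congr 1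
      · simp [Matrix.one_apply, apply_ite (algebraMap (X.presheaf.stalk z) X.functionField)]
    obtain ⟨g, hg⟩ := PushStalk.exists_gens hG d
    choose e he using fun l => (exact_stalk a b w hex hb z).2 (g l)
    choose γ hγ using fun l => hc'g (e l)
    obtain ⟨k, uu, hk, hdet⟩ := DetOrd.exists_det_eq hϖ M (Matrix.of N) hNM γ fun q => by
      let x := ∑ j, q j • c' j
      obtain ⟨β, hβ⟩ := hg (RefHull.stalkMapₗ b z x)
      obtain ⟨t, ht⟩ := (exact_stalk a b w hex hb z).1 (x - ∑ l, β l • e l) (by
        rw [map_sub, hβ, map_sum]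
        simp only [map_smul, he]
        exact sub_self _)
      obtain ⟨wq, hwq⟩ := hcg t
      refine ⟨wq, β, ?_⟩
      have h := hcoord z c c' M hM t wq hwq
      rw [ht, map_sub, map_sum, map_sum, sub_eq_iff_eq_add] at h
      simp only [toGen_smul, hγ, Finset.smul_sum, smul_smul, ← map_mul] at h
      funext j
      refine hinjA (sub_eq_zero.mp (Fintype.linearIndependent_iff.mp hli
        (fun j => algebraMap (X.presheaf.stalk z) X.functionField (q j) -
          algebraMap (X.presheaf.stalk z) X.functionField ((Matrix.vecMul wq M + ∑ l, β l • γ l) j)) ?_ j))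
      simp only [Pi.add_apply, Finset.sum_apply, Pi.smul_apply, smul_eq_mul, map_add, map_sum,
        sub_smul, add_smul, Finset.sum_smul, Finset.sum_sub_distrib, Finset.sum_add_distrib]
      rw [sub_eq_zero, h]
      exact congrArg₂ _ rfl Finset.sum_comm
    refine ⟨k, hk, ?_⟩
    rw [hdet, ord_unit_mul_pow hX hz1 hϖ] at hdiff
    omega
  refine ⟨ExtHull.isInvertible hreg hdim hR, ExtHull.isInvertible hreg hdim hR', ?_⟩
  obtain ⟨k, hk, hkz⟩ := hinside
  refine ⟨k, hk, ?_⟩
  obtain ⟨hRI, t, ht, hti⟩ := DivTwist.exists_idealSec hX hD d hirr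
  obtain ⟨hRP, p, hp, hpord⟩ := DivRef.dual_spec hX hRI ht
  have hPinv := ExtHull.isInvertible hreg hdim hRP
  obtain ⟨hPk, q, hq, hqord⟩ := DivTwist.tensorPow_spec hX hPinv hp k
  obtain ⟨hT, tt, htt, httord⟩ :=
    DivTwist.tensor_spec hX (ExtHull.isInvertible hreg hdim hR) hPk hv hq
  obtain ⟨e, -⟩ := Divisor.exists_iso hX hR' (DivTwist.isRef1_of_isInvertible hT) hv' htt fun y hy => by
    rw [httord y hy, hqord y hy, hpord y hy]
    by_cases hn : y ∈ Set.range I.subschemeι
    · obtain rfl := huniq y hy hn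
      rw [(hti z hy).2 rfl, hkz]
      ring
    · rw [(hti y hy).1 hn, houtside y hy hn]
      ring
  exact ⟨e⟩

end Groth.Agent.Lib.RefHull.Modif
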