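import Groth.Agent.Lib.RefHull.Reflexive
import Groth.Prelude.Def_TorSh

/-!
# A morphism of coherent modules bijective on one stalk is bijective nearby
-/

universe u

noncomputable section

open CategoryTheory AlgebraicGeometry TopologicalSpace Opposite

namespace Groth.Agent.Lib.RefHull.Open

open Groth.Agent.Lib Groth.Agent.Lib.TensorMod.Dual SecHom HomSh

variable {X : Scheme.{u}} {F G : X.Modules}

theorem isOpen_bijective [IsLocallyNoetherian X] (hF : Coh.IsCoh F) (hG : Coh.IsCoh G) (φ : F ⟶ G) :
    IsOpen {x : X | Function.Bijective (RefHull.stalkMapₗ φ x)} := by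
  haveI := hF.1
  haveI := hG.1
  rw [isOpen_iff_forall_mem_open]
  intro x hx
  let e := LinearEquiv.ofBijective _ hx
  obtain ⟨v, hv⟩ := evalStalk_surjective (F := G) (G := F) hG x e.symm.toLinearMap
  obtain ⟨U₀, hx₀, g, rfl⟩ := TopCat.Presheaf.exists_germ_eq (RefHull.homSh G F).presheaf v
  rw [RefHull.evalStalk_germ] at hv
  obtain ⟨U, hU, hxU, hle'⟩ := exists_isAffineOpen_mem_and_subset (X := X) hx₀
  have hle : U ≤ U₀ := hle'
  haveI := CohBasics.Closure.finite_sections hF hU
  haveI := CohBasics.Closure.finite_sections hG hU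
  obtain ⟨k, m, hm⟩ := Module.Finite.exists_fin (R := Γ(X, U)) (M := Γ(F, U))
  obtain ⟨l, n, hn⟩ := Module.Finite.exists_fin (R := Γ(X, U)) (M := Γ(G, U))
  obtain ⟨f, hf, hfm⟩ := exists_nhd_res_eq_zero hxU hU (fun i => app g hle (φ.app U (m i)) - m i)
    fun i => by
      rw [map_sub, germ_app, hv, ← RefHull.stalkMapₗ_germ]
      exact sub_eq_zero.mpr (e.symm_apply_apply _)
  obtain ⟨f', hf', hfn⟩ := exists_nhd_res_eq_zero hxU hU (fun i => φ.app U (app g hle (n i)) - n i)
    fun i => by
      rw [map_sub, ← RefHull.stalkMapₗ_germ, germ_app, hv]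
      exact sub_eq_zero.mpr (e.apply_symm_apply _)
  refine ⟨X.basicOpen f ⊓ X.basicOpen f', fun y hy => ?_, (X.basicOpen f ⊓ X.basicOpen f').isOpen,
    ⟨hf, hf'⟩⟩
  have hyU : y ∈ U := X.basicOpen_le f hy.1
  have h1 : (g.1 ⟨y, hle hyU⟩).comp (RefHull.stalkMapₗ φ y) = LinearMap.id := by
    refine stalk_ext hU hyU fun t => ?_
    have ht : t ∈ Submodule.span Γ(X, U) (Set.range m) := hm ▸ trivial
    induction ht using Submodule.span_induction with
    | mem a ha =>
      obtain ⟨i, rfl⟩ := ha
      have h := congrArg (F.presheaf.germ _ y hy.1) (hfm i)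
      rw [germ_rs, map_zero, map_sub, germ_app, ← RefHull.stalkMapₗ_germ, sub_eq_zero] at h
      simpa using h
    | zero => simp
    | add a b _ _ ha hb => simp only [map_add, ha, hb]
    | smul a b _ hb => simp only [Mero.germ_smul, map_smul, hb]
  have h2 : (RefHull.stalkMapₗ φ y).comp (g.1 ⟨y, hle hyU⟩) = LinearMap.id := by
    refine stalk_ext hU hyU fun t => ?_
    have ht : t ∈ Submodule.span Γ(X, U) (Set.range n) := hn ▸ trivial
    induction ht using Submodule.span_induction with
    | mem a ha =>
      obtain ⟨i, rfl⟩ := ha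
      have h := congrArg (G.presheaf.germ _ y hy.2) (hfn i)
      rw [germ_rs, map_zero, map_sub, ← RefHull.stalkMapₗ_germ, germ_app, sub_eq_zero] at h
      simpa using h
    | zero => simp
    | add a b _ _ ha hb => simp only [map_add, ha, hb]
    | smul a b _ hb => simp only [Mero.germ_smul, map_smul, hb]
  exact ⟨Function.LeftInverse.injective (LinearMap.congr_fun h1),
    Function.RightInverse.surjective (LinearMap.congr_fun h2)⟩

/-- Sheaf Hom into a torsion free module is torsion free. -/
theorem isTorsionFree_homSh (hF : Coh.IsCoh F) (hG : TorSh.IsTorsionFree G) :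
    TorSh.IsTorsionFree (RefHull.homSh F G) := fun x => by
  haveI := hG x
  exact Function.Injective.moduleIsTorsionFree _ (HomSh.evalStalk_injective (G := G) hF x)
    (map_smul (RefHull.evalStalk F G x))

end Groth.Agent.Lib.RefHull.Open
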