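import Groth.Prelude.Def_RefHull
import Groth.Agent.Lib.CohBasics.Closure
import Groth.Agent.Lib.StalkLoc.Basic
import Groth.Agent.Lib.QCoh.Localizing
import Groth.Agent.Lib.TensorMod.Dual

/-!
# Sections of the sheaf Hom

Sections of `homSh F G` are determined by their values on sections; over an affine open they come from linear maps
on sections; `evalStalk` is bijective and `homSh` coherent for coherent modules on locally Noetherian schemes.
-/

universe u

noncomputable section

open CategoryTheory AlgebraicGeometry TopologicalSpace Opposite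

namespace Groth.Agent.Lib.RefHull.SecHom

open Groth.Agent.Lib Groth.Agent.Lib.TensorMod.Dual

variable {X : Scheme.{u}} {F G M : X.Modules}

lemma germ_rs {U V : X.Opens} (h : V ≤ U) {y : X} (hy : y ∈ V) (s : Γ(M, U)) :
    M.presheaf.germ V y hy (rs M h s) = M.presheaf.germ U y (h hy) s :=
  TopCat.Presheaf.germ_res_apply _ _ _ _ _

lemma germ_rf {U V : X.Opens} (h : V ≤ U) {y : X} (hy : y ∈ V) (s : Γ(X, U)) :
    X.presheaf.germ V y hy (rf h s) = X.presheaf.germ U y (h hy) s :=
  TopCat.Presheaf.germ_res_apply _ _ _ _ _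

lemma sec_ext {U : X.Opens} {a b : Γ(M, U)}
    (h : ∀ (y : X) (hy : y ∈ U), M.presheaf.germ U y hy a = M.presheaf.germ U y hy b) : a = b :=
  TopCat.Presheaf.section_ext ⟨M.presheaf, M.isSheaf⟩ U a b h

/-- A family of germs which is locally the family of germs of a section is the family of germs of a
section. -/
theorem exists_glue (U : X.Opens) (v : ∀ y : U, M.presheaf.stalk y.1)
    (h : ∀ x : U, ∃ (W : X.Opens) (_ : x.1 ∈ W) (j : W ≤ U) (n : Γ(M, W)),
      ∀ y : W, v ⟨y.1, j y.2⟩ = M.presheaf.germ W y.1 y.2 n) :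
    ∃ n : Γ(M, U), ∀ y : U, M.presheaf.germ U y.1 y.2 n = v y := by
  choose W hxW j n hn using h
  have comp : TopCat.Presheaf.IsCompatible M.presheaf W n := fun x x' => by
    refine sec_ext fun y hy => ?_
    erw [TopCat.Presheaf.germ_res_apply, TopCat.Presheaf.germ_res_apply]
    exact (hn x ⟨y, hy.1⟩).symm.trans (hn x' ⟨y, hy.2⟩)
  obtain ⟨s, hs, -⟩ := TopCat.Sheaf.existsUnique_gluing' (⟨M.presheaf, M.isSheaf⟩ : TopCat.Sheaf Ab X)
    W U (fun x => homOfLE (j x)) (fun y hy => Opens.mem_iSup.mpr ⟨⟨y, hy⟩, hxW ⟨y, hy⟩⟩) n comp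
  refine ⟨s, fun y => ?_⟩
  have e := congrArg (M.presheaf.germ (W y) y.1 (hxW y)) (hs y)
  erw [TopCat.Presheaf.germ_res_apply] at e
  exact e.trans (hn y ⟨y.1, hxW y⟩).symm

/-! ### The value of a section of the sheaf Hom on sections -/

theorem exists_app {U : X.Opens} (g : Γ(RefHull.homSh F G, U)) {V : X.Opens} (hV : V ≤ U)
    (m : Γ(F, V)) : ∃ n : Γ(G, V), ∀ y : V,
      G.presheaf.germ V y.1 y.2 n = g.1 ⟨y.1, hV y.2⟩ (F.presheaf.germ V y.1 y.2 m) := by
  refine exists_glue V _ fun x => ?_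
  obtain ⟨W, hxW, j, n, hn⟩ := RefHull.isLocSect_of_mem g V (homOfLE hV) m x
  exact ⟨W, hxW, j.le, n, fun y => hn y⟩

/-- The value of a section of the sheaf Hom on a section. -/
def app {U : X.Opens} (g : Γ(RefHull.homSh F G, U)) {V : X.Opens} (hV : V ≤ U) :
    Γ(F, V) →ₗ[Γ(X, V)] Γ(G, V) where
  toFun m := (exists_app g hV m).choose
  map_add' a b := sec_ext fun y hy => by
    rw [map_add, (exists_app g hV (a + b)).choose_spec ⟨y, hy⟩,
      (exists_app g hV a).choose_spec ⟨y, hy⟩, (exists_app g hV b).choose_spec ⟨y, hy⟩, map_add,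
      map_add]
  map_smul' r a := sec_ext fun y hy => by
    rw [RingHom.id_apply, Mero.germ_smul, (exists_app g hV (r • a)).choose_spec ⟨y, hy⟩,
      (exists_app g hV a).choose_spec ⟨y, hy⟩, Mero.germ_smul, map_smul]

lemma germ_app {U : X.Opens} (g : Γ(RefHull.homSh F G, U)) {V : X.Opens} (hV : V ≤ U) (m : Γ(F, V))
    (y : X) (hy : y ∈ V) : G.presheaf.germ V y hy (app g hV m) =
      g.1 ⟨y, hV hy⟩ (F.presheaf.germ V y hy m) :=
  (exists_app g hV m).choose_spec ⟨y, hy⟩

/-- Linear maps out of a stalk agree when they agree on germs of sections on an affine open. -/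
theorem stalk_ext [F.IsQuasicoherent] {U : X.Opens} (hU : IsAffineOpen U) {x : X} (hx : x ∈ U)
    {P : Type u} [AddCommGroup P] [Module (X.presheaf.stalk x) P]
    {a b : F.presheaf.stalk x →ₗ[X.presheaf.stalk x] P}
    (h : ∀ m : Γ(F, U), a (F.presheaf.germ U x hx m) = b (F.presheaf.germ U x hx m)) : a = b :=
  LinearMap.ext fun v => by
    obtain ⟨f, t, hf, e⟩ := StalkLoc.Basic.exists_smul_eq_germ hU hx v
    have h' := h t
    rw [← e, map_smul, map_smul] at h'
    exact ((X.mem_basicOpen f x hx).mp hf).smul_left_cancel.mp h'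

theorem sec_ext_of_affine [F.IsQuasicoherent] {U : X.Opens} (hU : IsAffineOpen U) {W : X.Opens}
    (hW : W ≤ U) {g g' : Γ(RefHull.homSh F G, W)}
    (h : ∀ (m : Γ(F, U)), app g le_rfl (rs F hW m) = app g' le_rfl (rs F hW m)) : g = g' :=
  Subtype.ext <| funext fun y => stalk_ext hU (hW y.2) fun m => by
    have e := congrArg (G.presheaf.germ W y.1 y.2) (h m)
    rw [germ_app, germ_app, germ_rs] at e
    exact e

/-- A linear map on the sections over an affine open gives a map on stalks. -/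
theorem exists_stalkHom [F.IsQuasicoherent] {U : X.Opens} (hU : IsAffineOpen U) {x : X} (hx : x ∈ U)
    {P : Type u} [AddCommGroup P] [Module (X.presheaf.stalk x) P] (h : Γ(F, U) →+ P)
    (hh : ∀ (r : Γ(X, U)) (m : Γ(F, U)), h (r • m) = X.presheaf.germ U x hx r • h m) :
    ∃ a : F.presheaf.stalk x →ₗ[X.presheaf.stalk x] P,
      ∀ m, a (F.presheaf.germ U x hx m) = h m := by
  letI := StalkLoc.Basic.moduleSections F hx
  letI : Module Γ(X, U) P := Module.compHom P (X.presheaf.germ U x hx).hom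
  letI := TopCat.Presheaf.algebra_section_stalk X.presheaf (⟨x, hx⟩ : U)
  haveI : IsScalarTower Γ(X, U) (X.presheaf.stalk x) P :=
    ⟨fun r a v => mul_smul (X.presheaf.germ U x hx r) a v⟩
  haveI := StalkLoc.Basic.isScalarTower_sections F hx
  haveI := hU.isLocalization_stalk ⟨x, hx⟩
  haveI := StalkLoc.Basic.isLocalizedModule_germ (M := F) hU hx
  let S := (hU.primeIdealOf ⟨x, hx⟩).asIdeal.primeCompl
  let h' : Γ(F, U) →ₗ[Γ(X, U)] P := { h with map_smul' := hh }
  have hu : ∀ s : S, IsUnit (algebraMap Γ(X, U) (Module.End Γ(X, U) P) s) := fun s => by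
    rw [Module.End.isUnit_iff]
    exact (IsLocalization.map_units (X.presheaf.stalk x) s).smul_bijective
  let a := IsLocalizedModule.lift S (StalkLoc.Basic.germₗ F hx) h' hu
  exact ⟨LinearMap.extendScalarsOfIsLocalization S (X.presheaf.stalk x) a,
    fun m => IsLocalizedModule.lift_apply S (StalkLoc.Basic.germₗ F hx) h' hu m⟩

/-- A linear map from the sections on an affine open to the sections on a smaller open gives a
section of the sheaf Hom there. -/
theorem exists_sec_of_linear [F.IsQuasicoherent] {U : X.Opens} (hU : IsAffineOpen U) {W : X.Opens}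
    (hW : W ≤ U) (φ : Γ(F, U) →+ Γ(G, W)) (hφ : ∀ r m, φ (r • m) = rf hW r • φ m) :
    ∃ g : Γ(RefHull.homSh F G, W), ∀ m, app g le_rfl (rs F hW m) = φ m := by
  have hex : ∀ y : W, ∃ a : RefHull.StalkHom F G y.1, ∀ m,
      a (F.presheaf.germ U y.1 (hW y.2) m) = G.presheaf.germ W y.1 y.2 (φ m) := fun y =>
    exists_stalkHom hU (hW y.2) ((G.presheaf.germ W y.1 y.2).hom.comp φ) fun r m => by
      change G.presheaf.germ W y.1 y.2 (φ (r • m)) = _
      rw [hφ, Mero.germ_smul, germ_rf]
      rfl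
  choose g hg using hex
  have hloc : RefHull.IsLocSect F G g := fun V i m x => by
    obtain ⟨f, t, hf, e⟩ := StalkLoc.Basic.exists_smul_eq_germ hU (hW (i.le x.2))
      (F.presheaf.germ V x.1 x.2 m)
    have hx2 : x.1 ∈ V ⊓ U := Opens.mem_inf.mpr ⟨x.2, hW (i.le x.2)⟩
    have e' : F.presheaf.germ (V ⊓ U) x.1 hx2
        (rf (inf_le_right : V ⊓ U ≤ U) f • rs F inf_le_left m) =
        F.presheaf.germ (V ⊓ U) x.1 hx2 (rs F inf_le_right t) := by
      erw [Mero.germ_smul]
      rw [germ_rf, germ_rs, germ_rs, e]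
    obtain ⟨W', hxW', j, j', hj⟩ := TopCat.Presheaf.germ_eq F.presheaf x.1 _ _ _ _ e'
    let W₁ : X.Opens := W' ⊓ X.basicOpen f
    have h1V : W₁ ≤ V := inf_le_left.trans (j.le.trans inf_le_left)
    have h1W : W₁ ≤ W := h1V.trans i.le
    have h1U : W₁ ≤ U := inf_le_right.trans (X.basicOpen_le f)
    obtain ⟨c, hc⟩ := isUnit_iff_exists_inv'.mp
      (show IsUnit (rf h1U f) from by
        have h' := (X.toRingedSpace.isUnit_res_basicOpen f).map
          (X.presheaf.map (homOfLE (inf_le_right : W₁ ≤ X.basicOpen f)).op).hom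
        rw [show rf h1U f = rf (inf_le_right : W₁ ≤ X.basicOpen f) (rf (X.basicOpen_le f) f) from
          (rf_rf _ _ _).symm]
        exact h')
    refine ⟨W₁, ⟨hxW', hf⟩, homOfLE h1V, c • rs G h1W (φ t), fun y => ?_⟩
    have e₁ := congrArg (F.presheaf.germ W' y.1 y.2.1) hj
    erw [TopCat.Presheaf.germ_res_apply, TopCat.Presheaf.germ_res_apply] at e₁
    rw [Mero.germ_smul, germ_rf, germ_rs, germ_rs] at e₁
    have e₂ := congrArg (X.presheaf.germ W₁ y.1 y.2) hc
    rw [map_mul, map_one, germ_rf] at e₂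
    rw [Mero.germ_smul, germ_rs, ← hg ⟨y.1, h1W y.2⟩ t, ← e₁, map_smul, smul_smul, e₂, one_smul]
  let g' : Γ(RefHull.homSh F G, W) := ⟨g, hloc⟩
  refine ⟨g', fun m => sec_ext fun y hy => ?_⟩
  rw [germ_app g' le_rfl, germ_rs]
  exact hg ⟨y, hy⟩ m

end Groth.Agent.Lib.RefHull.SecHom
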