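import Groth.Agent.Lib.RefHull.HomSh
import Groth.Agent.Lib.TensorMod.Invertible
import Groth.Agent.Lib.TensorMod.Pullback

/-!
# The two duals agree; duals of invertible modules commute with pullback
-/

universe u

noncomputable section

open CategoryTheory AlgebraicGeometry TopologicalSpace Opposite

namespace Groth.Agent.Lib.RefHull.DualComp

open Groth.Agent.Lib Groth.Agent.Lib.TensorMod Groth.Agent.Lib.TensorMod.Dual SecHom

variable {X : Scheme.{u}} (L : X.Modules)

/-- A section of the sheaf Hom into `O` as a compatible family of functionals. -/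
def toDualSec (U : X.Opens) (g : Γ(RefHull.dual L, U)) : DualSec L U :=
  ⟨fun V => app g V.2, fun V W h m => by
    show rs (Coh.structureModule X) h (app g V.2 m) = app g W.2 (rs L h m)
    exact sec_ext fun y hy => by rw [germ_rs, germ_app, germ_app, germ_rs]⟩

lemma toDualSec_add (U : X.Opens) (g g' : Γ(RefHull.dual L, U)) :
    toDualSec L U (g + g') = toDualSec L U g + toDualSec L U g' :=
  DualSec.ext fun V hV m => sec_ext (M := Coh.structureModule X) fun y hy => by
    show _ = (Coh.structureModule X).presheaf.germ V y hy (app g hV m + app g' hV m)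
    rw [map_add, germ_app, germ_app]
    exact germ_app (g + g') hV m y hy

/-- The comparison morphism. -/
def comp : RefHull.dual L ⟶ TensorMod.Dual.dual L :=
  ⟨PresheafOfModules.homMk
    { app := fun U => AddCommGrpCat.ofHom (AddMonoidHom.mk' (toDualSec L U.unop) (toDualSec_add L U.unop))
      naturality := fun {U V} i => by
        ext g
        refine DualSec.ext fun W hW m => sec_ext (M := Coh.structureModule X) fun y hy => ?_
        refine (germ_app (rs (RefHull.dual L) i.unop.le g) hW m y hy).trans ?_
        exact (germ_app g (hW.trans i.unop.le) m y hy).symm }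
    (fun U r g => DualSec.ext fun W hW m => sec_ext (M := Coh.structureModule X) fun y hy => by
      change (Coh.structureModule X).presheaf.germ W y hy
          (app ((show Γ(X, U.unop) from r) • (show Γ(RefHull.dual L, U.unop) from g)) hW m) =
        (Coh.structureModule X).presheaf.germ W y hy
          (rf hW (show Γ(X, U.unop) from r) • app (show Γ(RefHull.dual L, U.unop) from g) hW m)
      rw [germ_app, Mero.germ_smul, germ_app, germ_rf]
      rfl)⟩

lemma bijective_toDualSec (U : X.Opens) : Function.Bijective (toDualSec L U) := by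
  constructor
  · intro g g' h
    refine Subtype.ext (funext fun x => LinearMap.ext fun v => ?_)
    obtain ⟨V, hxV, m, rfl⟩ := TopCat.Presheaf.exists_germ_eq L.presheaf v
    rw [← germ_rs (inf_le_left : V ⊓ U ≤ V) (Opens.mem_inf.mpr ⟨hxV, x.2⟩) m,
      ← germ_app g inf_le_right _ x.1 (Opens.mem_inf.mpr ⟨hxV, x.2⟩), ← germ_app g' inf_le_right _ x.1 (Opens.mem_inf.mpr ⟨hxV, x.2⟩)]
    exact congrArg _ (congrArg (fun φ : DualSec L U => φ.app inf_le_right (rs L inf_le_left m)) h)
  · intro φ
    let val : ∀ (x : U) (V : X.Opens) (_ : x.1 ∈ V) (_ : Γ(L, V)),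
        (Coh.structureModule X).presheaf.stalk x.1 := fun x V hxV m =>
      (Coh.structureModule X).presheaf.germ (V ⊓ U) x.1 (Opens.mem_inf.mpr ⟨hxV, x.2⟩)
        (show Γ(Coh.structureModule X, V ⊓ U) from φ.app inf_le_right (rs L inf_le_left m))
    have hres : ∀ (x : U) (V W : X.Opens) (h : W ≤ V) (hx : x.1 ∈ W) (m : Γ(L, V)),
        val x V (h hx) m = val x W hx (rs L h m) := fun x V W h hx m => by
      have h' : W ⊓ U ≤ V ⊓ U := inf_le_inf_right U h
      refine (germ_rs h' (Opens.mem_inf.mpr ⟨hx, x.2⟩) _).symm.trans ?_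
      refine congrArg _ ((φ.compat inf_le_right h' _).trans ?_)
      rw [rs_rs, rs_rs]
    have hwd : ∀ (x : U) (V V' : X.Opens) (hx : x.1 ∈ V) (hx' : x.1 ∈ V') (m : Γ(L, V)) (m' : Γ(L, V')),
        L.presheaf.germ V x.1 hx m = L.presheaf.germ V' x.1 hx' m' → val x V hx m = val x V' hx' m' := by
      intro x V V' hx hx' m m' e
      obtain ⟨W, hxW, i, i', e'⟩ := TopCat.Presheaf.germ_eq L.presheaf x.1 hx hx' m m' e
      rw [hres x V W i.le hxW m, hres x V' W i'.le hxW m']
      exact congrArg _ e'
    choose V hV m hm using fun (x : U) (v : L.presheaf.stalk x.1) =>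
      TopCat.Presheaf.exists_germ_eq L.presheaf v
    have hval : ∀ (x : U) (W : X.Opens) (hx : x.1 ∈ W) (n : Γ(L, W)),
        val x (V x (L.presheaf.germ W x.1 hx n)) (hV x _) (m x _) = val x W hx n :=
      fun x W hx n => hwd x _ W _ hx _ n (hm x _)
    let T : ∀ x : U, RefHull.StalkHom L (Coh.structureModule X) x.1 := fun x =>
      { toFun := fun v => val x (V x v) (hV x v) (m x v)
        map_add' := fun a b => by
          have h1 := hres x (V x a) (V x a ⊓ V x b) inf_le_left (Opens.mem_inf.mpr ⟨hV x a, hV x b⟩) (m x a)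
          have h2 := hres x (V x b) (V x a ⊓ V x b) inf_le_right (Opens.mem_inf.mpr ⟨hV x a, hV x b⟩) (m x b)
          rw [h1, h2]
          have h3 : a + b = L.presheaf.germ (V x a ⊓ V x b) x.1 (Opens.mem_inf.mpr ⟨hV x a, hV x b⟩)
              (rs L inf_le_left (m x a) + rs L inf_le_right (m x b)) := by
            rw [map_add, germ_rs, germ_rs, hm, hm]
          conv_lhs => rw [h3]
          rw [hval]
          simp only [val, map_add]
          exact map_add ((Coh.structureModule X).presheaf.germ _ _ _).hom _ _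
        map_smul' := fun r a => by
          obtain ⟨W, hxW, r', hr⟩ := TopCat.Presheaf.exists_germ_eq X.presheaf r
          have h1 := hres x (V x a) (W ⊓ V x a) inf_le_right (Opens.mem_inf.mpr ⟨hxW, hV x a⟩) (m x a)
          rw [h1]
          have h3 : r • a = L.presheaf.germ (W ⊓ V x a) x.1 (Opens.mem_inf.mpr ⟨hxW, hV x a⟩)
              (rf (inf_le_left : W ⊓ V x a ≤ W) r' • rs L (inf_le_right : W ⊓ V x a ≤ V x a) (m x a)) := by
            rw [Mero.germ_smul, germ_rs, germ_rf, hr, hm]
          conv_lhs => rw [h3]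
          rw [hval, RingHom.id_apply]
          simp only [val, rs_smul, map_smul]
          refine (Mero.germ_smul (Coh.structureModule X) _ x.1 _ _ _).trans ?_
          rw [germ_rf, germ_rf, hr] }
    have hT : RefHull.IsLocSect L (Coh.structureModule X) (U := U) T := fun W i n y =>
      ⟨W, y.2, 𝟙 W, (show Γ(Coh.structureModule X, W) from φ.app i.le n), fun z => by
        refine (hval ⟨z.1, i.le z.2⟩ W z.2 n).trans ?_
        refine Eq.trans ?_ (germ_rs (inf_le_left : W ⊓ U ≤ W) (Opens.mem_inf.mpr ⟨z.2, i.le z.2⟩)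
          (show Γ(Coh.structureModule X, W) from φ.app i.le n))
        exact congrArg _ (φ.compat i.le inf_le_left n).symm⟩
    refine ⟨⟨T, hT⟩, DualSec.ext fun W hW n => sec_ext (M := Coh.structureModule X) fun y hy => ?_⟩
    refine (germ_app (⟨T, hT⟩ : Γ(RefHull.dual L, U)) hW n y hy).trans ?_
    refine (hval ⟨y, hW hy⟩ W hy n).trans ?_
    refine Eq.trans ?_ (germ_rs (inf_le_left : W ⊓ U ≤ W) (Opens.mem_inf.mpr ⟨hy, hW hy⟩)
      (show Γ(Coh.structureModule X, W) from φ.app hW n))
    exact congrArg _ (φ.compat hW inf_le_left n).symm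

instance isIso_comp : IsIso (comp L) :=
  Scheme.Modules.Hom.isIso_iff_isIso_app.mpr fun U =>
    (ConcreteCategory.isIso_iff_bijective _).mpr (bijective_toDualSec L U)

/-- The two duals agree. -/
def dualIso : RefHull.dual L ≅ TensorMod.Dual.dual L := asIso (comp L)

variable {L}

/-- Duals of invertible modules commute with pullback. -/
theorem nonempty_pullback_dual {Y : Scheme.{u}} (f : Y ⟶ X) (hL : PicF.IsInvertible L) :
    Nonempty (RefHull.dual ((Scheme.Modules.pullback f).obj L) ≅
      (Scheme.Modules.pullback f).obj (RefHull.dual L)) :=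
  ⟨dualIso _ ≪≫ Invertible.cancelRight (PicLoc.isInvertible_pullback f hL)
    (Basic.comm _ _ ≪≫ Invertible.tensorDualIso (PicLoc.isInvertible_pullback f hL) ≪≫
      (PicLoc.pullbackStructureIso f).symm ≪≫
      (Scheme.Modules.pullback f).mapIso ((Invertible.tensorDualIso hL).symm ≪≫ Basic.comm _ _ ≪≫
        Basic.tensorIso (dualIso L).symm (Iso.refl L)) ≪≫
      Pullback.pullbackTensorIso f (RefHull.dual L) L)⟩

end Groth.Agent.Lib.RefHull.DualComp
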