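import Groth.Agent.Lib.RefHull.Divisor
import Groth.Prelude.Def_MeroDiv
import Groth.Agent.Lib.TensorMod.Invertible

/-!
# The sheaf of a Weil divisor
-/

universe u

noncomputable section

open CategoryTheory AlgebraicGeometry TopologicalSpace Opposite

namespace Groth.Agent.Lib.RefHull.DivSheaf

open Groth.Agent.Lib Groth.Agent.Lib.TensorMod Groth.Agent.Lib.TensorMod.Dual SecHom Generic RankOne Ord Divisor

variable {X : Scheme.{u}} [IsIntegral X]

/-- The constant family with values in the function field. -/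
abbrev KFam (X : Scheme.{u}) [IsIntegral X] : X → Type u := fun _ => X.functionField

instance (x : X) : AddCommGroup (KFam X x) := inferInstanceAs (AddCommGroup X.functionField)

instance (x : X) : Module (X.presheaf.stalk x) (KFam X x) :=
  inferInstanceAs (Module (X.presheaf.stalk x) X.functionField)

variable [IsLocallyNoetherian X]

/-- `a` has order at least `-D` at `y` if `y` has codimension one. -/
def Cond (D : X → ℤ) (a : X.functionField) (y : X) : Prop :=
  Order.coheight y = 1 → a = 0 ∨ 0 ≤ Scheme.ord a y + D y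

/-- Locally constant functions into the function field with poles bounded by `D`. -/
def pred (D : X → ℤ) : TopCat.LocalPredicate (KFam X) where
  pred {U} f := ∀ x : U, ∃ (W : X.Opens) (_ : x.1 ∈ W) (j : W ≤ U) (a : X.functionField),
    (∀ y : W, f ⟨y.1, j y.2⟩ = a) ∧ ∀ y ∈ W, Cond D a y
  res {V U} i f h := fun x => by
    obtain ⟨W, hx, j, a, h1, h2⟩ := h ⟨x.1, i.le x.2⟩
    exact ⟨W ⊓ V, ⟨hx, x.2⟩, inf_le_right, a, fun y => h1 ⟨y.1, y.2.1⟩,
      fun y hy => h2 y hy.1⟩
  locality {U} f h := fun x => by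
    obtain ⟨V, hxV, i, h'⟩ := h x
    obtain ⟨W, hx, j, a, h1, h2⟩ := h' ⟨x.1, hxV⟩
    exact ⟨W, hx, j.trans i.le, a, h1, h2⟩

lemma cond_add (hX : Pi1.IsNormalScheme X) {D : X → ℤ} {a b : X.functionField} {y : X}
    (ha : Cond D a y) (hb : Cond D b y) : Cond D (a + b) y := fun hy => by
  rcases eq_or_ne a 0 with rfl | ha0
  · simpa using hb hy
  rcases eq_or_ne b 0 with rfl | hb0
  · simpa using ha hy
  rcases eq_or_ne (a + b) 0 with h0 | h0
  · exact Or.inl h0
  haveI := isDVR hX hy
  refine Or.inr ?_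
  have h1 := (ha hy).resolve_left ha0
  have h2 := (hb hy).resolve_left hb0
  have h3 := Scheme.ord_add (x := y) h0
  rcases le_total (Scheme.ord a y) (Scheme.ord b y) with hle | hle
  · rw [min_eq_left hle] at h3; omega
  · rw [min_eq_right hle] at h3; omega

lemma cond_smul (hX : Pi1.IsNormalScheme X) {D : X → ℤ} {a : X.functionField} {y : X}
    (r : X.presheaf.stalk y) (ha : Cond D a y) :
    Cond D (algebraMap (X.presheaf.stalk y) X.functionField r * a) y := fun hy => by
  rcases eq_or_ne (algebraMap (X.presheaf.stalk y) X.functionField r) 0 with h0 | h0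
  · exact Or.inl (by rw [h0, zero_mul])
  rcases ha hy with h | h
  · exact Or.inl (by rw [h, mul_zero])
  rcases eq_or_ne a 0 with rfl | ha0
  · exact Or.inl (mul_zero _)
  refine Or.inr ?_
  rw [Scheme.ord_mul h0 ha0]
  have := (mem_range_iff hX hy h0).mp ⟨r, rfl⟩
  omega

theorem isModPred (hX : Pi1.IsNormalScheme X) (D : X → ℤ) : Mero.IsModPred (pred D) := by
  refine ⟨fun U x => ⟨U, x.2, le_rfl, 0, fun _ => rfl, fun y _ _ => Or.inl rfl⟩, fun U f g hf hg x => ?_,
    fun U r f hf x => ?_⟩
  · obtain ⟨W, hx, j, a, h1, h2⟩ := hf x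
    obtain ⟨W', hx', j', b, h1', h2'⟩ := hg x
    exact ⟨W ⊓ W', ⟨hx, hx'⟩, inf_le_left.trans j, a + b,
      fun y => congrArg₂ (· + ·) (h1 ⟨y.1, y.2.1⟩) (h1' ⟨y.1, y.2.2⟩),
      fun y hy => cond_add hX (h2 y hy.1) (h2' y hy.2)⟩
  · obtain ⟨W, hx, j, a, h1, h2⟩ := hf x
    have hη : genericPoint ↥X ∈ U := (spec x.1).mem_open U.isOpen x.2
    refine ⟨W, hx, j, X.presheaf.germ U _ hη r * a, fun y => ?_, fun y hy => ?_⟩
    · change algebraMap (X.presheaf.stalk y.1) X.functionField (X.presheaf.germ U y.1 (j y.2) r) *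
        f ⟨y.1, j y.2⟩ = _
      rw [h1 y, algebraMap_germ]
    · have := cond_smul hX (X.presheaf.germ U y (j hy) r) (h2 y hy)
      rwa [algebraMap_germ] at this

/-- The sheaf `O(D)` of a Weil divisor. -/
def divSh (hX : Pi1.IsNormalScheme X) (D : X → ℤ) : X.Modules :=
  haveI := isModPred hX D
  Mero.modOf (pred D)

variable {hX : Pi1.IsNormalScheme X} {D : X → ℤ}

lemma sec_const {U : X.Opens} (s : Γ(divSh hX D, U)) (hη : genericPoint ↥X ∈ U) (x : U) :
    s.1 x = s.1 ⟨_, hη⟩ := by
  obtain ⟨W, hx, j, a, h1, -⟩ := s.2 x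
  exact (h1 ⟨x.1, hx⟩).trans (h1 ⟨_, (spec x.1).mem_open W.isOpen hx⟩).symm

lemma sec_cond {U : X.Opens} (s : Γ(divSh hX D, U)) (y : U) : Cond D (s.1 y) y.1 := by
  obtain ⟨W, hx, j, a, h1, h2⟩ := s.2 y
  rw [show s.1 y = a from h1 ⟨y.1, hx⟩]
  exact h2 _ hx

lemma val_smul {U : X.Opens} (r : Γ(X, U)) (s : Γ(divSh hX D, U)) (y : U) :
    (r • s).1 y = ((algebraMap (X.presheaf.stalk y.1) X.functionField
      (X.presheaf.germ U y.1 y.2 r) * (show X.functionField from s.1 y) : X.functionField)) := rfl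

/-- The constant section with value `a`. -/
def mkSec (a : X.functionField) {U : X.Opens} (h : ∀ y ∈ U, Cond D a y) : Γ(divSh hX D, U) :=
  ⟨fun _ => a, fun x => ⟨U, x.2, le_rfl, a, fun _ => rfl, h⟩⟩

@[simp] lemma mkSec_apply (a : X.functionField) {U : X.Opens} (h : ∀ y ∈ U, Cond D a y) (y : U) :
    (mkSec (hX := hX) a h).1 y = a := rfl

variable (hX D) in
/-- The cocone of values at the generic point. -/
def valCocone (x : X) : Limits.Cocone ((OpenNhds.inclusion x).op ⋙ (divSh hX D).presheaf) where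
  pt := AddCommGrpCat.of X.functionField
  ι :=
    { app := fun V => AddCommGrpCat.ofHom
        { toFun := fun g => (g : Γ(divSh hX D, V.unop.1)).1 ⟨x, V.unop.2⟩
          map_zero' := rfl
          map_add' := fun _ _ => rfl }
      naturality := fun V W i => by ext g; rfl }

variable (hX D) in
/-- The value of a germ of `O(D)`. -/
def valAt (x : X) : (divSh hX D).presheaf.stalk x →+ X.functionField :=
  (Limits.colimit.desc _ (valCocone hX D x)).hom

lemma valAt_germ {U : X.Opens} (x : X) (hx : x ∈ U) (s : Γ(divSh hX D, U)) :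
    valAt hX D x ((divSh hX D).presheaf.germ U x hx s) = s.1 ⟨x, hx⟩ := by
  change ((divSh hX D).presheaf.germ U x hx ≫ Limits.colimit.desc _ (valCocone hX D x)).hom s = _
  have e : (divSh hX D).presheaf.germ U x hx ≫ Limits.colimit.desc _ (valCocone hX D x) =
      (valCocone hX D x).ι.app (op ⟨U, hx⟩) := Limits.colimit.ι_desc _ _
  rw [e]
  rfl

lemma valAt_smul (x : X) (r : X.presheaf.stalk x) (v : (divSh hX D).presheaf.stalk x) :
    valAt hX D x (r • v) = algebraMap (X.presheaf.stalk x) X.functionField r * valAt hX D x v := by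
  obtain ⟨U, hx, a, m, rfl, rfl⟩ := Modules.StalkModule.exists_germ_eq₂ r v
  rw [← Mero.germ_smul, valAt_germ, valAt_germ]
  rfl

lemma valAt_toGen (x : X) (v : (divSh hX D).presheaf.stalk x) :
    valAt hX D (genericPoint ↥X) (toGen (divSh hX D) x v) = valAt hX D x v := by
  obtain ⟨U, hx, s, rfl⟩ := TopCat.Presheaf.exists_germ_eq (divSh hX D).presheaf v
  rw [toGen_germ, valAt_germ, valAt_germ]
  exact (sec_const s ((spec x).mem_open U.isOpen hx) ⟨x, hx⟩).symm

theorem valAt_injective (x : X) : Function.Injective (valAt hX D x) := by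
  rw [injective_iff_map_eq_zero]
  intro v hv
  obtain ⟨U, hx, s, rfl⟩ := TopCat.Presheaf.exists_germ_eq (divSh hX D).presheaf v
  rw [valAt_germ] at hv
  have hη := (spec x).mem_open U.isOpen hx
  have : s = 0 := Subtype.ext <| funext fun y => by
    rw [sec_const s hη y, ← sec_const s hη ⟨x, hx⟩, hv]
    rfl
  rw [this, map_zero]

theorem toGen_injective (x : X) : Function.Injective (toGen (divSh hX D) x) := fun a b h =>
  valAt_injective x (by rw [← valAt_toGen, h, valAt_toGen])

/-- A divisor: finitely many codimension one points with nonzero value on each affine open. -/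
def IsDiv (D : X → ℤ) : Prop :=
  ∀ U : X.Opens, IsAffineOpen U → {y : X | y ∈ U ∧ Order.coheight y = 1 ∧ D y ≠ 0}.Finite

theorem IsDiv.neg (hD : IsDiv D) : IsDiv (fun y => - D y) := fun U hU =>
  (hD U hU).subset fun y ⟨h1, h2, h3⟩ => ⟨h1, h2, fun h => h3 (by simp [h])⟩

theorem isDiv_cycle (D : AlgebraicCycle X ℤ) : IsDiv (fun x => D x) := fun U hU => by
  have hc : IsCompact (U : Set X) := hU.isCompact
  have hf : ((U : Set X) ∩ Function.support D).Finite :=
    (Function.locallyFinsupp.locallyFiniteSupport D).finite_inter_support_of_isCompact hc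
  exact hf.subset fun y ⟨h1, _, h3⟩ => ⟨h1, h3⟩

include hX in
theorem finite_ord_ne_zero {a : X.functionField} (ha : a ≠ 0) {U : X.Opens} (hU : IsAffineOpen U) :
    {y : X | y ∈ U ∧ Order.coheight y = 1 ∧ Scheme.ord a y ≠ 0}.Finite := by
  obtain ⟨V, hV, f, rfl⟩ := TopCat.Presheaf.exists_germ_eq X.presheaf a
  have hfη : genericPoint ↥X ∈ X.basicOpen f :=
    (X.mem_basicOpen f _ hV).mpr (isUnit_iff_ne_zero.mpr ha)
  refine (finite_not_mem hU hfη).subset fun y ⟨hyU, hy1, hy⟩ => ⟨hyU, hy1, fun hyf => hy ?_⟩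
  have hyV : y ∈ V := X.basicOpen_le f hyf
  rw [← algebraMap_germ hyV f]
  exact ord_of_isUnit hX hy1 ((X.mem_basicOpen f y hyV).mp hyf)

include hX in
theorem finite_not_cond (hD : IsDiv D) (a : X.functionField) {U : X.Opens} (hU : IsAffineOpen U) :
    {y : X | y ∈ U ∧ ¬ Cond D a y}.Finite := by
  rcases eq_or_ne a 0 with rfl | ha
  · exact Set.Finite.subset Set.finite_empty fun y ⟨_, hy⟩ => hy fun _ => Or.inl rfl
  refine ((finite_ord_ne_zero (hX := hX) ha hU).union (hD U hU)).subset fun y ⟨hyU, hy⟩ => ?_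
  have hy1 : Order.coheight y = 1 := by by_contra h; exact hy fun h' => absurd h' h
  by_cases ho : Scheme.ord a y = 0
  · exact Or.inr ⟨hyU, hy1, fun hd => hy fun _ => Or.inr (by omega)⟩
  · exact Or.inl ⟨hyU, hy1, ho⟩

/-- The value of a germ satisfies the conditions at all generizations. -/
theorem cond_valAt (x : X) (v : (divSh hX D).presheaf.stalk x) {y : X} (hy : y ⤳ x) :
    Cond D (valAt hX D x v) y := by
  obtain ⟨U, hx, s, rfl⟩ := TopCat.Presheaf.exists_germ_eq (divSh hX D).presheaf v
  rw [valAt_germ, sec_const s ((spec x).mem_open U.isOpen hx) ⟨x, hx⟩,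
    ← sec_const s ((spec x).mem_open U.isOpen hx) ⟨y, hy.mem_open U.isOpen hx⟩]
  exact sec_cond s _

theorem exists_valAt_eq (hD : IsDiv D) (x : X) (a : X.functionField)
    (h : ∀ y : X, y ⤳ x → Cond D a y) : ∃ v, valAt hX D x v = a := by
  obtain ⟨U, hU, hxU, -⟩ := exists_isAffineOpen_mem_and_subset (X := X) (x := x) (Opens.mem_top x)
  have hfin := finite_not_cond (hX := hX) hD a hU
  have hC : IsClosed (⋃ y ∈ {y : X | y ∈ U ∧ ¬ Cond D a y}, closure ({y} : Set X)) :=
    hfin.isClosed_biUnion fun y _ => isClosed_closure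
  let W : X.Opens := ⟨(U : Set X) ∩ (⋃ y ∈ {y : X | y ∈ U ∧ ¬ Cond D a y}, closure ({y} : Set X))ᶜ,
    U.isOpen.inter hC.isOpen_compl⟩
  have hxW : x ∈ W := ⟨hxU, fun hmem => by
    simp only [Set.mem_iUnion] at hmem
    obtain ⟨y, hy, hyx⟩ := hmem
    exact hy.2 (h y (specializes_iff_mem_closure.mpr hyx))⟩
  refine ⟨(divSh hX D).presheaf.germ W x hxW (mkSec a fun y hy => ?_), by rw [valAt_germ]; rfl⟩
  by_contra hc
  exact hy.2 (Set.mem_biUnion (show y ∈ {y : X | y ∈ U ∧ ¬ Cond D a y} from ⟨hy.1, hc⟩)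
    (subset_closure rfl))

/-- Functions in all the local rings of an open are functions on the open. -/
theorem exists_function {V : X.Opens} (hη : genericPoint ↥X ∈ V) (a : X.functionField)
    (h : ∀ x ∈ V, ∃ r, algebraMap (X.presheaf.stalk x) X.functionField r = a) :
    ∃ r : Γ(X, V), X.presheaf.germ V _ hη r = a := by
  have hloc : ∀ x : V, ∃ (W : X.Opens) (_ : x.1 ∈ W) (j : W ≤ V) (r : Γ(X, W)),
      ∀ hW : genericPoint ↥X ∈ W, X.presheaf.germ W _ hW r = a := fun x => by
    obtain ⟨r, hr⟩ := h x.1 x.2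
    obtain ⟨W, hxW, r', rfl⟩ := TopCat.Presheaf.exists_germ_eq X.presheaf r
    refine ⟨W ⊓ V, ⟨hxW, x.2⟩, inf_le_right, rf inf_le_left r', fun hW => ?_⟩
    rw [germ_rf, ← hr, algebraMap_germ]
  choose W hxW j r hr using hloc
  have comp : TopCat.Presheaf.IsCompatible X.presheaf W r := fun x x' => by
    rcases Set.eq_empty_or_nonempty ((W x ⊓ W x' : X.Opens) : Set X) with he | ⟨z, hz⟩
    · refine TopCat.Presheaf.section_ext X.sheaf _ _ _ fun y hy => ?_
      exact absurd (show y ∈ ((W x ⊓ W x' : X.Opens) : Set X) from hy) (by rw [he]; exact id)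
    · have hW : genericPoint ↥X ∈ W x ⊓ W x' := (spec z).mem_open (W x ⊓ W x').isOpen hz
      refine germ_injective_of_isIntegral (X := X) _ hW ?_
      erw [TopCat.Presheaf.germ_res_apply, TopCat.Presheaf.germ_res_apply]
      rw [hr x hW.1, hr x' hW.2]
  obtain ⟨s, hs, -⟩ := TopCat.Sheaf.existsUnique_gluing' X.sheaf W V (fun x => homOfLE (j x))
    (fun y hy => Opens.mem_iSup.mpr ⟨⟨y, hy⟩, hxW ⟨y, hy⟩⟩) r comp
  refine ⟨s, ?_⟩
  have hW := (spec (genericPoint ↥X)).mem_open (W ⟨_, hη⟩).isOpen (hxW ⟨_, hη⟩)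
  rw [← hr ⟨_, hη⟩ hW, ← hs ⟨_, hη⟩]
  erw [TopCat.Presheaf.germ_res_apply]

theorem isQCoh (hD : IsDiv D) : (divSh hX D).IsQuasicoherent := by
  refine QCoh.Localizing.isQCoh_of_forall_exists_localizes fun x => ?_
  obtain ⟨U, hU, hx, -⟩ := exists_isAffineOpen_mem_and_subset (X := X) (x := x) (Opens.mem_top x)
  refine ⟨U, hU, hx, fun f => ⟨fun s => ?_, fun t ht => ?_⟩⟩
  · classical
    by_cases hemp : genericPoint ↥X ∈ X.basicOpen f
    · set a := s.1 ⟨_, hemp⟩ with ha
      have hfin := finite_not_cond (hX := hX) hD a hU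
      have hη : genericPoint ↥X ∈ U := X.basicOpen_le f hemp
      let φ : X.functionField := X.presheaf.germ U _ hη f
      have hφ : φ ≠ 0 := ((X.mem_basicOpen f _ hη).mp hemp).ne_zero
      obtain ⟨n, hn⟩ : ∃ n : ℕ, ∀ y, y ∈ U → ¬ Cond D a y → -(Scheme.ord a y + D y) ≤ n := by
        refine ⟨hfin.toFinset.sup fun y => (-(Scheme.ord a y + D y)).toNat, fun y hy hc => ?_⟩
        exact (Int.self_le_toNat _).trans (by
          exact_mod_cast Finset.le_sup (f := fun y => (-(Scheme.ord a y + D y)).toNat)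
            (hfin.mem_toFinset.mpr ⟨hy, hc⟩))
      have hgood : ∀ y ∈ U, Cond D (φ ^ n * a) y := fun y hy => by
        by_cases hc : Cond D a y
        · have := cond_smul hX ((X.presheaf.germ U y hy f) ^ n) hc
          rwa [map_pow, algebraMap_germ] at this
        · intro hy1
          have ha0 : a ≠ 0 := fun h => hc fun _ => Or.inl h
          have hyf : y ∉ X.basicOpen f := fun h => hc (by
            rw [ha, ← sec_const s hemp ⟨y, h⟩]; exact sec_cond s ⟨y, h⟩)
          have hord : ∀ m : ℕ, (m : ℤ) ≤ Scheme.ord (φ ^ m) y := fun m => by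
            induction m with
            | zero => rw [pow_zero, ord_one]; rfl
            | succ m ih =>
              rw [pow_succ, Scheme.ord_mul (pow_ne_zero _ hφ) hφ]
              have hφy : φ = algebraMap (X.presheaf.stalk y) X.functionField (X.presheaf.germ U y hy f) :=
                (algebraMap_germ hy f).symm
              have hne : X.presheaf.germ U y hy f ≠ 0 := fun h => hφ (by rw [hφy, h, map_zero])
              have h1 : Scheme.ord φ y ≠ 0 := fun h0 => by
                rw [hφy, ← Ord.isUnit_iff hX hy1 hne, ← X.mem_basicOpen f y hy] at h0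
                exact hyf h0
              have h2 : 0 ≤ Scheme.ord φ y := (Ord.mem_range_iff hX hy1 hφ).mp ⟨_, hφy.symm⟩
              push_cast
              omega
          refine Or.inr ?_
          rw [Scheme.ord_mul (pow_ne_zero _ hφ) ha0]
          have := hn y hy hc
          have := hord n
          omega
      refine ⟨n, mkSec (φ ^ n * a) hgood, Subtype.ext <| funext fun y => ?_⟩
      change φ ^ n * a = algebraMap (X.presheaf.stalk y.1) X.functionField
        (X.presheaf.germ _ y.1 y.2 ((X.presheaf.map (homOfLE (X.basicOpen_le f)).op f) ^ n)) * s.1 y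
      rw [map_pow, map_pow, TopCat.Presheaf.germ_res_apply, algebraMap_germ, sec_const s hemp y]
    · refine ⟨0, 0, Subtype.ext <| funext fun y => absurd ?_ hemp⟩
      exact (spec y.1).mem_open (X.basicOpen f).isOpen y.2
  · by_cases hemp : genericPoint ↥X ∈ X.basicOpen f
    · refine ⟨0, ?_⟩
      rw [pow_zero, one_smul]
      refine Subtype.ext <| funext fun y => ?_
      rw [sec_const t (X.basicOpen_le f hemp) y]
      exact congrFun (congrArg Subtype.val ht) ⟨_, hemp⟩
    · refine ⟨1, Subtype.ext <| funext fun y => ?_⟩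
      have hη : genericPoint ↥X ∈ U := (spec y.1).mem_open U.isOpen y.2
      have h0 : X.presheaf.germ U _ hη f = 0 := by
        by_contra h
        exact hemp ((X.mem_basicOpen f _ hη).mpr (isUnit_iff_ne_zero.mpr h))
      change algebraMap (X.presheaf.stalk y.1) X.functionField (X.presheaf.germ U y.1 y.2 (f ^ 1)) *
        t.1 y = 0
      rw [pow_one, algebraMap_germ, h0, zero_mul]

/-- Some function on an affine open vanishes to order at least `D` everywhere on it. -/
theorem exists_bound (hX : Pi1.IsNormalScheme X) (hD : IsDiv D) {U : X.Opens} (hU : IsAffineOpen U)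
    (hη : genericPoint ↥X ∈ U) :
    ∃ b : Γ(X, U), X.presheaf.germ U _ hη b ≠ 0 ∧ ∀ y ∈ U, Order.coheight y = 1 →
      D y ≤ Scheme.ord (X.presheaf.germ U _ hη b : X.functionField) y := by
  classical
  have hstep : ∀ T : Finset X, (∀ y ∈ T, y ∈ U ∧ Order.coheight y = 1) →
      ∃ b : Γ(X, U), X.presheaf.germ U _ hη b ≠ 0 ∧
        (∀ y ∈ T, D y ≤ Scheme.ord (X.presheaf.germ U _ hη b : X.functionField) y) := by
    intro T
    induction T using Finset.induction_on with
    | empty => exact fun _ => ⟨1, by rw [map_one]; exact one_ne_zero, by simp⟩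
    | insert y T hy ih =>
      intro hT
      obtain ⟨b, hb, hbT⟩ := ih fun z hz => hT z (Finset.mem_insert_of_mem hz)
      obtain ⟨hyU, hy1⟩ := hT y (Finset.mem_insert_self _ _)
      haveI : Nonempty U := ⟨⟨y, hyU⟩⟩
      obtain ⟨g, hg, hg0⟩ : ∃ g ∈ (hU.primeIdealOf ⟨y, hyU⟩).asIdeal, g ≠ 0 := by
        refine Submodule.exists_mem_ne_zero_of_ne_bot fun h => ?_
        have h2 := Ideal.Prime.ringKrullDim_stalk_eq_height hU hyU
        rw [dim_eq_one_iff.mpr hy1, h, Ideal.height_bot] at h2
        exact one_ne_zero (h2 : (1 : WithBot ℕ∞) = _)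
      set γ : X.functionField := X.presheaf.germ U _ hη g
      have hγ : γ ≠ 0 := fun h => hg0 (germ_injective_of_isIntegral (X := X) _ hη (h.trans (map_zero _).symm))
      have hord0 : ∀ z ∈ U, Order.coheight z = 1 → ∀ c : Γ(X, U), X.presheaf.germ U _ hη c ≠ 0 →
          0 ≤ Scheme.ord (X.presheaf.germ U _ hη c : X.functionField) z := fun z hz hz1 c hc =>
        (Ord.mem_range_iff hX hz1 hc).mp ⟨_, algebraMap_germ hz c⟩
      have hne : X.presheaf.germ U y hyU g ≠ 0 := fun h => hg0
        (germ_injective_of_isIntegral (X := X) _ hyU (h.trans (map_zero _).symm))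
      have hgy : 1 ≤ Scheme.ord γ y := by
        rcases (hord0 y hyU hy1 g hγ).lt_or_eq with h | h
        · exact h
        · exfalso
          have h' : Scheme.ord (algebraMap (X.presheaf.stalk y) X.functionField
              (X.presheaf.germ U y hyU g)) y = 0 := by rw [algebraMap_germ]; exact h.symm
          rw [← Ord.isUnit_iff hX hy1 hne, ← X.mem_basicOpen g y hyU] at h'
          have e : hU.primeIdealOf ⟨y, hyU⟩ ∈ hU.fromSpec ⁻¹ᵁ X.basicOpen g := by
            show hU.fromSpec _ ∈ X.basicOpen g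
            rw [hU.fromSpec_primeIdealOf]; exact h'
          rw [hU.fromSpec_preimage_basicOpen] at e
          exact (PrimeSpectrum.mem_basicOpen _ _).mp e hg
      have hpow : ∀ m : ℕ, ∀ z, Scheme.ord (γ ^ m) z = m * Scheme.ord γ z := fun m z => by
        induction m with
        | zero => rw [pow_zero, ord_one]; simp
        | succ m ih => rw [pow_succ, Scheme.ord_mul (pow_ne_zero _ hγ) hγ, ih]; push_cast; ring
      refine ⟨g ^ (D y).toNat * b, by rw [map_mul, map_pow]; exact mul_ne_zero (pow_ne_zero _ hγ) hb,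
        fun z hz => ?_⟩
      rw [map_mul, map_pow, Scheme.ord_mul (pow_ne_zero _ hγ) hb, hpow]
      rcases Finset.mem_insert.mp hz with rfl | hz'
      · have h1 := hord0 z hyU hy1 b hb
        have h2 : ((D z).toNat : ℤ) * 1 ≤ (D z).toNat * Scheme.ord γ z :=
          mul_le_mul_of_nonneg_left hgy (Int.natCast_nonneg _)
        have h3 := Int.self_le_toNat (D z)
        omega
      · obtain ⟨hzU, hz1⟩ := hT z hz
        have h1 : 0 ≤ ((D y).toNat : ℤ) * Scheme.ord γ z :=
          mul_nonneg (Int.natCast_nonneg _) (hord0 z hzU hz1 g hγ)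
        have h2 := hbT z hz'
        omega
  obtain ⟨b, hb, hbT⟩ := hstep (hD U hU).toFinset fun y hy =>
    ⟨((hD U hU).mem_toFinset.mp hy).1, ((hD U hU).mem_toFinset.mp hy).2.1⟩
  refine ⟨b, hb, fun y hy hy1 => ?_⟩
  by_cases h0 : D y = 0
  · rw [h0]
    exact (Ord.mem_range_iff hX hy1 hb).mp ⟨_, algebraMap_germ hy b⟩
  · exact hbT y ((hD U hU).mem_toFinset.mpr ⟨hy, hy1, h0⟩)

theorem isCoh (hD : IsDiv D) : Coh.IsCoh (divSh hX D) := by
  haveI := isQCoh (hX := hX) hD
  refine CohBasics.Closure.isCoh_of_finite_sections fun U hU => ?_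
  by_cases hη : genericPoint ↥X ∈ U
  swap
  · haveI : Subsingleton Γ(divSh hX D, U) :=
      ⟨fun s t => Subtype.ext <| funext fun y => absurd ((spec y.1).mem_open U.isOpen y.2) hη⟩
    infer_instance
  haveI : IsNoetherianRing Γ(X, U) := IsLocallyNoetherian.component_noetherian ⟨U, hU⟩
  obtain ⟨b, hb, hbD⟩ := exists_bound hX hD hU hη
  have hex : ∀ s : Γ(divSh hX D, U), ∃ c : Γ(X, U),
      X.presheaf.germ U _ hη c = X.presheaf.germ U _ hη b * s.1 ⟨_, hη⟩ := fun s => by
    refine exists_function hη _ fun x hx => mem_range_of_codim_one hX x _ fun y hyx hy => ?_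
    have hyU := hyx.mem_open U.isOpen hx
    have hy1 := dim_eq_one_iff.mp hy
    rcases eq_or_ne (s.1 ⟨_, hη⟩) 0 with h0 | h0
    · exact ⟨0, by rw [h0, mul_zero, map_zero]⟩
    · rw [Ord.mem_range_iff hX hy1 (mul_ne_zero hb h0), Scheme.ord_mul hb h0]
      have h1 := hbD y hyU hy1
      have h2 := ((sec_cond s ⟨y, hyU⟩) hy1).resolve_left (by rw [sec_const s hη]; exact h0)
      rw [sec_const s hη] at h2
      dsimp only at h2
      omega
  choose c hc using hex
  have hinj : Function.Injective (X.presheaf.germ U _ hη) := germ_injective_of_isIntegral (X := X) _ hη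
  let Φ : Γ(divSh hX D, U) →ₗ[Γ(X, U)] Γ(X, U) :=
    { toFun := c
      map_add' := fun s t => hinj (by rw [map_add, hc, hc, hc, ← mul_add]; rfl)
      map_smul' := fun r s => hinj (by
        rw [RingHom.id_apply, hc, smul_eq_mul, map_mul, hc, val_smul, algebraMap_germ]
        exact mul_left_comm _ _ _) }
  refine Module.Finite.of_injective Φ fun s t hst => Subtype.ext <| funext fun y => ?_
  rw [sec_const s hη, sec_const t hη]
  have h := congrArg (X.presheaf.germ U _ hη) hst
  change X.presheaf.germ U _ hη (c s) = X.presheaf.germ U _ hη (c t) at h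
  rw [hc, hc] at h
  exact mul_left_cancel₀ hb h

theorem isInvertible_structure {Y : Scheme.{u}} : PicF.IsInvertible (Coh.structureModule Y) :=
  Gen.isInvertible_iff.mpr fun _ => ⟨⊤, Gen.one Y ⊤, trivial, fun V h => by
    have e : rs (Coh.structureModule Y) h (Gen.one Y ⊤) = Gen.one Y V :=
      map_one (Y.presheaf.map (homOfLE h).op).hom
    rw [e]
    have e2 : (fun a : Γ(Y, V) => a • Gen.one Y V) = fun a => (show Γ(Coh.structureModule Y, V) from a) :=
      funext fun a => (Gen.smul_one_eq a).symm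
    rw [e2]
    exact Function.bijective_id⟩

theorem genInvertible (hD : IsDiv D) : RefHull.GenInvertible (divSh hX D) := by
  obtain ⟨U, hU, hηU, -⟩ := exists_isAffineOpen_mem_and_subset (X := X) (x := genericPoint ↥X)
    (Opens.mem_top _)
  have hfin := hD U hU
  have hC : IsClosed (⋃ y ∈ {y : X | y ∈ U ∧ Order.coheight y = 1 ∧ D y ≠ 0}, closure ({y} : Set X)) :=
    hfin.isClosed_biUnion fun y _ => isClosed_closure
  let O : X.Opens := ⟨(U : Set X) ∩
    (⋃ y ∈ {y : X | y ∈ U ∧ Order.coheight y = 1 ∧ D y ≠ 0}, closure ({y} : Set X))ᶜ,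
    U.isOpen.inter hC.isOpen_compl⟩
  have hηO : genericPoint ↥X ∈ O := ⟨hηU, fun hmem => by
    simp only [Set.mem_iUnion] at hmem
    obtain ⟨y, hy, hyx⟩ := hmem
    have := dim_eq_one_iff.mpr hy.2.1
    rw [(specializes_iff_mem_closure.mpr hyx).antisymm (spec y) |>.eq,
      ringKrullDim_eq_zero_of_isField (Field.toIsField X.functionField)] at this
    exact zero_ne_one this⟩
  have hO : ∀ y ∈ O, Order.coheight y = 1 → D y = 0 := fun y hy hy1 => by
    by_contra h
    exact hy.2 (Set.mem_biUnion (show y ∈ {y : X | y ∈ U ∧ Order.coheight y = 1 ∧ D y ≠ 0} from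
      ⟨hy.1, hy1, h⟩) (subset_closure rfl))
  let e : Γ(divSh hX D, O) := mkSec 1 fun y hy hy1 => Or.inr (by rw [ord_one, hO y hy hy1]; simp)
  refine ⟨O, O.isOpen.dense ⟨_, hηO⟩, Gen.isInvertible_iff.mpr fun z => ?_⟩
  have hgen : Gen.IsGen (divSh hX D) O e := fun V hV => by
    by_cases hη : genericPoint ↥X ∈ V
    · constructor
      · intro a b hab
        have h := congrFun (congrArg Subtype.val hab) ⟨_, hη⟩
        dsimp only at h
        rw [val_smul, val_smul, algebraMap_germ, algebraMap_germ] at h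
        exact germ_injective_of_isIntegral (X := X) _ hη
          (((mul_one _).symm.trans h).trans (mul_one _))
      · intro s
        obtain ⟨r, hr⟩ := exists_function hη (s.1 ⟨_, hη⟩) fun x hx =>
          mem_range_of_codim_one hX x _ fun y hyx hy => by
            have hyV := hyx.mem_open V.isOpen hx
            have hy1 := dim_eq_one_iff.mp hy
            rcases eq_or_ne (s.1 ⟨_, hη⟩) 0 with h0 | h0
            · exact ⟨0, by rw [h0, map_zero]⟩
            · rw [Ord.mem_range_iff hX hy1 h0]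
              have h2 := ((sec_cond s ⟨y, hyV⟩) hy1).resolve_left (by rw [sec_const s hη]; exact h0)
              rw [sec_const s hη, hO y (hV hyV) hy1] at h2
              dsimp only at h2
              omega
        refine ⟨r, Subtype.ext <| funext fun y => ?_⟩
        change algebraMap (X.presheaf.stalk y.1) X.functionField (X.presheaf.germ V y.1 y.2 r) * 1 = _
        rw [mul_one, algebraMap_germ, hr, sec_const s hη y]
    · have : IsEmpty V := ⟨fun y => hη ((spec y.1).mem_open V.isOpen y.2)⟩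
      constructor
      · intro a b _
        exact TopCat.Presheaf.section_ext X.sheaf V a b fun y hy => this.elim ⟨y, hy⟩
      · exact fun s => ⟨0, Subtype.ext <| funext fun y => this.elim y⟩
  obtain ⟨i⟩ := Gen.exists_iso_of_gen hgen
  exact Gen.isInvertible_iff.mp (Invertible.isInvertible_of_iso i.symm isInvertible_structure) z

end Groth.Agent.Lib.RefHull.DivSheaf
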