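import Groth.Agent.Lib.RefHull.Group
import Groth.Prelude.Def_RefPow

/-!
# Reflexive powers of a rank one reflexive module and a section
-/

universe u

noncomputable section

open CategoryTheory AlgebraicGeometry TopologicalSpace Opposite

namespace Groth.Agent.Lib.RefHull.Pow

open Groth.Agent.Lib Groth.Agent.Lib.TensorMod Groth.Agent.Lib.TensorMod.Dual SecHom Generic RankOne Ord Divisor DivSheaf Tensor DivRef

variable {X : Scheme.{u}} {F : X.Modules} (s : Coh.structureModule X ⟶ F)

/-- The sections named by a morphism out of `O_X`. -/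
def sec {G : X.Modules} (t : Coh.structureModule X ⟶ G) (U : X.Opens) : Γ(G, U) :=
  t.app U (Gen.one X U)

/-- The germ of the section `s`. -/
def sGerm (x : X) : F.presheaf.stalk x :=
  F.presheaf.germ ⊤ x (Opens.mem_top x) (sec s ⊤)

lemma sGerm_val (x : X) : sGerm s x = F.presheaf.germ ⊤ x trivial (SecTwist.val s ⊤) := rfl

lemma sPowGerm_def (n : ℕ) (x : X) : RefPow.sPowGerm s n x =
    (RefPow.refPow F n).presheaf.germ ⊤ x (Opens.mem_top x) (sec (RefPow.sPow s n) ⊤) := rfl

lemma sGerm_eq (x : X) : sGerm s x = RefHull.stalkMapₗ s x (AssPt.Basic.unitStalkEquiv x 1) := by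
  refine ((RefHull.stalkMapₗ_germ s (U := ⊤) x (Opens.mem_top x) (Gen.one X ⊤)).symm.trans ?_)
  exact congrArg _ (one_smul (X.presheaf.stalk x) _).symm

lemma bijective_iff (x : X) :
    Function.Bijective (RefHull.stalkMapₗ s x) ↔
      Function.Bijective fun a : X.presheaf.stalk x => a • sGerm s x := by
  have e : (fun a : X.presheaf.stalk x => a • sGerm s x) =
      RefHull.stalkMapₗ s x ∘ AssPt.Basic.unitStalkEquiv x := funext fun a => by
    rw [sGerm_eq, ← map_smul, ← map_smul, smul_eq_mul, mul_one]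
    rfl
  rw [e, Function.Bijective.of_comp_iff _ (AssPt.Basic.unitStalkEquiv x).bijective]

lemma sec_sPow_succ (n : ℕ) (U : X.Opens) :
    sec (RefPow.sPow s (n + 1)) U = (RefPow.mulBy s n).app U (sec (RefPow.sPow s n) U) := by
  rw [sec, RefPow.sPow_succ, Scheme.Modules.Hom.comp_app]
  rfl

lemma sPowGerm_succ_succ (n : ℕ) (x : X) :
    RefPow.sPowGerm s (n + 2) x =
      RefHull.stalkMapₗ (RefHull.bidualMap (CohB1.tensorMod (RefPow.refPow F (n + 1)) F)) x
        (pair x (RefPow.sPowGerm s (n + 1) x) (sGerm s x)) := by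
  rw [sPowGerm_def, sPowGerm_def, sGerm, pair_germ, sec_sPow_succ]
  refine Eq.trans ?_ (RefHull.stalkMapₗ_germ (RefHull.bidualMap _) x (Opens.mem_top x) _).symm
  exact congrArg _ (RefPow.mulBy_succ_app s n ⊤ _)

lemma sPowGerm_one (x : X) : RefPow.sPowGerm s 1 x = sGerm s x := by
  rw [sPowGerm_def, RefPow.sPow_one]
  rfl

lemma stalkMap_mulBy (n : ℕ) (x : X) :
    RefHull.stalkMapₗ (RefPow.mulBy s n) x (RefPow.sPowGerm s n x) = RefPow.sPowGerm s (n + 1) x := by
  rw [sPowGerm_def, sPowGerm_def, RefHull.stalkMapₗ_germ, sec_sPow_succ]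

variable [IsIntegral X]

lemma toGen_sGerm (x : X) : toGen F x (sGerm s x) = sGerm s (genericPoint ↥X) :=
  toGen_germ (F := F) (U := ⊤) (x := x) (Opens.mem_top x) _

lemma toGen_sPowGerm (n : ℕ) (x : X) :
    toGen (RefPow.refPow F n) x (RefPow.sPowGerm s n x) = RefPow.sPowGerm s n (genericPoint ↥X) :=
  toGen_germ (F := RefPow.refPow F n) (U := ⊤) (x := x) (Opens.mem_top x) _

variable [IsLocallyNoetherian X]

/-- The divisor of the section. -/
def E (y : X) : ℤ := secOrd F (sGerm s (genericPoint ↥X)) y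

variable (hX : Pi1.IsNormalScheme X) (hF : RefHull.IsRef1 F)

include hX hF in
theorem pow_spec (hs : sGerm s (genericPoint ↥X) ≠ 0) : ∀ n : ℕ,
    RefHull.IsRef1 (RefPow.refPow F n) ∧ RefPow.sPowGerm s n (genericPoint ↥X) ≠ 0 ∧
      ∀ y : X, Order.coheight y = 1 →
        secOrd (RefPow.refPow F n) (RefPow.sPowGerm s n (genericPoint ↥X)) y = n * E s y := by
  intro n
  match n with
  | 0 =>
    have e : RefPow.sPowGerm s 0 (genericPoint ↥X) =
        AssPt.Basic.unitStalkEquiv (genericPoint ↥X) 1 := by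
      rw [sPowGerm_def]
      exact (one_smul (X.presheaf.stalk (genericPoint ↥X)) _).symm
    have e' : RefPow.sPowGerm s 0 (genericPoint ↥X) ≠ 0 := by
      rw [e]
      exact fun h => one_ne_zero ((AssPt.Basic.unitStalkEquiv _).injective (h.trans (map_zero _).symm))
    refine ⟨Group.isRef1_structure, e', fun y hy => ?_⟩
    rw [Nat.cast_zero, zero_mul]
    have hspan : Submodule.span (X.presheaf.stalk y) {RefPow.sPowGerm s 0 y} = ⊤ := by
      refine eq_top_iff.mpr fun v _ => Submodule.mem_span_singleton.mpr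
        ⟨(AssPt.Basic.unitStalkEquiv y).symm v, ?_⟩
      exact (AssPt.Basic.unitStalkEquiv y).apply_symm_apply v
    exact (secOrd_eq hX hy Group.isRef1_structure.2.2 hspan e' (φ := 1)
      (by rw [one_smul]; exact toGen_sPowGerm s 0 y)).trans (Ord.ord_one y)
  | 1 =>
    rw [sPowGerm_one]
    exact ⟨hF, hs, fun y _ => by rw [Nat.cast_one, one_mul]; rfl⟩
  | n + 2 =>
    obtain ⟨h1, h2, h3⟩ := pow_spec hs (n + 1)
    obtain ⟨r1, r2, r3⟩ := refTensor_spec hX h1 hF h2 hs
    rw [sPowGerm_succ_succ]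
    refine ⟨r1, r2, fun y hy => (r3 y hy).trans ?_⟩
    rw [h3 y hy, show secOrd F (sGerm s (genericPoint ↥X)) y = E s y from rfl]
    push_cast
    ring

end Groth.Agent.Lib.RefHull.Pow
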