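import Groth.Agent.Lib.RefHull.PushRefl
import Groth.Agent.Lib.RefHull.Pow
import Groth.Agent.Lib.RefHull.LocFree

/-!
# Coherence of direct images of torsion free coherent modules over loci of depth two
-/

universe u

noncomputable section

open CategoryTheory AlgebraicGeometry TopologicalSpace Opposite

namespace Groth.Agent.Lib.RefHull.PushCoh

open Groth.Agent.Lib Groth.Agent.Lib.TensorMod Groth.Agent.Lib.TensorMod.Dual SecHom Generic PushU
open PowColim (W W_le mem_W)

variable {X : Scheme.{u}} [IsIntegral X] [IsLocallyNoetherian X] (U : X.Opens)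

/-- Functions regular on `U ⊓ V` extend to `V`. -/
theorem exists_function
    (hU : ∀ x : X, x ∉ U → (2 : ℕ∞) ≤ LocCoh.depth (X.presheaf.stalk x) (X.presheaf.stalk x))
    {V : X.Opens} (hη : genericPoint ↥X ∈ V) (k : X.functionField)
    (hk : ∀ y ∈ W U V, ∃ a, algebraMap (X.presheaf.stalk y) X.functionField a = k) :
    ∃ a : Γ(X, V), X.presheaf.germ V (genericPoint ↥X) hη a = k := by
  have hηU := genericPoint_mem_of_depth U hU
  have hηW : genericPoint ↥X ∈ W U V := (mem_W U).mpr ⟨hηU, hη⟩
  choose a ha using fun y : W U V => hk y.1 y.2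
  obtain ⟨c, hc⟩ := exists_glue (M := Coh.structureModule X) (W U V)
    (fun y => (Reflexive.oEquiv y.1).symm (a y)) fun y => by
      obtain ⟨W', hy, r, hr⟩ := TopCat.Presheaf.exists_germ_eq X.presheaf (a y)
      refine ⟨W' ⊓ W U V, ⟨hy, y.2⟩, inf_le_right, (show Γ(Coh.structureModule X, W' ⊓ W U V) from
        X.presheaf.map (homOfLE inf_le_left).op r), fun z => ?_⟩
      apply (Reflexive.oEquiv z.1).injective
      rw [LinearEquiv.apply_symm_apply, DivRef.oEquiv_germ]
      refine IsFractionRing.injective (X.presheaf.stalk z.1) X.functionField ?_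
      rw [ha ⟨z.1, z.2.2⟩, algebraMap_germ]
      erw [TopCat.Presheaf.germ_res_apply]
      have e := ha y
      rw [← hr, algebraMap_germ] at e
      exact e.symm
  haveI := isIso_unit_of_depth U (M := Coh.structureModule X) hU Reflexive.isCoh_structure fun x =>
    (Reflexive.isReflexive_iff_forall Reflexive.isCoh_structure).mp Group.isRef1_structure.2.1 x
  haveI : IsIso ((un U (Coh.structureModule X)).app V) :=
    Scheme.Modules.Hom.isIso_iff_isIso_app.mp inferInstance V
  obtain ⟨a', ha'⟩ := ((ConcreteCategory.isIso_iff_bijective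
    ((un U (Coh.structureModule X)).app V)).mp inferInstance).2 c
  refine ⟨a', ?_⟩
  have e := congrArg (fun t => Reflexive.oEquiv (genericPoint ↥X)
    ((Coh.structureModule X).presheaf.germ (W U V) (genericPoint ↥X) hηW
      (show Γ(Coh.structureModule X, W U V) from t))) ha'
  have e2 := hc ⟨genericPoint ↥X, hηW⟩
  simp only at e
  erw [TopCat.Presheaf.germ_res_apply] at e
  rw [DivRef.oEquiv_germ] at e
  rw [e2, LinearEquiv.apply_symm_apply] at e
  refine e.trans ?_
  rw [← ha ⟨genericPoint ↥X, hηW⟩]
  exact (DivRef.stalkSpecializes_genericPoint _).symm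

/-- Sections over affines of a module equal to the direct image of a finite torsion free module. -/
theorem finite_sections
    (hU : ∀ x : X, x ∉ U → (2 : ℕ∞) ≤ LocCoh.depth (X.presheaf.stalk x) (X.presheaf.stalk x))
    {M : X.Modules} [M.IsQuasicoherent] (hinj : ∀ x, Function.Injective (toGen M x))
    (hfin : ∀ V : X.Opens, IsAffineOpen V → V ≤ U → Module.Finite Γ(X, V) Γ(M, V))
    {V : X.Opens} (hV : IsAffineOpen V) : Module.Finite Γ(X, V) Γ(M, V) := by
  classical
  rcases Set.eq_empty_or_nonempty (V : Set X) with he | ⟨x₀, hx₀⟩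
  · haveI : Subsingleton Γ(M, V) := ⟨fun a b => sec_ext fun y hy => absurd hy (by
      rw [← SetLike.mem_coe, he]; simp)⟩
    exact ⟨⟨∅, Subsingleton.elim _ _⟩⟩
  haveI : Nonempty V := ⟨⟨x₀, hx₀⟩⟩
  haveI := functionField_isFractionRing_of_isAffineOpen X V hV
  haveI : IsNoetherianRing Γ(X, V) := IsLocallyNoetherian.component_noetherian ⟨V, hV⟩
  set η := genericPoint ↥X
  have hη : η ∈ V := ((genericPoint_spec ↥X).mem_open_set_iff V.isOpen).mpr ⟨x₀, trivial, hx₀⟩
  have hηU := genericPoint_mem_of_depth U hU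
  -- cover of `U ⊓ V` by finitely many basic opens
  have hcov : ∀ y : W U V, ∃ f : Γ(X, V), X.basicOpen f ≤ W U V ∧ y.1 ∈ X.basicOpen f := fun y =>
    hV.exists_basicOpen_le (V := W U V) y ((mem_W U).mp y.2).2
  choose f hfle hfmem using hcov
  have hcpt : IsCompact (W U V : Set X) := by
    have h1 := U.ι.isCompact_preimage hV.isCompact
    exact h1.image U.ι.continuous
  obtain ⟨T, hT⟩ := hcpt.elim_finite_subcover (fun y : W U V => (X.basicOpen (f y) : Set X))
    (fun y => (X.basicOpen (f y)).isOpen) fun z hz => Set.mem_iUnion.mpr ⟨⟨z, hz⟩, hfmem ⟨z, hz⟩⟩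
  have hηD : ∀ y : W U V, η ∈ X.basicOpen (f y) := fun y =>
    ((genericPoint_spec ↥X).mem_open_set_iff (X.basicOpen (f y)).isOpen).mpr ⟨y.1, trivial, hfmem y⟩
  have hfinD : ∀ y : W U V, Module.Finite Γ(X, X.basicOpen (f y)) Γ(M, X.basicOpen (f y)) := fun y =>
    hfin _ (hV.basicOpen _) fun z hz => ((mem_W U).mp (hfle y hz)).1
  choose l g hg using fun y : W U V => @Module.Finite.exists_fin
    Γ(X, X.basicOpen (f y)) Γ(M, X.basicOpen (f y)) _ _ _ (hfinD y)
  -- the generic stalk is finite
  let η' : W U V := ⟨η, (mem_W U).mpr ⟨hηU, hη⟩⟩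
  haveI : Module.Finite (X.presheaf.stalk η) (M.presheaf.stalk η) := by
    refine ⟨Submodule.fg_iff_exists_fin_generating_family.mpr ⟨l η',
      fun i => M.presheaf.germ _ η (hηD η') (g η' i), eq_top_iff.mpr fun v _ => ?_⟩⟩
    obtain ⟨a, t, ha, e⟩ := QCoh.Stalk.exists_smul_eq_germ M (hV.basicOpen (f η')) (hηD η') v
    refine (Submodule.smul_mem_iff_of_isUnit _ ((X.mem_basicOpen a η (hηD η')).mp ha)).mp ?_
    rw [e]
    obtain ⟨c, rfl⟩ := (Submodule.mem_span_range_iff_exists_fun _).mp
      (show t ∈ Submodule.span _ (Set.range (g η')) by rw [hg]; trivial)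
    rw [map_sum]
    refine Submodule.sum_mem _ fun i _ => ?_
    rw [Modules.StalkModule.germ_smul]
    exact Submodule.smul_mem _ _ (Submodule.subset_span ⟨i, rfl⟩)
  haveI : Module.Finite X.functionField (M.presheaf.stalk η) :=
    (inferInstance : Module.Finite (X.presheaf.stalk η) (M.presheaf.stalk η))
  let B := Module.finBasis X.functionField (M.presheaf.stalk η)
  let val : (y : T) × Fin (l y.1) × Fin (Module.finrank X.functionField (M.presheaf.stalk η)) →
      X.functionField := fun p => B.repr (M.presheaf.germ _ η (hηD p.1.1) (g p.1.1 p.2.1)) p.2.2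
  obtain ⟨⟨d, hd⟩, hdint⟩ := IsLocalization.exist_integer_multiples_of_finite
    (nonZeroDivisors Γ(X, V)) val
  have hd0 : X.presheaf.germ V η hη d ≠ 0 := fun h =>
    nonZeroDivisors.ne_zero hd (germ_injective_of_isIntegral X η hη (h.trans (map_zero _).symm))
  let coord : Γ(M, V) → Fin (Module.finrank X.functionField (M.presheaf.stalk η)) → X.functionField :=
    fun n i => (X.presheaf.germ V η hη d : X.functionField) * B.repr (M.presheaf.germ V η hη n) i
  have key : ∀ n i, ∃ a : Γ(X, V), X.presheaf.germ V η hη a = coord n i := fun n i => by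
    refine exists_function U hU hη _ fun z hz => ?_
    obtain ⟨y, hyT, hzy⟩ : ∃ y ∈ T, z ∈ (X.basicOpen (f y) : Set X) := by
      simpa using hT hz
    let hle : X.basicOpen (f y) ≤ V := X.basicOpen_le _
    obtain ⟨c, hc⟩ := (Submodule.mem_span_range_iff_exists_fun _).mp
      (show rs M hle n ∈ Submodule.span _ (Set.range (g y)) by rw [hg]; trivial)
    choose e he using fun j => hdint ⟨⟨y, hyT⟩, j, i⟩
    refine ⟨∑ j, X.presheaf.germ _ z hzy (c j) * X.presheaf.germ V z (hle hzy) (e j), ?_⟩
    have h1 : M.presheaf.germ V η hη n =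
        ∑ j, X.presheaf.germ _ η (hηD y) (c j) • M.presheaf.germ _ η (hηD y) (g y j) := by
      rw [← germ_rs hle (hηD y), ← hc, map_sum]
      exact Finset.sum_congr rfl fun j _ => Modules.StalkModule.germ_smul _ _ _
    show _ = (X.presheaf.germ V η hη d : X.functionField) * B.repr (M.presheaf.germ V η hη n) i
    rw [map_sum, h1, map_sum, Finsupp.finset_sum_apply, Finset.mul_sum]
    refine Finset.sum_congr rfl fun j _ => ?_
    rw [map_mul, algebraMap_germ, algebraMap_germ, map_smul, Finsupp.smul_apply, smul_eq_mul,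
      mul_left_comm]
    congr 1
    exact (he j).trans (Algebra.smul_def _ _)
  choose Ψ hΨ using key
  have hinjη : Function.Injective (M.presheaf.germ V η hη) := fun a b h => sec_ext fun y hy => hinj y (by
    rw [toGen_germ, toGen_germ]; exact h)
  have hg_inj := germ_injective_of_isIntegral X η hη
  let L : Γ(M, V) →ₗ[Γ(X, V)]
      (Fin (Module.finrank X.functionField (M.presheaf.stalk η)) → Γ(X, V)) :=
    { toFun := Ψ
      map_add' := fun a b => funext fun i => hg_inj (by
        rw [Pi.add_apply, map_add, hΨ, hΨ, hΨ]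
        simp only [coord, map_add, Finsupp.add_apply, mul_add])
      map_smul' := fun r a => funext fun i => hg_inj (by
        rw [RingHom.id_apply, Pi.smul_apply, smul_eq_mul, map_mul, hΨ, hΨ]
        simp only [coord, Modules.StalkModule.germ_smul]
        rw [map_smul B.repr, Finsupp.smul_apply, smul_eq_mul, mul_left_comm]) }
  refine Module.Finite.of_injective L fun a b h => hinjη (B.repr.injective (Finsupp.ext fun i => ?_))
  have h' := congrArg (X.presheaf.germ V η hη) (congrFun h i)
  change X.presheaf.germ V η hη (Ψ a i) = X.presheaf.germ V η hη (Ψ b i) at h'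
  rw [hΨ, hΨ] at h'
  exact mul_left_cancel₀ hd0 h'

end Groth.Agent.Lib.RefHull.PushCoh
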