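import Groth.Agent.Lib.RefHull.Reflexive
import Groth.Agent.Lib.Modules.StalkRestrict
import Mathlib.LinearAlgebra.Dual.Lemmas

/-!
# Reflexivity of stalks under restriction along open immersions
-/

universe u

noncomputable section

open CategoryTheory AlgebraicGeometry TopologicalSpace Opposite

namespace Groth.Agent.Lib.RefHull.ReflRestrict

open Groth.Agent.Lib

theorem isReflexive_of_semilinear {R S : Type u} [CommRing R] [CommRing S] {M M' : Type u}
    [AddCommGroup M] [Module R M] [AddCommGroup M'] [Module S M'] (σ : R ≃+* S) (e : M ≃+ M')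
    (h : ∀ a v, e (a • v) = σ a • e v) [Module.IsReflexive R M] : Module.IsReflexive S M' := by
  have h' : ∀ b w, e.symm (b • w) = σ.symm b • e.symm w := fun b w => e.injective (by
    rw [h, e.apply_symm_apply, e.apply_symm_apply, σ.apply_symm_apply])
  let D : Module.Dual R M → Module.Dual S M' := fun φ =>
    { toFun := fun w => σ (φ (e.symm w))
      map_add' := fun a b => by rw [map_add, map_add, map_add]
      map_smul' := fun b w => by
        rw [h', map_smul, smul_eq_mul, map_mul, σ.apply_symm_apply, RingHom.id_apply, smul_eq_mul] }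
  let D' : Module.Dual S M' → Module.Dual R M := fun θ =>
    { toFun := fun v => σ.symm (θ (e v))
      map_add' := fun a b => by rw [map_add, map_add, map_add]
      map_smul' := fun a v => by
        rw [h, map_smul, smul_eq_mul, map_mul, σ.symm_apply_apply, RingHom.id_apply, smul_eq_mul] }
  have hev := Module.bijective_dual_eval R M
  refine ⟨⟨fun a b hab => e.symm.injective (hev.1 (LinearMap.ext fun φ => σ.injective ?_)), fun Ψ => ?_⟩⟩
  · exact LinearMap.congr_fun hab (D φ)
  · let Φ : Module.Dual R (Module.Dual R M) :=
      { toFun := fun φ => σ.symm (Ψ (D φ))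
        map_add' := fun φ φ' => by
          rw [← map_add σ.symm, ← map_add Ψ]
          congr 2
          exact LinearMap.ext fun w => map_add σ _ _
        map_smul' := fun a φ => by
          rw [RingHom.id_apply, smul_eq_mul, ← σ.symm_apply_apply a, ← map_mul, ← smul_eq_mul,
            ← map_smul Ψ, σ.symm_apply_apply]
          congr 2
          exact LinearMap.ext fun w => map_mul σ a _ }
    obtain ⟨v, hv⟩ := hev.2 Φ
    refine ⟨e v, LinearMap.ext fun θ => σ.symm.injective ?_⟩
    have e1 : D (D' θ) = θ := LinearMap.ext fun w => by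
      show σ (σ.symm (θ (e (e.symm w)))) = θ w
      rw [e.apply_symm_apply, σ.apply_symm_apply]
    have e2 := LinearMap.congr_fun hv (D' θ)
    change σ.symm (θ (e v)) = σ.symm (Ψ (D (D' θ))) at e2
    rw [e1] at e2
    exact e2

variable {X Y : Scheme.{u}} (f : Y ⟶ X) [IsOpenImmersion f] (M : X.Modules) (y : Y)

theorem isReflexive_restrict_iff :
    Module.IsReflexive (Y.presheaf.stalk y) ((M.restrict f).presheaf.stalk y) ↔
      Module.IsReflexive (X.presheaf.stalk (f y)) (M.presheaf.stalk (f y)) := by
  let σ : X.presheaf.stalk (f y) ≃+* Y.presheaf.stalk y :=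
    (asIso (f.stalkMap y)).commRingCatIsoToRingEquiv
  let e := Modules.StalkRestrict.restrictStalkAddEquiv f M y
  have h : ∀ a v, e.symm (a • v) = σ a • e.symm v := fun a v => e.injective (by
    show e (e.symm (a • v)) = e ((f.stalkMap y).hom a • e.symm v)
    rw [e.apply_symm_apply]
    refine Eq.trans ?_ (Modules.StalkRestrict.restrictStalkAddEquiv_smul f M y a (e.symm v)).symm
    rw [e.apply_symm_apply])
  constructor
  · intro _
    exact isReflexive_of_semilinear σ.symm e fun b v => e.symm.injective (by
      rw [h, e.symm_apply_apply, e.symm_apply_apply, σ.apply_symm_apply])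
  · intro _
    exact isReflexive_of_semilinear σ e.symm h

end Groth.Agent.Lib.RefHull.ReflRestrict
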