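import Groth.Agent.Lib.RefHull.RankOne
import Mathlib.AlgebraicGeometry.OrderOfVanishing

/-!
# Orders at codimension one points of normal schemes, orders of rational sections
-/

universe u

noncomputable section

open CategoryTheory AlgebraicGeometry TopologicalSpace Opposite

namespace Groth.Agent.Lib.RefHull.Ord

open Groth.Agent.Lib Generic RankOne

variable {X : Scheme.{u}} [IsIntegral X] [IsLocallyNoetherian X]

lemma dim_eq_one_iff {x : X} : ringKrullDim (X.presheaf.stalk x) = 1 ↔ Order.coheight x = 1 := by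
  rw [ringKrullDim_stalk_eq_coheight]
  exact_mod_cast Iff.rfl

lemma dim_of_coheight {x : X} (hx : Order.coheight x = 1) :
    ringKrullDim (X.presheaf.stalk x) = 1 := dim_eq_one_iff.mpr hx

variable (hX : Pi1.IsNormalScheme X) {x : X} (hx : Order.coheight x = 1)

include hX hx in
theorem isDVR : IsDiscreteValuationRing (X.presheaf.stalk x) := by
  haveI := isPrincipalIdealRing_of_dim_le_one hX x (dim_of_coheight hx).le
  refine { not_a_field' := fun h => ?_ }
  have hf : IsField (X.presheaf.stalk x) := IsLocalRing.isField_iff_maximalIdeal_eq.mpr h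
  have := ringKrullDim_eq_zero_of_isField hf
  rw [dim_of_coheight hx] at this
  exact one_ne_zero this

include hX hx in
theorem exists_unit_mul_pow {ϖ : X.presheaf.stalk x} (hϖ : Irreducible ϖ) {a : X.presheaf.stalk x}
    (ha : a ≠ 0) : ∃ (n : ℕ) (u : (X.presheaf.stalk x)ˣ), a = u * ϖ ^ n :=
  haveI := isDVR hX hx
  IsDiscreteValuationRing.eq_unit_mul_pow_irreducible ha hϖ

include hX hx in
theorem exists_irreducible : ∃ ϖ : X.presheaf.stalk x, Irreducible ϖ :=
  haveI := isDVR hX hx
  IsDiscreteValuationRing.exists_irreducible _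

include hX hx in
theorem ringOrd_unit_mul_pow {ϖ : X.presheaf.stalk x} (hϖ : Irreducible ϖ)
    (u : (X.presheaf.stalk x)ˣ) (n : ℕ) : Ring.ord (X.presheaf.stalk x) (u * ϖ ^ n) = n := by
  haveI := isDVR hX hx
  rw [Ring.ord_eq_addVal]
  exact IsDiscreteValuationRing.addVal_def' u hϖ n

omit hX in
theorem ord_algebraMap' (hx : Order.coheight x = 1) {a : X.presheaf.stalk x} (ha : a ≠ 0) :
    Scheme.ord (algebraMap (X.presheaf.stalk x) X.functionField a) x =
      ((Ring.ord (X.presheaf.stalk x) a).toNat : ℤ) := by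
  have : Ring.KrullDimLE 1 (X.presheaf.stalk x) := krullDimLE_of_coheight_le hx.le
  rw [← Cyc.Ord.ordFrac_algebraMap (X.presheaf.stalk x) (K := X.functionField)
      (mem_nonZeroDivisors_of_ne_zero ha), Cyc.Ord.ordFrac_def,
    Scheme.ord_eq_unzero_ordHom hx (algebraMap_ne_zero ha)]
  show _ = Cyc.Ord.toInt (X.ordHom x hx (algebraMap (X.presheaf.stalk x) X.functionField a))
  obtain ⟨p, hp⟩ := WithZero.ne_zero_iff_exists.mp
    ((map_ne_zero (X.ordHom x hx)).mpr (algebraMap_ne_zero ha))
  simp only [← hp]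
  rfl

include hX hx in
theorem ord_unit_mul_pow {ϖ : X.presheaf.stalk x} (hϖ : Irreducible ϖ)
    (u : (X.presheaf.stalk x)ˣ) (n : ℕ) :
    Scheme.ord (algebraMap (X.presheaf.stalk x) X.functionField (u * ϖ ^ n)) x = n := by
  rw [ord_algebraMap' hx (mul_ne_zero u.ne_zero (pow_ne_zero _ hϖ.ne_zero)),
    ringOrd_unit_mul_pow hX hx hϖ]
  rfl

omit hX in
lemma ord_one (x : X) : Scheme.ord (1 : X.functionField) x = 0 := by
  have := Scheme.ord_mul (X := X) (x := x) (one_ne_zero (α := X.functionField)) one_ne_zero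
  rw [mul_one] at this
  omega

omit hX in
lemma ord_inv {f : X.functionField} (hf : f ≠ 0) (x : X) :
    Scheme.ord f⁻¹ x = - Scheme.ord f x := by
  have := Scheme.ord_mul (X := X) (x := x) hf (inv_ne_zero hf)
  rw [mul_inv_cancel₀ hf, ord_one] at this
  omega

omit hX in
lemma ord_div {f g : X.functionField} (hf : f ≠ 0) (hg : g ≠ 0) (x : X) :
    Scheme.ord (f / g) x = Scheme.ord f x - Scheme.ord g x := by
  rw [div_eq_mul_inv, Scheme.ord_mul hf (inv_ne_zero hg), ord_inv hg]
  rfl

include hX hx in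
theorem ord_of_isUnit {a : X.presheaf.stalk x} (ha : IsUnit a) :
    Scheme.ord (algebraMap (X.presheaf.stalk x) X.functionField a) x = 0 := by
  obtain ⟨ϖ, hϖ⟩ := exists_irreducible hX hx
  simpa using ord_unit_mul_pow hX hx hϖ ha.unit 0

include hX hx in
theorem mem_range_iff {f : X.functionField} (hf : f ≠ 0) :
    (∃ a, algebraMap (X.presheaf.stalk x) X.functionField a = f) ↔ 0 ≤ Scheme.ord f x := by
  obtain ⟨ϖ, hϖ⟩ := exists_irreducible hX hx
  constructor
  · rintro ⟨a, rfl⟩
    have ha : a ≠ 0 := fun h => hf (by rw [h, map_zero])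
    obtain ⟨n, u, rfl⟩ := exists_unit_mul_pow hX hx hϖ ha
    rw [ord_unit_mul_pow hX hx hϖ]
    exact n.cast_nonneg
  · intro h
    obtain ⟨a, b, hb, rfl⟩ := IsFractionRing.div_surjective (A := X.presheaf.stalk x) f
    have hb0 := nonZeroDivisors.ne_zero hb
    have ha0 : a ≠ 0 := fun e => hf (by rw [e, map_zero, zero_div])
    obtain ⟨n, u, rfl⟩ := exists_unit_mul_pow hX hx hϖ ha0
    obtain ⟨m, v, rfl⟩ := exists_unit_mul_pow hX hx hϖ hb0
    rw [ord_div (algebraMap_ne_zero ha0) (algebraMap_ne_zero hb0), ord_unit_mul_pow hX hx hϖ,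
      ord_unit_mul_pow hX hx hϖ] at h
    refine ⟨(u * v⁻¹ : (X.presheaf.stalk x)ˣ) * ϖ ^ (n - m), ?_⟩
    rw [eq_div_iff (algebraMap_ne_zero hb0), ← map_mul]
    congr 1
    have hnm : ϖ ^ n = ϖ ^ (n - m) * ϖ ^ m := by rw [← pow_add, Nat.sub_add_cancel (by omega)]
    have hv : ((v⁻¹ : (X.presheaf.stalk x)ˣ) : X.presheaf.stalk x) * v = 1 := v.inv_mul
    rw [Units.val_mul, hnm]
    linear_combination (↑u * ϖ ^ (n - m) * ϖ ^ m) * hv

include hX hx in
theorem isUnit_iff {a : X.presheaf.stalk x} (ha : a ≠ 0) :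
    IsUnit a ↔ Scheme.ord (algebraMap (X.presheaf.stalk x) X.functionField a) x = 0 := by
  refine ⟨ord_of_isUnit hX hx, fun h => ?_⟩
  obtain ⟨ϖ, hϖ⟩ := exists_irreducible hX hx
  obtain ⟨n, u, rfl⟩ := exists_unit_mul_pow hX hx hϖ ha
  rw [ord_unit_mul_pow hX hx hϖ] at h
  obtain rfl : n = 0 := by exact_mod_cast h
  simp

omit hX in
theorem ordFrac_unit_mul_pow {S : Type u} [CommRing S] [IsDomain S] [IsDiscreteValuationRing S]
    {L : Type u} [Field L] [Algebra S L] [IsFractionRing S L] {ϖ : S} (hϖ : Irreducible ϖ) (u : Sˣ)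
    (n : ℕ) : CycAlg.ordFrac S L (algebraMap S L (u * ϖ ^ n)) = n := by
  rw [Cyc.Ord.ordFrac_algebraMap S
      (mem_nonZeroDivisors_of_ne_zero (mul_ne_zero u.ne_zero (pow_ne_zero _ hϖ.ne_zero))),
    Ring.ord_eq_addVal, IsDiscreteValuationRing.addVal_def' u hϖ n]
  rfl

omit hX hx in
/-- The local ring is the local ring of the whole space at the point. -/
def locQuotEquiv (x : X) :
    X.presheaf.stalk x ≃+* Cyc.LocQuot x (genericPoint ↥X) (spec x) :=
  RingEquiv.ofBijective (Ideal.Quotient.mk _)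
    ⟨by rw [RingHom.injective_iff_ker_eq_bot, Ideal.mk_ker, Cyc.C1.ker_specMap_genericPoint],
      Ideal.Quotient.mk_surjective⟩

lemma algebraMap_locQuotEquiv (x : X) (a : X.presheaf.stalk x) :
    algebraMap (Cyc.LocQuot x (genericPoint ↥X) (spec x)) (X.residueField (genericPoint ↥X))
      (locQuotEquiv x a) =
      X.residue (genericPoint ↥X) (algebraMap (X.presheaf.stalk x) X.functionField a) := rfl

include hX hx in
theorem ordAt_residue_algebraMap {a : X.presheaf.stalk x} (ha : a ≠ 0) :
    Cyc.ordAt x (genericPoint ↥X) (spec x)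
      (X.residue (genericPoint ↥X) (algebraMap (X.presheaf.stalk x) X.functionField a)) =
      Scheme.ord (algebraMap (X.presheaf.stalk x) X.functionField a) x := by
  haveI := isDVR hX hx
  haveI : IsDiscreteValuationRing (Cyc.LocQuot x (genericPoint ↥X) (spec x)) :=
    IsDiscreteValuationRing.RingEquivClass.isDiscreteValuationRing (locQuotEquiv x)
  obtain ⟨ϖ, hϖ⟩ := exists_irreducible hX hx
  obtain ⟨n, u, rfl⟩ := exists_unit_mul_pow hX hx hϖ ha
  rw [ord_unit_mul_pow hX hx hϖ, ← algebraMap_locQuotEquiv, map_mul (locQuotEquiv x),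
    map_pow (locQuotEquiv x)]
  exact ordFrac_unit_mul_pow (hϖ.map (locQuotEquiv x))
    (Units.map (locQuotEquiv x).toRingHom.toMonoidHom u) n

include hX hx in
/-- The prelude's order along the specialization from the generic point is the order. -/
theorem ordAt_residue {f : X.functionField} (hf : f ≠ 0) :
    Cyc.ordAt x (genericPoint ↥X) (spec x) (X.residue (genericPoint ↥X) f) = Scheme.ord f x := by
  haveI := isDVR hX hx
  haveI : IsDiscreteValuationRing (Cyc.LocQuot x (genericPoint ↥X) (spec x)) :=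
    IsDiscreteValuationRing.RingEquivClass.isDiscreteValuationRing (locQuotEquiv x)
  have hres : Function.Injective (X.residue (genericPoint ↥X)) :=
    RingHom.injective (R := X.functionField) (X.residue (genericPoint ↥X)).hom
  obtain ⟨a, b, hb, rfl⟩ := IsFractionRing.div_surjective (A := X.presheaf.stalk x) f
  have hb0 := nonZeroDivisors.ne_zero hb
  have ha0 : a ≠ 0 := fun h => hf (by rw [h, map_zero, zero_div])
  set A := algebraMap (X.presheaf.stalk x) X.functionField a with hA
  set B := algebraMap (X.presheaf.stalk x) X.functionField b with hB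
  have hB0 : B ≠ 0 := algebraMap_ne_zero hb0
  have e1 : X.residue (genericPoint ↥X) (A / B) * X.residue (genericPoint ↥X) B =
      X.residue (genericPoint ↥X) A := by
    rw [← map_mul, div_mul_cancel₀ _ hB0]
  have hne : ∀ k : X.functionField, k ≠ 0 → X.residue (genericPoint ↥X) k ≠ 0 := fun k hk h =>
    hk (hres (h.trans (map_zero _).symm))
  have e2 : Cyc.ordAt x (genericPoint ↥X) (spec x) (X.residue (genericPoint ↥X) (A / B) *
      X.residue (genericPoint ↥X) B) = _ :=
    Cyc.Ord.ordFrac_mul (Cyc.LocQuot x (genericPoint ↥X) (spec x)) _ _ (hne _ hf) (hne _ hB0)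
  rw [e1] at e2
  have e4 := ordAt_residue_algebraMap hX hx ha0
  rw [← hA] at e4
  rw [e4] at e2
  have e3 := ordAt_residue_algebraMap hX hx hb0
  rw [ord_div (algebraMap_ne_zero ha0) hB0, ← hA]
  rw [← hB] at e3
  simp only [Cyc.ordAt] at e2 e3 ⊢
  omega

/-! ### Orders of rational sections -/

variable {F : X.Modules}

omit hX in
/-- The image of a rational section in the fibre at the generic point. -/
lemma mk_injective : Function.Injective
    (Submodule.Quotient.mk : F.presheaf.stalk (genericPoint ↥X) → Cyc.secFibre F (genericPoint ↥X)) := by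
  intro a b h
  by_contra hne
  exact Cyc.C1.secFibre_mk_ne_zero F (sub_ne_zero.mpr hne) (by
    rw [Submodule.Quotient.mk_sub, h, sub_self])

/-- The order of a rational section at a point. -/
def secOrd (F : X.Modules) (v : F.presheaf.stalk (genericPoint ↥X)) (x : X) : ℤ :=
  Cyc.secOrdAt F (genericPoint ↥X) x (spec x) (Submodule.Quotient.mk v)

include hX hx in
/-- The order is computed by any generator of the stalk. -/
theorem secOrd_eq (hg : RefHull.GenInvertible F) {t : F.presheaf.stalk x}
    (ht : Submodule.span (X.presheaf.stalk x) {t} = ⊤) {v : F.presheaf.stalk (genericPoint ↥X)}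
    (hv : v ≠ 0) {φ : X.functionField} (hφ : φ • toGen F x t = v) :
    secOrd F v x = Scheme.ord φ x := by
  classical
  have hex : ∃ t : F.presheaf.stalk x, Submodule.span (X.presheaf.stalk x) {t} = ⊤ := ⟨t, ht⟩
  rw [secOrd, Cyc.secOrdAt, dif_pos hex]
  set t' := Classical.choose hex with ht'def
  obtain ⟨a, ha⟩ := Submodule.mem_span_singleton.mp
    (show t' ∈ Submodule.span (X.presheaf.stalk x) {t} by rw [ht]; trivial)
  obtain ⟨b, hb⟩ := Submodule.mem_span_singleton.mp
    (show t ∈ Submodule.span (X.presheaf.stalk x) {t'} by rw [Classical.choose_spec hex]; trivial)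
  have hφ0 : φ ≠ 0 := fun h => hv (by rw [← hφ, h, zero_smul])
  have htg : toGen F x t ≠ 0 := fun h => hv (by rw [← hφ, h, smul_zero])
  have e' : toGen F x t' = algebraMap (X.presheaf.stalk x) X.functionField a • toGen F x t := by
    rw [← ha, toGen_smul]
  have hab : b * a = 1 := by
    refine IsFractionRing.injective (X.presheaf.stalk x) X.functionField (smul_left_injective' hg htg ?_)
    rw [map_mul, map_one, one_smul, mul_smul, ← e', ← toGen_smul, hb]
  have hau : IsUnit a := IsUnit.of_mul_eq_one b (by rw [mul_comm]; exact hab)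
  have ha0 := algebraMap_ne_zero (hau.ne_zero)
  have hex2 : ∃ ψ : X.presheaf.stalk (genericPoint ↥X), (Submodule.Quotient.mk v : Cyc.secFibre F (genericPoint ↥X)) =
      ψ • (Submodule.Quotient.mk (F.presheaf.stalkSpecializes (spec x) t') :
        Cyc.secFibre F (genericPoint ↥X)) := by
    refine ⟨φ / algebraMap (X.presheaf.stalk x) X.functionField a, ?_⟩
    rw [← Submodule.Quotient.mk_smul]
    congr 1
    change v = _ • toGen F x t'
    rw [e', smul_smul, div_mul_cancel₀ _ ha0, hφ]
  rw [dif_pos hex2]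
  set ψ := Classical.choose hex2
  have hψ : v = ψ • toGen F x t' := mk_injective (by
    rw [Submodule.Quotient.mk_smul]
    exact Classical.choose_spec hex2)
  have hψ' : ψ * algebraMap (X.presheaf.stalk x) X.functionField a = φ := smul_left_injective' hg htg (by
    rw [mul_smul, ← e', ← hψ, hφ])
  have hψ0 : (ψ : X.functionField) ≠ 0 := fun h => hφ0 (by rw [← hψ', h, zero_mul])
  rw [ordAt_residue hX hx hψ0, ← hψ', Scheme.ord_mul hψ0 ha0, ord_of_isUnit hX hx hau,
    add_zero]

include hX hx in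
/-- Stalks of rank one reflexive modules at codimension one points are free of rank one. -/
theorem exists_generator (hF : RefHull.IsRef1 F) :
    ∃ t : F.presheaf.stalk x, Submodule.span (X.presheaf.stalk x) {t} = ⊤ ∧ toGen F x t ≠ 0 := by
  obtain ⟨hc, hr, hg⟩ := hF
  haveI := hc.1
  haveI := isDVR hX hx
  haveI := Reflexive.finite_stalk hc x
  have hinj := toGen_injective_of_isReflexive hc hr x
  have hrx := (Reflexive.isReflexive_iff_forall hc).mp hr x
  haveI : Module.IsTorsionFree (X.presheaf.stalk x) (F.presheaf.stalk x) :=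
    Module.isTorsionFree_iff_smul_eq_zero.mpr fun a v h => or_iff_not_imp_left.mpr fun ha =>
      DualAlg.smul_eq_zero_imp hrx.bijective_dual_eval'.1 ha h
  haveI : Module.Free (X.presheaf.stalk x) (F.presheaf.stalk x) := Module.free_of_finite_type_torsion_free'
  let B := Module.Free.chooseBasis (X.presheaf.stalk x) (F.presheaf.stalk x)
  obtain ⟨s, hs0, hs⟩ := exists_basis_generic hg
  obtain ⟨b, v₀, hb, hbv⟩ := exists_frac x s
  have hv₀ : v₀ ≠ 0 := fun h => hs0 (by
    rw [h, map_zero] at hbv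
    exact (isUnit_iff_ne_zero.mpr (algebraMap_ne_zero hb)).smul_eq_zero.mp hbv)
  have hne : ∀ i, toGen F x (B i) ≠ 0 := fun i h =>
    B.ne_zero i (hinj (h.trans (map_zero _).symm))
  have hsub : ∀ i j, i = j := fun i j => by
    by_contra hij
    obtain ⟨c, hc'⟩ := span_of_ne_zero hg (hne i) (toGen F x (B j))
    obtain ⟨p, q, hq, rfl⟩ := IsFractionRing.div_surjective (A := X.presheaf.stalk x) c
    have hq0 := algebraMap_ne_zero (nonZeroDivisors.ne_zero hq)
    have e : p • B i = q • B j := hinj (by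
      rw [toGen_smul, toGen_smul, ← hc', smul_smul, mul_div_cancel₀ _ hq0])
    have := congrArg (fun v => B.repr v j) e
    simp [Finsupp.single_eq_of_ne (Ne.symm hij)] at this
    exact nonZeroDivisors.ne_zero hq this.symm
  obtain ⟨i⟩ : Nonempty (Module.Free.ChooseBasisIndex (X.presheaf.stalk x) (F.presheaf.stalk x)) := by
    by_contra h
    haveI := not_nonempty_iff.mp h
    exact hv₀ (B.repr.injective (Subsingleton.elim _ _))
  refine ⟨B i, eq_top_iff.mpr ?_, hne i⟩
  rw [← B.span_eq, Submodule.span_le]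
  rintro _ ⟨j, rfl⟩
  rw [hsub j i]
  exact Submodule.subset_span rfl

include hX hx in
theorem secOrd_smul (hF : RefHull.IsRef1 F) {v : F.presheaf.stalk (genericPoint ↥X)} (hv : v ≠ 0)
    {f : X.functionField} (hf : f ≠ 0) :
    secOrd F (f • v) x = Scheme.ord f x + secOrd F v x := by
  obtain ⟨t, ht, ht0⟩ := exists_generator hX hx hF
  obtain ⟨φ, hφ⟩ := span_of_ne_zero hF.2.2 ht0 v
  have hφ0 : φ ≠ 0 := fun h => hv (by rw [← hφ, h, zero_smul])
  have hfv : f • v ≠ 0 := fun h => hv ((isUnit_iff_ne_zero.mpr hf).smul_eq_zero.mp h)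
  rw [secOrd_eq hX hx hF.2.2 ht hv hφ,
    secOrd_eq hX hx hF.2.2 ht hfv (φ := f * φ) (by rw [mul_smul, hφ]), Scheme.ord_mul hf hφ0]

include hX hx in
/-- A rational section comes from the stalk iff its order is nonnegative. -/
theorem mem_range_toGen_iff (hF : RefHull.IsRef1 F) {v : F.presheaf.stalk (genericPoint ↥X)}
    (hv : v ≠ 0) : (∃ w, toGen F x w = v) ↔ 0 ≤ secOrd F v x := by
  obtain ⟨t, ht, ht0⟩ := exists_generator hX hx hF
  obtain ⟨φ, hφ⟩ := span_of_ne_zero hF.2.2 ht0 v
  have hφ0 : φ ≠ 0 := fun h => hv (by rw [← hφ, h, zero_smul])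
  rw [secOrd_eq hX hx hF.2.2 ht hv hφ, ← mem_range_iff hX hx hφ0]
  constructor
  · rintro ⟨w, hw⟩
    obtain ⟨a, rfl⟩ := Submodule.mem_span_singleton.mp
      (show w ∈ Submodule.span (X.presheaf.stalk x) {t} by rw [ht]; trivial)
    exact ⟨a, smul_left_injective' hF.2.2 ht0 (by rw [← toGen_smul, hw, hφ])⟩
  · rintro ⟨a, rfl⟩
    exact ⟨a • t, by rw [toGen_smul, hφ]⟩

end Groth.Agent.Lib.RefHull.Ord
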