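import Mathlib.RingTheory.UniqueFactorizationDomain.GCDMonoid
import Mathlib.LinearAlgebra.Dual.Lemmas
import Mathlib.LinearAlgebra.FreeModule.Basic
import Mathlib.RingTheory.Ideal.Basic

/-!
# Rank one reflexive modules over factorial domains are free
-/

universe u

namespace Groth.Agent.Lib.RefHull.UFDRankOne

open Module

variable {R : Type u} [CommRing R] [IsDomain R] [UniqueFactorizationMonoid R]

theorem exists_gcd (a : R) (s : Finset R) :
    ∃ d : R, d ∣ a ∧ (∀ j ∈ s, d ∣ j) ∧ ∀ b, (∀ j ∈ s, a ∣ b * j) → a ∣ b * d := by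
  classical
  letI : GCDMonoid R := UniqueFactorizationMonoid.toGCDMonoid R
  induction s using Finset.induction with
  | empty => exact ⟨a, dvd_rfl, by simp, fun b _ => dvd_mul_left a b⟩
  | @insert j s hj ih =>
    obtain ⟨d, hda, hds, hd⟩ := ih
    refine ⟨gcd d j, (gcd_dvd_left d j).trans hda, fun i hi => ?_, fun b hb => ?_⟩
    · rcases Finset.mem_insert.mp hi with rfl | hi
      · exact gcd_dvd_right d i
      · exact (gcd_dvd_left d j).trans (hds i hi)
    · have h := dvd_gcd (hd b fun i hi => hb i (Finset.mem_insert_of_mem hi)) (hb j (Finset.mem_insert_self j s))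
      exact h.trans (gcd_mul_left' b d j).dvd

theorem free_of_rank_one (M : Type u) [AddCommGroup M] [Module R M] [Module.Finite R M]
    [Module.IsReflexive R M] (θ : M →ₗ[R] R) (hθ : Function.Injective θ) : Module.Free R M := by
  classical
  rcases subsingleton_or_nontrivial M with h | h
  · exact Module.Free.of_subsingleton R M
  obtain ⟨m₀, hm₀⟩ := exists_ne (0 : M)
  have ha : θ m₀ ≠ 0 := fun h0 => hm₀ (hθ (h0.trans (map_zero θ).symm))
  obtain ⟨S, hS⟩ := (inferInstance : Module.Finite R M).fg_top
  obtain ⟨d, ⟨c, hc⟩, hds, hd⟩ := exists_gcd (θ m₀) (S.image θ)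
  have hd0 : d ≠ 0 := fun h0 => ha (by rw [hc, h0, zero_mul])
  have hdm : ∀ m : M, d ∣ θ m := fun m => by
    have hm : m ∈ Submodule.span R (S : Set M) := hS ▸ Submodule.mem_top
    induction hm using Submodule.span_induction with
    | mem m hm => exact hds _ (Finset.mem_image_of_mem θ hm)
    | zero => simp
    | add x y _ _ hx hy => rw [map_add]; exact dvd_add hx hy
    | smul r x _ hx => rw [map_smul, smul_eq_mul]; exact hx.mul_left r
  choose q hq using hdm
  let φ : M →ₗ[R] R :=
    { toFun := q
      map_add' := fun x y => mul_left_cancel₀ hd0 (by rw [mul_add, ← hq, ← hq, ← hq, map_add])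
      map_smul' := fun r x => mul_left_cancel₀ hd0 (by
        rw [RingHom.id_apply, smul_eq_mul, mul_left_comm, ← hq, ← hq, map_smul, smul_eq_mul]) }
  have hgen : ∀ f : Dual R M, ∃ e : R, e • φ = f := by
    intro f
    have key : ∀ m, θ m₀ * f m = f m₀ * θ m := fun m => by
      have e : θ m₀ • m = θ m • m₀ := hθ (by simp [mul_comm])
      have := congrArg f e
      simp only [map_smul, smul_eq_mul] at this
      rw [this, mul_comm]
    obtain ⟨e, he⟩ : c ∣ f m₀ := by
      have := hd (f m₀) fun j hj => by
        obtain ⟨m, -, rfl⟩ := Finset.mem_image.mp hj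
        exact ⟨f m, (key m).symm⟩
      rw [hc, mul_comm (f m₀)] at this
      exact (mul_dvd_mul_iff_left hd0).mp this
    refine ⟨e, LinearMap.ext fun m => mul_left_cancel₀ ha ?_⟩
    rw [key m, LinearMap.smul_apply, smul_eq_mul, he, hq m, hc]
    show _ * (e * q m) = _
    ring
  haveI : Module.Free R (Dual R M) := by
    refine Module.Free.of_equiv (LinearEquiv.ofBijective (LinearMap.toSpanSingleton R (Dual R M) φ) ⟨?_, fun f => ?_⟩)
    · intro x y hxy
      have := congrArg (fun g : Dual R M => g m₀) hxy
      simp only [LinearMap.toSpanSingleton_apply, LinearMap.smul_apply, smul_eq_mul] at this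
      refine mul_right_cancel₀ (fun h0 => ha ?_) this
      rw [hq m₀, show q m₀ = 0 from h0, mul_zero]
    · obtain ⟨e, he⟩ := hgen f
      exact ⟨e, he⟩
  haveI : Module.Finite R (Dual R M) :=
    Module.Finite.of_surjective (LinearMap.toSpanSingleton R (Dual R M) φ) fun f => hgen f
  exact Module.Free.of_equiv (Module.evalEquiv R M).symm

end Groth.Agent.Lib.RefHull.UFDRankOne
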