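import Groth.Agent.Lib.RefHull.ExtHull
import Groth.Agent.Lib.RefHull.UFDRankOne
import Groth.Agent.Lib.RefHull.SecHom
import Groth.Prelude.Def_TorSh

/-!
# Reflexive modules on regular schemes
-/

universe u

noncomputable section

open CategoryTheory AlgebraicGeometry TopologicalSpace Opposite

namespace Groth.Agent.Lib.RefHull.RegNormal

open Groth.Agent.Lib Generic Ord RankOne

variable {X : Scheme.{u}} [IsIntegral X] [IsLocallyNoetherian X]

/-- A rank one reflexive module on a regular scheme is invertible. -/
theorem isInvertible (hreg : ∀ x : ↥X, IsRegularLocalRing ↑(X.presheaf.stalk x)) {H : X.Modules}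
    (hH : RefHull.IsRef1 H) : PicF.IsInvertible H := by
  haveI := hH.1.1
  obtain ⟨t, ht0, ht⟩ := exists_basis_generic hH.2.2
  have hfree : ∀ x : X, Module.Free (X.presheaf.stalk x) (H.presheaf.stalk x) := fun x => by
    haveI := hreg x
    haveI : Module.IsReflexive (X.presheaf.stalk x) (H.presheaf.stalk x) :=
      (Reflexive.isReflexive_iff_forall hH.1).mp hH.2.1 x
    haveI := Reflexive.finite_stalk hH.1 x
    haveI := Regular.UFD.uniqueFactorizationMonoid (X.presheaf.stalk x)
    -- coordinates with respect to the generic generator, denominators cleared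
    choose c hc using fun v => ht (toGen H x v)
    obtain ⟨S, hS⟩ := (inferInstance : Module.Finite (X.presheaf.stalk x) (H.presheaf.stalk x)).fg_top
    classical
    obtain ⟨b, hb⟩ := IsLocalization.exist_integer_multiples_of_finset
      (nonZeroDivisors (X.presheaf.stalk x)) (S.image c)
    have hcancel : ∀ {p q : X.functionField}, p • t = q • t → p = q :=
      fun {p q} h => smul_left_injective' hH.2.2 ht0 h
    let C : H.presheaf.stalk x →ₗ[X.presheaf.stalk x] X.functionField :=
      { toFun := c
        map_add' := fun v w => hcancel (by rw [add_smul, hc, hc, hc, map_add])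
        map_smul' := fun r v => hcancel (by
          rw [RingHom.id_apply, Algebra.smul_def, mul_smul, hc, hc, toGen_smul]) }
    have hint : ∀ v, IsLocalization.IsInteger (X.presheaf.stalk x) ((b : X.presheaf.stalk x) • C v) := fun v => by
      have hv : v ∈ Submodule.span (X.presheaf.stalk x) (S : Set (H.presheaf.stalk x)) := hS ▸ Submodule.mem_top
      induction hv using Submodule.span_induction with
      | mem v hv => exact hb _ (Finset.mem_image_of_mem c hv)
      | zero => rw [map_zero, smul_zero]; exact IsLocalization.isInteger_zero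
      | add p q _ _ hp hq => rw [map_add, smul_add]; exact IsLocalization.isInteger_add hp hq
      | smul r p _ hp => rw [map_smul, smul_comm]; exact IsLocalization.isInteger_smul hp
    choose θ hθ using hint
    have hinjA := IsFractionRing.injective (X.presheaf.stalk x) X.functionField
    let Θ : H.presheaf.stalk x →ₗ[X.presheaf.stalk x] X.presheaf.stalk x :=
      { toFun := θ
        map_add' := fun v w => hinjA (by rw [map_add, hθ, hθ, hθ, map_add, smul_add])
        map_smul' := fun r v => hinjA (by
          rw [RingHom.id_apply, smul_eq_mul, map_mul, hθ, hθ, map_smul, smul_comm, Algebra.smul_def r]) }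
    refine UFDRankOne.free_of_rank_one _ Θ fun v w h => ?_
    have h' := congrArg (algebraMap (X.presheaf.stalk x) X.functionField) (show θ v = θ w from h)
    rw [hθ, hθ, Algebra.smul_def, Algebra.smul_def] at h'
    have h'' : c v = c w := mul_left_cancel₀ (algebraMap_ne_zero (nonZeroDivisors.ne_zero b.2)) h'
    exact toGen_injective_of_isReflexive hH.1 hH.2.1 x (by rw [← hc, ← hc, h''])
  refine TensorMod.LocFree.isInvertible_of_rank_one fun x => ?_
  obtain ⟨U, n, hx, ⟨i⟩⟩ := LocFree.isFinLocFree hH.1 hfree x
  obtain ⟨s, hs⟩ := CurveBundle.Coherent.exists_basis_sections i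
  have hη := (spec x).mem_open U.isOpen hx
  let b : Module.Basis (Fin n) X.functionField (H.presheaf.stalk (genericPoint ↥X)) :=
    Module.Basis.mk (hs _ hη).1 (hs _ hη).2.ge
  have h1 : Module.finrank X.functionField (H.presheaf.stalk (genericPoint ↥X)) = 1 :=
    finrank_eq_one t ht0 ht
  rw [Module.finrank_eq_card_basis b, Fintype.card_fin] at h1
  subst h1
  exact ⟨U, hx, ⟨i⟩⟩

/-- Non free points of reflexive modules have codimension at least three. -/
theorem three_le_dim (hreg : ∀ x : ↥X, IsRegularLocalRing ↑(X.presheaf.stalk x)) {F : X.Modules}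
    (hF : Coh.IsCoh F) (hr : RefHull.IsReflexive F) (x : X)
    (hx : ¬ Module.Free (X.presheaf.stalk x) (F.presheaf.stalk x)) :
    (3 : WithBot ℕ∞) ≤ ringKrullDim (X.presheaf.stalk x) := by
  haveI := hreg x
  haveI : Module.IsReflexive (X.presheaf.stalk x) (F.presheaf.stalk x) :=
    (Reflexive.isReflexive_iff_forall hF).mp hr x
  haveI := Reflexive.finite_stalk hF x
  by_contra h
  refine hx (DimTwo.free_of_isReflexive ?_ _)
  have h1 := IsRegularLocalRing.spanFinrank_maximalIdeal (R := X.presheaf.stalk x)
  rw [← h1] at h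
  by_contra h2
  exact h (by exact_mod_cast (not_le.mp h2 : 2 < _))

set_option maxHeartbeats 1600000 in
/-- Reflexive is torsion free and normal. -/
theorem isReflexive_iff (hreg : ∀ x : ↥X, IsRegularLocalRing ↑(X.presheaf.stalk x)) {F : X.Modules}
    (hF : Coh.IsCoh F) :
    RefHull.IsReflexive F ↔
      TorSh.IsTorsionFree F ∧
      (∀ (U V : X.Opens) (hVU : V ≤ U),
        (∀ x : X, x ∈ U → x ∉ V → (2 : WithBot ℕ∞) ≤ ringKrullDim (X.presheaf.stalk x)) →
        Function.Bijective (F.presheaf.map (homOfLE hVU).op)) := by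
  haveI := hF.1
  have hX := ExtHull.isNormal hreg
  have hηU : ∀ (U V : X.Opens),
      (∀ x : X, x ∈ U → x ∉ V → (2 : WithBot ℕ∞) ≤ ringKrullDim (X.presheaf.stalk x)) →
      ∀ z ∈ U, genericPoint ↥X ∈ V := fun U V h z hz => by
    by_contra hn
    have h2 := h _ ((spec z).mem_open U.isOpen hz) hn
    rw [ringKrullDim_eq_zero_of_isField (Field.toIsField X.functionField)] at h2
    exact absurd h2 (by decide)
  constructor
  · intro hr
    have hall := (Reflexive.isReflexive_iff_forall hF).mp hr
    have hinj := toGen_injective_of_isReflexive hF hr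
    refine ⟨fun x => Module.IsTorsionFree.mk fun a ha => fun p q h => ?_, fun U V hVU hcod => ⟨?_, ?_⟩⟩
    · haveI := hall x
      exact sub_eq_zero.mp (DualAlg.smul_eq_zero_imp (hall x).bijective_dual_eval'.1 ha.ne_zero
        (by rw [smul_sub]; exact sub_eq_zero.mpr h))
    · intro a b h
      refine SecHom.sec_ext fun z hz => hinj z ?_
      have hη := hηU U V hcod z hz
      rw [toGen_germ, toGen_germ, ← TopCat.Presheaf.germ_res_apply F.presheaf (homOfLE hVU) _ hη a,
        ← TopCat.Presheaf.germ_res_apply F.presheaf (homOfLE hVU) _ hη b]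
      exact congrArg _ h
    · intro n
      rcases Set.eq_empty_or_nonempty (U : Set X) with he | ⟨z₀, hz₀⟩
      · refine ⟨0, SecHom.sec_ext fun z hz => absurd (hVU hz) (fun h => ?_)⟩
        exact (Set.eq_empty_iff_forall_notMem.mp he) z h
      have hη := hηU U V hcod z₀ hz₀
      have hmem : ∀ x : U, ∃ v, toGen F x.1 v = F.presheaf.germ V _ hη n := fun x => by
        refine mem_range_toGen hX hF (hall x.1) _ fun y hyx hy => ?_
        have hyV : y ∈ V := by
          by_contra hn
          have h2 := hcod y (hyx.mem_open U.isOpen x.2) hn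
          rw [hy] at h2
          exact absurd h2 (by decide)
        exact ⟨F.presheaf.germ V y hyV n, toGen_germ hyV n⟩
      choose v hv using hmem
      obtain ⟨m, hm⟩ := SecHom.exists_glue U v fun x => by
        obtain ⟨W, hW, m, hm⟩ := TopCat.Presheaf.exists_germ_eq F.presheaf (v x)
        refine ⟨W ⊓ U, Opens.mem_inf.mpr ⟨hW, x.2⟩, inf_le_right, TensorMod.Dual.rs F inf_le_left m,
          fun y => hinj y.1 ?_⟩
        refine (hv ⟨y.1, y.2.2⟩).trans ?_
        rw [SecHom.germ_rs, toGen_germ]
        have e := hv x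
        rw [← hm, toGen_germ] at e
        exact e.symm
      refine ⟨m, SecHom.sec_ext fun z hz => hinj z ?_⟩
      rw [TopCat.Presheaf.germ_res_apply, hm ⟨z, hVU hz⟩]
      exact (hv ⟨z, hVU hz⟩).trans (toGen_germ hz n).symm
  · rintro ⟨htf, hnorm⟩
    have hinj : ∀ x, Function.Injective (toGen F x) := fun x => toGen_injective x fun a v ha e => by
      haveI := htf x
      by_contra hv
      exact hv ((Module.IsTorsionFree.isSMulRegular (mem_nonZeroDivisors_of_ne_zero ha |> fun h =>
        isRegular_iff_mem_nonZeroDivisors.mpr h)) (show a • v = a • 0 by rw [e, smul_zero]))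
    let H := RefHull.ddual F
    have hH : Coh.IsCoh H := Reflexive.isCoh_ddual hF
    have hHinj := toGen_injective_of_isReflexive hH (Reflexive.isReflexive_dual (Reflexive.isCoh_dual hF))
    let β := RefHull.stalkMapₗ (RefHull.bidualMap F)
    have hbη := stalkMap_bidual_bijective_genericPoint hF
    let W : X.Opens := ⟨_, LocFree.isOpen_free hF⟩
    have hW : ∀ y : X, ringKrullDim (X.presheaf.stalk y) ≤ 1 → y ∈ W := fun y hy => by
      haveI := hreg y
      haveI := LocFree.isPrincipalIdealRing_of_regular (X.presheaf.stalk y) hy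
      haveI := Reflexive.finite_stalk hF y
      haveI := htf y
      show Module.Free _ _
      infer_instance
    have hbW : ∀ y ∈ W, Function.Bijective (β y) := fun y hy => by
      haveI : Module.Free (X.presheaf.stalk y) (F.presheaf.stalk y) := hy
      haveI := Reflexive.finite_stalk hF y
      exact (Reflexive.bijective_stalkMap_bidual_iff hF y).mpr
        (inferInstance : Module.IsReflexive (X.presheaf.stalk y) (F.presheaf.stalk y))
    refine (Modules.StalkModule.isIso_iff_stalkMapₗ_bijective _).mpr fun x => ⟨fun a b h => ?_, fun w => ?_⟩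
    · refine hinj x (hbη.1 ?_)
      rw [← toGen_stalkMap, ← toGen_stalkMap]
      exact congrArg _ h
    · obtain ⟨U, hxU, h, rfl⟩ := TopCat.Presheaf.exists_germ_eq H.presheaf w
      choose v hv using fun y : (U ⊓ W : X.Opens) =>
        (hbW y.1 (Opens.mem_inf.mp y.2).2).2 (H.presheaf.germ U y.1 (Opens.mem_inf.mp y.2).1 h)
      have hη : genericPoint ↥X ∈ U := (spec x).mem_open U.isOpen hxU
      have hgv : ∀ y, β (genericPoint ↥X) (toGen F y.1 (v y)) = H.presheaf.germ U _ hη h := fun y => by
        show RefHull.stalkMapₗ (RefHull.bidualMap F) _ _ = _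
        rw [← toGen_stalkMap]
        exact (congrArg (toGen H y.1) (hv y)).trans (toGen_germ _ h)
      obtain ⟨n, hn⟩ := SecHom.exists_glue (U ⊓ W) v fun y => by
        obtain ⟨T, hT, m, hm⟩ := TopCat.Presheaf.exists_germ_eq F.presheaf (v y)
        refine ⟨T ⊓ (U ⊓ W), Opens.mem_inf.mpr ⟨hT, y.2⟩, inf_le_right, TensorMod.Dual.rs F inf_le_left m,
          fun z => hinj z.1 ?_⟩
        rw [SecHom.germ_rs, toGen_germ]
        refine hbη.1 ((hgv ⟨z.1, (Opens.mem_inf.mp z.2).2⟩).trans ?_)
        rw [← hgv y, ← hm, toGen_germ]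
      obtain ⟨m, hm⟩ := (hnorm U (U ⊓ W) inf_le_left fun z hz hzn => by
        by_contra hd
        refine hzn (Opens.mem_inf.mpr ⟨hz, hW z ?_⟩)
        rcases hdim : ringKrullDim (X.presheaf.stalk z) with _ | d
        · exact bot_le
        · rw [hdim] at hd
          cases d with
          | top => exact absurd le_top hd
          | coe d =>
            have : ¬ (2 ≤ d) := fun h2 => hd (WithBot.coe_le_coe.mpr (WithTop.coe_le_coe.mpr h2))
            exact WithBot.coe_le_coe.mpr (WithTop.coe_le_coe.mpr (show d ≤ 1 by omega))).2 n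
      refine ⟨F.presheaf.germ U x hxU m, hHinj x ?_⟩
      change toGen H x (RefHull.stalkMapₗ (RefHull.bidualMap F) x _) = _
      rw [toGen_stalkMap, toGen_germ, toGen_germ]
      have hηW : genericPoint ↥X ∈ U ⊓ W := Opens.mem_inf.mpr ⟨hη, hW _ (by
        rw [ringKrullDim_eq_zero_of_isField (Field.toIsField X.functionField)]; exact zero_le_one)⟩
      rw [← TopCat.Presheaf.germ_res_apply F.presheaf (homOfLE inf_le_left) _ hηW m, hm]
      have := hgv ⟨_, hηW⟩
      rw [← hn ⟨_, hηW⟩, toGen_germ] at this
      exact this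

end Groth.Agent.Lib.RefHull.RegNormal
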