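import Groth.Agent.Lib.RefHull.Ord
import Mathlib.AlgebraicGeometry.AlgebraicCycle.Basic

/-!
# Divisors of rational sections of rank one reflexive modules
-/

universe u

noncomputable section

open CategoryTheory AlgebraicGeometry TopologicalSpace Opposite

namespace Groth.Agent.Lib.RefHull.Divisor

open Groth.Agent.Lib Groth.Agent.Lib.TensorMod Groth.Agent.Lib.TensorMod.Dual SecHom Generic RankOne Ord

variable {X : Scheme.{u}} [IsIntegral X] [IsLocallyNoetherian X]

/-- Only finitely many codimension one points of an affine open avoid a given nonempty open. -/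
theorem finite_not_mem {U W : X.Opens} (hU : IsAffineOpen U) (hW : genericPoint ↥X ∈ W) :
    {y : X | y ∈ U ∧ Order.coheight y = 1 ∧ y ∉ W}.Finite := by
  rcases Set.eq_empty_or_nonempty {y : X | y ∈ U ∧ Order.coheight y = 1 ∧ y ∉ W} with h | ⟨y₀, hy₀⟩
  · rw [h]; exact Set.finite_empty
  haveI : IsNoetherianRing Γ(X, U) := IsLocallyNoetherian.component_noetherian ⟨U, hU⟩
  have hηU : genericPoint ↥X ∈ U := (spec y₀).mem_open U.isOpen hy₀.1
  haveI : Nonempty U := ⟨⟨_, hηU⟩⟩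
  obtain ⟨f, hfW, hf⟩ := hU.exists_basicOpen_le (⟨_, hW⟩ : W) hηU
  let T : Set X := {y | ∃ (q : Ideal Γ(X, U)) (_ : q ∈ (Ideal.span {f}).minimalPrimes) (hy : y ∈ U),
    (hU.primeIdealOf ⟨y, hy⟩).asIdeal = q}
  have hT : T.Finite := by
    refine ((Ideal.finite_minimalPrimes_of_isNoetherianRing Γ(X, U) (Ideal.span {f})).biUnion
      fun q _ => (Set.Subsingleton.finite (s := {y : X | ∃ hy : y ∈ U,
        (hU.primeIdealOf ⟨y, hy⟩).asIdeal = q}) ?_)).subset ?_
    · rintro a ⟨ha, ea⟩ b ⟨hb, eb⟩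
      have e := congrArg hU.fromSpec (PrimeSpectrum.ext (ea.trans eb.symm))
      rwa [hU.fromSpec_primeIdealOf, hU.fromSpec_primeIdealOf] at e
    · rintro y ⟨q, hq, hy, e⟩
      exact Set.mem_biUnion hq ⟨hy, e⟩
  refine hT.subset ?_
  rintro y ⟨hyU, hy1, hyW⟩
  set p := (hU.primeIdealOf ⟨y, hyU⟩).asIdeal with hp
  have hfp : f ∈ p := by
    by_contra h
    refine hyW (hfW ?_)
    have e : hU.primeIdealOf ⟨y, hyU⟩ ∈ hU.fromSpec ⁻¹ᵁ X.basicOpen f := by
      rw [hU.fromSpec_preimage_basicOpen]; exact (PrimeSpectrum.mem_basicOpen _ _).mpr h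
    have e' : hU.fromSpec (hU.primeIdealOf ⟨y, hyU⟩) ∈ X.basicOpen f := e
    rwa [hU.fromSpec_primeIdealOf] at e'
  have hh : p.height = 1 := by
    have h := Ideal.Prime.ringKrullDim_stalk_eq_height hU hyU
    rw [dim_eq_one_iff.mpr hy1] at h
    exact_mod_cast h.symm
  refine ⟨p, ⟨⟨inferInstance, (Ideal.span_singleton_le_iff_mem _).mpr hfp⟩,
    fun q ⟨hq, hfq⟩ hqp => ?_⟩, hyU, rfl⟩
  rcases hqp.eq_or_lt with rfl | hlt
  · exact le_rfl
  haveI := hq
  have h2 := Ideal.height_add_one_le_of_lt_of_isPrime hlt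
  rw [hh] at h2
  have h0 : q.height = 0 := by
    rcases eq_or_ne q.height 0 with h' | h'
    · exact h'
    · exact absurd ((add_le_add (Order.one_le_iff_pos.mpr (pos_iff_ne_zero.mpr h')) le_rfl).trans h2)
        (by decide)
  haveI : IsDomain Γ(X, U) := inferInstance
  have hf0 : f ≠ 0 := fun h => by
    rw [h, Scheme.basicOpen_zero] at hf
    exact hf
  exfalso
  refine hf0 ?_
  have : f ∈ q := hfq (Ideal.subset_span rfl)
  rwa [Ideal.height_eq_zero_iff_eq_bot.mp h0, Ideal.mem_bot] at this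

variable (hX : Pi1.IsNormalScheme X) {F G : X.Modules}

include hX in
/-- The divisor of a rational section is supported off a neighbourhood of the generic point. -/
theorem exists_open_secOrd_eq_zero (hF : RefHull.IsRef1 F)
    {v : F.presheaf.stalk (genericPoint ↥X)} (hv : v ≠ 0) :
    ∃ O : X.Opens, genericPoint ↥X ∈ O ∧ ∀ y ∈ O, Order.coheight y = 1 → secOrd F v y = 0 := by
  obtain ⟨W, e, hW, he⟩ := exists_isGen hF.2.2
  have he0 : F.presheaf.germ W _ hW e ≠ 0 := fun h0 => by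
    obtain ⟨V, hV, i, j, hij⟩ := TopCat.Presheaf.germ_eq F.presheaf _ hW hW e 0 (by rw [h0, map_zero])
    have h1 : (1 : Γ(X, V)) • rs F i.le e = (0 : Γ(X, V)) • rs F i.le e := by
      rw [one_smul, zero_smul]
      exact hij.trans (map_zero _)
    have h2 := congrArg (X.presheaf.germ V _ hV) ((he V i.le).1 h1)
    rw [map_one, map_zero] at h2
    exact one_ne_zero h2
  obtain ⟨φ, hφ⟩ := span_of_ne_zero hF.2.2 he0 v
  have hφ0 : φ ≠ 0 := fun h => hv (by rw [← hφ, h, zero_smul])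
  obtain ⟨V, hV, f, rfl⟩ := TopCat.Presheaf.exists_germ_eq X.presheaf φ
  have hfη : genericPoint ↥X ∈ X.basicOpen f :=
    (X.mem_basicOpen f _ hV).mpr (isUnit_iff_ne_zero.mpr hφ0)
  refine ⟨W ⊓ X.basicOpen f, ⟨hW, hfη⟩, fun y hy hy1 => ?_⟩
  have hyV : y ∈ V := X.basicOpen_le f (Opens.mem_inf.mp hy).2
  have hyW : y ∈ W := (Opens.mem_inf.mp hy).1
  have ht : Submodule.span (X.presheaf.stalk y) {F.presheaf.germ W y hyW e} = ⊤ := by
    refine eq_top_iff.mpr fun w _ => ?_
    obtain ⟨V', hyV', m, rfl⟩ := TopCat.Presheaf.exists_germ_eq F.presheaf w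
    obtain ⟨a, ha⟩ := (he (V' ⊓ W) inf_le_right).2 (rs F inf_le_left m)
    have hy' : y ∈ V' ⊓ W := Opens.mem_inf.mpr ⟨hyV', hyW⟩
    refine Submodule.mem_span_singleton.mpr ⟨X.presheaf.germ (V' ⊓ W) y hy' a, ?_⟩
    have e' := congrArg (F.presheaf.germ (V' ⊓ W) y hy') ha
    dsimp only at e'
    erw [Mero.germ_smul] at e'
    rw [germ_rs, germ_rs] at e'
    exact e'
  rw [secOrd_eq hX hy1 hF.2.2 ht hv
    (φ := algebraMap (X.presheaf.stalk y) X.functionField (X.presheaf.germ V y hyV f))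
    (by rw [algebraMap_germ, toGen_germ]; exact hφ)]
  exact ord_of_isUnit hX hy1 ((X.mem_basicOpen f y hyV).mp hy.2)

include hX in
theorem finite_support (hF : RefHull.IsRef1 F) {v : F.presheaf.stalk (genericPoint ↥X)} (hv : v ≠ 0)
    {U : X.Opens} (hU : IsAffineOpen U) :
    {y : X | y ∈ U ∧ Order.coheight y = 1 ∧ secOrd F v y ≠ 0}.Finite := by
  obtain ⟨O, hO, h⟩ := exists_open_secOrd_eq_zero hX hF hv
  exact (finite_not_mem hU hO).subset fun y ⟨hyU, hy1, hy0⟩ => ⟨hyU, hy1, fun hyO => hy0 (h y hyO hy1)⟩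

include hX in
/-- The Weil divisor of a rational section. -/
theorem exists_cycle (hF : RefHull.IsRef1 F) {v : F.presheaf.stalk (genericPoint ↥X)} (hv : v ≠ 0) :
    ∃ D : AlgebraicCycle X ℤ, (∀ x : ↥X, Order.coheight x ≠ 1 → D x = 0) ∧
      ∀ x : ↥X, Order.coheight x = 1 → D x = secOrd F v x := by
  classical
  refine ⟨⟨fun x => if Order.coheight x = 1 then secOrd F v x else 0, Set.subset_univ _, fun z _ => ?_⟩,
    fun x hx => if_neg hx, fun x hx => if_pos hx⟩
  obtain ⟨U, hU, hzU, -⟩ := exists_isAffineOpen_mem_and_subset (X := X) (x := z) (Opens.mem_top z)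
  refine ⟨U, U.isOpen.mem_nhds hzU, (finite_support hX hF hv hU).subset ?_⟩
  rintro y ⟨hyU, hy⟩
  by_cases hy1 : Order.coheight y = 1
  · exact ⟨hyU, hy1, by simpa [Function.mem_support, hy1] using hy⟩
  · simp [Function.mem_support, hy1] at hy

/-- Equality of rational sections transported by an isomorphism preserves orders. -/
theorem secOrd_iso (hX : Pi1.IsNormalScheme X) (hF : RefHull.IsRef1 F) (hG : RefHull.IsRef1 G)
    (e : F ≅ G) {x : X} (hx : Order.coheight x = 1) {v : F.presheaf.stalk (genericPoint ↥X)}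
    (hv : v ≠ 0) :
    secOrd G (RefHull.stalkMapₗ e.hom (genericPoint ↥X) v) x = secOrd F v x := by
  obtain ⟨t, ht, ht0⟩ := exists_generator hX hx hF
  obtain ⟨φ, hφ⟩ := span_of_ne_zero hF.2.2 ht0 v
  have hb : ∀ y, Function.Bijective (RefHull.stalkMapₗ e.hom y) :=
    (Modules.StalkModule.isIso_iff_stalkMapₗ_bijective e.hom).mp inferInstance
  have ht' : Submodule.span (X.presheaf.stalk x) {RefHull.stalkMapₗ e.hom x t} = ⊤ := by
    rw [← Set.image_singleton, Submodule.span_image, ht, Submodule.map_top, LinearMap.range_eq_top]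
    exact (hb x).2
  have hv' : RefHull.stalkMapₗ e.hom (genericPoint ↥X) v ≠ 0 :=
    fun h => hv ((hb _).1 (h.trans (map_zero _).symm))
  rw [secOrd_eq hX hx hF.2.2 ht hv hφ, secOrd_eq hX hx hG.2.2 ht' hv' (φ := φ)
    (by rw [toGen_stalkMap, ← map_smul, hφ])]

/-- A morphism exists when orders increase. -/
theorem exists_map (hX : Pi1.IsNormalScheme X) (hF : RefHull.IsRef1 F) (hG : RefHull.IsRef1 G)
    {s : F.presheaf.stalk (genericPoint ↥X)} (hs : s ≠ 0)
    {t : G.presheaf.stalk (genericPoint ↥X)} (ht : t ≠ 0)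
    (h : ∀ x : X, Order.coheight x = 1 → secOrd F s x ≤ secOrd G t x) :
    ∃ ψ : F ⟶ G, RefHull.stalkMapₗ ψ (genericPoint ↥X) s = t := by
  haveI := hG.1.1
  choose c hc using span_of_ne_zero hF.2.2 hs
  have key : ∀ (w : F.presheaf.stalk (genericPoint ↥X)) (a : X.functionField), a • s = w → c w = a :=
    fun w a ha => smul_left_injective' hF.2.2 hs ((hc w).trans ha.symm)
  let T : F.presheaf.stalk (genericPoint ↥X) →ₗ[X.presheaf.stalk (genericPoint ↥X)]
      G.presheaf.stalk (genericPoint ↥X) :=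
    { toFun := fun w => c w • t
      map_add' := fun a b => by rw [key (a + b) (c a + c b) (by rw [add_smul, hc, hc]), add_smul]
      map_smul' := fun r a => by
        rw [RingHom.id_apply, key (r • a) (r * c a) (by rw [mul_smul, hc]), mul_smul] }
  obtain ⟨ψ, hψ⟩ := exists_hom (toGen_injective_of_isReflexive hG.1 hG.2.1) T fun x v => by
    refine mem_range_toGen hX hG.1 ((Reflexive.isReflexive_iff_forall hG.1).mp hG.2.1 x) _
      fun y hyx hy => ?_
    have hy1 := dim_eq_one_iff.mp hy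
    change ∃ w, toGen G y w = c (toGen F x v) • t
    rcases eq_or_ne (c (toGen F x v)) 0 with h0 | h0
    · exact ⟨0, by rw [map_zero, h0, zero_smul]⟩
    have hct : c (toGen F x v) • t ≠ 0 := fun e => ht ((isUnit_iff_ne_zero.mpr h0).smul_eq_zero.mp e)
    have hcs : c (toGen F x v) • s ≠ 0 := fun e => hs ((isUnit_iff_ne_zero.mpr h0).smul_eq_zero.mp e)
    rw [mem_range_toGen_iff hX hy1 hG hct, secOrd_smul hX hy1 hG ht h0]
    have h1 := (mem_range_toGen_iff hX hy1 hF hcs).mp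
      ⟨(F.presheaf.stalkSpecializes hyx).hom v, by rw [toGen_spec, hc]⟩
    rw [secOrd_smul hX hy1 hF hs h0] at h1
    exact h1.trans (add_le_add le_rfl (h y hy1))
  refine ⟨ψ, ?_⟩
  rw [hψ]
  change c s • t = t
  rw [key s 1 (one_smul _ _), one_smul]

/-- Equal divisors give isomorphic modules. -/
theorem exists_iso (hX : Pi1.IsNormalScheme X) (hF : RefHull.IsRef1 F) (hG : RefHull.IsRef1 G)
    {s : F.presheaf.stalk (genericPoint ↥X)} (hs : s ≠ 0)
    {t : G.presheaf.stalk (genericPoint ↥X)} (ht : t ≠ 0)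
    (h : ∀ x : X, Order.coheight x = 1 → secOrd F s x = secOrd G t x) :
    ∃ e : F ≅ G, RefHull.stalkMapₗ e.hom (genericPoint ↥X) s = t := by
  obtain ⟨ψ, hψ⟩ := exists_map hX hF hG hs ht fun x hx => (h x hx).le
  obtain ⟨χ, hχ⟩ := exists_map hX hG hF ht hs fun x hx => (h x hx).ge
  refine ⟨⟨ψ, χ, hom_ext (toGen_injective_of_isReflexive hF.1 hF.2.1) (LinearMap.ext fun w => ?_),
    hom_ext (toGen_injective_of_isReflexive hG.1 hG.2.1) (LinearMap.ext fun w => ?_)⟩, hψ⟩
  · obtain ⟨a, rfl⟩ := span_of_ne_zero hF.2.2 hs w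
    change Modules.StalkModule.stalkMapₗ (ψ ≫ χ) _ (a • s) = Modules.StalkModule.stalkMapₗ (𝟙 F) _ (a • s)
    rw [Modules.StalkModule.stalkMapₗ_comp, Modules.StalkModule.stalkMapₗ_id, LinearMap.id_apply,
      LinearMap.comp_apply]
    change RefHull.stalkMapₗ χ _ (RefHull.stalkMapₗ ψ _ (a • s)) = a • s
    rw [map_smul, map_smul, hψ, hχ]
  · obtain ⟨a, rfl⟩ := span_of_ne_zero hG.2.2 ht w
    change Modules.StalkModule.stalkMapₗ (χ ≫ ψ) _ (a • t) = Modules.StalkModule.stalkMapₗ (𝟙 G) _ (a • t)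
    rw [Modules.StalkModule.stalkMapₗ_comp, Modules.StalkModule.stalkMapₗ_id, LinearMap.id_apply,
      LinearMap.comp_apply]
    change RefHull.stalkMapₗ ψ _ (RefHull.stalkMapₗ χ _ (a • t)) = a • t
    rw [map_smul, map_smul, hχ, hψ]

theorem iso_iff (hX : Pi1.IsNormalScheme X) (hF : RefHull.IsRef1 F) (hG : RefHull.IsRef1 G)
    {s : F.presheaf.stalk (genericPoint ↥X)} (hs : s ≠ 0)
    {t : G.presheaf.stalk (genericPoint ↥X)} (ht : t ≠ 0) :
    Nonempty (F ≅ G) ↔ ∃ f : X.functionField, f ≠ 0 ∧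
      ∀ x : X, Order.coheight x = 1 → secOrd F s x = secOrd G t x + Scheme.ord f x := by
  constructor
  · rintro ⟨e⟩
    obtain ⟨f, hf⟩ := span_of_ne_zero hG.2.2 ht (RefHull.stalkMapₗ e.hom (genericPoint ↥X) s)
    have hb : Function.Injective (RefHull.stalkMapₗ e.hom (genericPoint ↥X)) :=
      ((Modules.StalkModule.isIso_iff_stalkMapₗ_bijective e.hom).mp inferInstance _).1
    have hf0 : f ≠ 0 := fun h => hs (hb (by rw [← hf, h, zero_smul, map_zero]))
    exact ⟨f, hf0, fun x hx => by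
      rw [← secOrd_iso hX hF hG e hx hs, ← hf, secOrd_smul hX hx hG ht hf0, add_comm]⟩
  · rintro ⟨f, hf0, hf⟩
    have hft : f • t ≠ 0 := fun e => ht ((isUnit_iff_ne_zero.mpr hf0).smul_eq_zero.mp e)
    obtain ⟨e, -⟩ := exists_iso hX hF hG hs hft fun x hx => by
      rw [hf x hx, secOrd_smul hX hx hG ht hf0, add_comm]
    exact ⟨e⟩

end Groth.Agent.Lib.RefHull.Divisor
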