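import Mathlib.LinearAlgebra.Dual.Lemmas
import Mathlib.LinearAlgebra.LinearIndependent.Lemmas
import Mathlib.Algebra.Module.Torsion.Basic
import Mathlib.LinearAlgebra.FreeModule.PID
import Mathlib.RingTheory.PrincipalIdealDomain

/-!
# Duals of finite modules over a domain
-/

universe u v w

namespace Groth.Agent.Lib.RefHull.DualAlg

open Module

variable {R : Type u} [CommRing R] [IsDomain R]
variable {M : Type v} [AddCommGroup M] [Module R M]
variable {N : Type w} [AddCommGroup N] [Module R N]

/-- A finite module over a domain is, up to a nonzero scalar, spanned by a finite family with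
coordinate functionals. -/
theorem exists_coord (R : Type u) [CommRing R] [IsDomain R] (M : Type v) [AddCommGroup M]
    [Module R M] [Module.Finite R M] :
    ∃ (ι : Type) (_ : Fintype ι) (c : R) (e : ι → M) (θ : ι → M →ₗ[R] R),
      c ≠ 0 ∧ ∀ m, c • m = ∑ i, θ i m • e i := by
  classical
  obtain ⟨n, s, hs⟩ := Module.Finite.exists_fin (R := R) (M := M)
  obtain ⟨I, hI, hmax⟩ := exists_maximal_linearIndepOn R s
  have hI' : LinearIndependent R fun i : I => s i := hI
  let B := Basis.span hI'
  choose a ha0 ha using hmax
  let a' : Fin n → R := fun i => if h : i ∈ I then 1 else a i h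
  have ha'0 : ∀ i, a' i ≠ 0 := fun i => by
    by_cases h : i ∈ I
    · simp [a', h]
    · simpa [a', h] using ha0 i h
  have ha' : ∀ i, a' i • s i ∈ Submodule.span R (Set.range fun i : I => s i) := fun i => by
    by_cases h : i ∈ I
    · simp only [a', h, dite_true, one_smul]
      exact Submodule.subset_span ⟨⟨i, h⟩, rfl⟩
    · simp only [a', h, dite_false]
      refine Submodule.span_mono ?_ (ha i h)
      rintro _ ⟨j, hj, rfl⟩
      exact ⟨⟨j, hj⟩, rfl⟩
  let c : R := ∏ i, a' i
  have hmem : ∀ m : M, c • m ∈ Submodule.span R (Set.range fun i : I => s i) := fun m => by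
    have hm : m ∈ Submodule.span R (Set.range s) := hs.symm ▸ trivial
    induction hm using Submodule.span_induction with
    | mem x hx =>
      obtain ⟨j, rfl⟩ := hx
      have hc : c = (∏ i ∈ Finset.univ.erase j, a' i) * a' j :=
        (Finset.prod_erase_mul _ _ (Finset.mem_univ j)).symm
      rw [hc, mul_smul]
      exact Submodule.smul_mem _ _ (ha' j)
    | zero => simp
    | add x y _ _ hx hy => rw [smul_add]; exact Submodule.add_mem _ hx hy
    | smul r x _ hx => rw [smul_comm]; exact Submodule.smul_mem _ _ hx
  let f : M →ₗ[R] Submodule.span R (Set.range fun i : I => s i) :=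
    (DistribSMul.toLinearMap R M c).codRestrict _ hmem
  refine ⟨I, inferInstance, c, fun i => s i, fun i => (B.coord i).comp f,
    Finset.prod_ne_zero_iff.mpr fun i _ => ha'0 i, fun m => ?_⟩
  have h := congrArg Subtype.val (B.sum_repr (f m))
  simp only [Submodule.coe_sum, Submodule.coe_smul] at h
  refine h.symm.trans (Finset.sum_congr rfl fun i _ => ?_)
  congr 1
  exact congrArg Subtype.val (Basis.span_apply hI' i)

/-- The bidual of a finite module over a domain is the image of the evaluation up to torsion. -/
theorem exists_smul_eval [Module.Finite R M] :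
    ∃ c : R, c ≠ 0 ∧ ∀ ψ : Dual R (Dual R M), ∃ m, c • ψ = Dual.eval R M m := by
  classical
  obtain ⟨ι, hι, c, e, θ, hc, h⟩ := exists_coord R M
  refine ⟨c, hc, fun ψ => ⟨∑ i, ψ (θ i) • e i, LinearMap.ext fun η => ?_⟩⟩
  have hη : c • η = ∑ i, η (e i) • θ i := LinearMap.ext fun m => by
    have hm := congrArg η (h m)
    rw [map_smul, map_sum] at hm
    rw [LinearMap.smul_apply, hm, LinearMap.sum_apply]
    exact Finset.sum_congr rfl fun i _ => by
      rw [map_smul, LinearMap.smul_apply, smul_eq_mul, smul_eq_mul, mul_comm]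
  rw [LinearMap.smul_apply, ← map_smul, hη, Dual.eval_apply, map_sum, map_sum]
  exact Finset.sum_congr rfl fun i _ => by
    rw [map_smul, map_smul, smul_eq_mul, smul_eq_mul, mul_comm]

/-- The dual of a finite module over a domain is reflexive. -/
theorem isReflexive_dual [Module.Finite R M] : IsReflexive R (Dual R M) := by
  obtain ⟨c, hc, h⟩ := exists_smul_eval (R := R) (M := M)
  refine ⟨⟨fun a b hab => LinearMap.ext fun m => ?_, fun φ => ⟨φ.comp (Dual.eval R M), LinearMap.ext fun ψ => ?_⟩⟩⟩
  · have := LinearMap.congr_fun hab (Dual.eval R M m)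
    simpa using this
  · obtain ⟨m, hm⟩ := h ψ
    refine mul_left_cancel₀ hc ?_
    rw [Dual.eval_apply, ← smul_eq_mul, ← LinearMap.smul_apply c ψ, hm, ← smul_eq_mul c (φ ψ),
      ← map_smul φ, hm]
    rfl

/-- Homomorphisms from a finite module into a finite reflexive module over a domain form a
reflexive module. -/
theorem isReflexive_hom [Module.Finite R M] [Module.Finite R N] [IsReflexive R N] :
    IsReflexive R (M →ₗ[R] N) := by
  classical
  refine ⟨⟨fun a b hab => LinearMap.ext fun m => (bijective_dual_eval R N).1 (LinearMap.ext fun η => ?_),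
    fun φ => ?_⟩⟩
  · have := LinearMap.congr_fun hab (η.comp (LinearMap.applyₗ m))
    simpa using this
  let A : M →ₗ[R] Dual R N →ₗ[R] Dual R (M →ₗ[R] N) :=
    { toFun := fun m => LinearMap.lcomp R R (LinearMap.applyₗ m)
      map_add' := fun a b => by ext η h; simp
      map_smul' := fun r a => by ext η h; simp }
  let f : M →ₗ[R] N := (evalEquiv R N).symm.toLinearMap.comp (A.compr₂ φ)
  have hf : ∀ m (η : Dual R N), η (f m) = φ (A m η) := fun m η => by
    simp only [f, LinearMap.comp_apply, LinearEquiv.coe_coe, apply_evalEquiv_symm_apply]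
    rfl
  obtain ⟨ι, hι, c, e, θ, hc, h⟩ := exists_coord R M
  obtain ⟨κ, hκ, d, g, η, hd, h'⟩ := exists_coord R N
  refine ⟨f, LinearMap.ext fun ψ => mul_left_cancel₀ (mul_ne_zero hc hd) ?_⟩
  have hψ : (c * d) • ψ = ∑ i, ∑ j, ψ ((θ i).smulRight (g j)) • A (e i) (η j) :=
    LinearMap.ext fun k => by
      have hk : (c * d) • k = ∑ i, ∑ j, η j (k (e i)) • (θ i).smulRight (g j) :=
        LinearMap.ext fun m => by
          rw [LinearMap.smul_apply, mul_comm, mul_smul, ← map_smul k, h, map_sum, Finset.smul_sum,
            LinearMap.sum_apply]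
          refine Finset.sum_congr rfl fun i _ => ?_
          rw [map_smul, smul_comm, h', Finset.smul_sum, LinearMap.sum_apply]
          refine Finset.sum_congr rfl fun j _ => ?_
          rw [LinearMap.smul_apply, LinearMap.smulRight_apply, smul_comm]
      rw [LinearMap.smul_apply, ← map_smul, hk, map_sum, LinearMap.sum_apply]
      refine Finset.sum_congr rfl fun i _ => ?_
      rw [map_sum, LinearMap.sum_apply]
      refine Finset.sum_congr rfl fun j _ => ?_
      rw [map_smul, LinearMap.smul_apply, smul_eq_mul, smul_eq_mul, mul_comm]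
      rfl
  change ((c * d) • ψ) f = (c * d) • φ ψ
  rw [← map_smul φ, hψ]
  simp only [map_sum, map_smul, LinearMap.sum_apply, LinearMap.smul_apply]
  refine Finset.sum_congr rfl fun i _ => Finset.sum_congr rfl fun j _ => ?_
  rw [show A (e i) (η j) f = η j (f (e i)) from rfl, hf]

/-- A module with injective evaluation into the bidual is torsion free. -/
theorem smul_eq_zero_imp (h : Function.Injective (Dual.eval R M)) {a : R} {m : M} (ha : a ≠ 0)
    (e : a • m = 0) : m = 0 := by
  refine h (LinearMap.ext fun θ => ?_)
  have := congrArg θ e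
  rw [map_smul, map_zero, smul_eq_mul] at this
  simpa using (mul_eq_zero.mp this).resolve_left ha

/-- Over a principal ideal domain the evaluation into the bidual of a finite module is surjective. -/
theorem eval_surjective_of_pid [IsPrincipalIdealRing R] [Module.Finite R M] :
    Function.Surjective (Dual.eval R M) := by
  intro φ
  let π := (Submodule.torsion R M).mkQ
  have hπ : Function.Surjective π.dualMap := fun θ => by
    refine ⟨(Submodule.torsion R M).liftQ θ fun m hm => ?_, LinearMap.ext fun m => rfl⟩
    obtain ⟨a, ha⟩ := Submodule.mem_torsion_iff _ |>.mp hm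
    rw [LinearMap.mem_ker]
    have := congrArg θ ha
    rw [Submonoid.smul_def, map_smul, map_zero, smul_eq_mul] at this
    exact (mul_eq_zero.mp this).resolve_left (nonZeroDivisors.ne_zero a.2)
  haveI : Module.Free R (M ⧸ Submodule.torsion R M) := Module.free_of_finite_type_torsion_free'
  obtain ⟨q, hq⟩ := (bijective_dual_eval R (M ⧸ Submodule.torsion R M)).2 (φ.comp π.dualMap)
  obtain ⟨m, rfl⟩ := Submodule.mkQ_surjective _ q
  refine ⟨m, LinearMap.ext fun θ => ?_⟩
  obtain ⟨θ', rfl⟩ := hπ θ
  exact LinearMap.congr_fun hq θ'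

end Groth.Agent.Lib.RefHull.DualAlg
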