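import Groth.Agent.Lib.RefHull.Tensor
import Groth.Agent.Lib.Cyc.C1
import Groth.Agent.Lib.TensorMod.Invertible

/-!
# Orders of rational sections of tensor products of invertible modules
-/

universe u

noncomputable section

open CategoryTheory AlgebraicGeometry TopologicalSpace Opposite

namespace Groth.Agent.Lib.RefHull.OrdInv

open Groth.Agent.Lib Generic RankOne Ord Tensor

variable {X : Scheme.{u}} [IsIntegral X] {F : X.Modules}

lemma smul_cancel {v : F.presheaf.stalk (genericPoint ↥X)} (hv : v ≠ 0) {a b : X.functionField}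
    (e : a • v = b • v) : a = b := by
  by_contra hne
  have h1 : (a - b) • v = 0 := by rw [sub_smul, e, sub_self]
  exact hv ((isUnit_iff_ne_zero.mpr (sub_ne_zero.mpr hne)).smul_eq_zero.mp h1)

theorem krullDimLE_locQuot (x : X) (hx : ringKrullDim (X.presheaf.stalk x) = 1) :
    Ring.KrullDimLE 1 (Cyc.LocQuot x (genericPoint ↥X) (spec x)) := by
  have hker := Cyc.C1.ker_specMap_genericPoint x (spec x)
  let e : X.presheaf.stalk x ≃+* Cyc.LocQuot x (genericPoint ↥X) (spec x) :=
    RingEquiv.ofBijective (Ideal.Quotient.mk _)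
      ⟨by rw [RingHom.injective_iff_ker_eq_bot, Ideal.mk_ker, hker], Ideal.Quotient.mk_surjective⟩
  rw [Ring.krullDimLE_iff, ← ringKrullDim_eq_of_ringEquiv e, hx]
  rfl

lemma residue_ne_zero {a : X.functionField} (ha : a ≠ 0) :
    X.residue (genericPoint ↥X) a ≠ 0 := fun h => ha
  (RingHom.injective (R := X.functionField) (X.residue (genericPoint ↥X)).hom (h.trans (map_zero _).symm))

variable [IsLocallyNoetherian X]

theorem ordAt_mul (x : X) (hx : ringKrullDim (X.presheaf.stalk x) = 1) {a b : X.functionField}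
    (ha : a ≠ 0) (hb : b ≠ 0) :
    Cyc.ordAt x (genericPoint ↥X) (spec x) (X.residue (genericPoint ↥X) (a * b)) =
      Cyc.ordAt x (genericPoint ↥X) (spec x) (X.residue (genericPoint ↥X) a) +
        Cyc.ordAt x (genericPoint ↥X) (spec x) (X.residue (genericPoint ↥X) b) := by
  haveI := krullDimLE_locQuot x hx
  rw [map_mul]
  exact Cyc.Ord.ordFrac_mul _ _ _ (residue_ne_zero ha) (residue_ne_zero hb)

theorem ordAt_of_isUnit (x : X) (hx : ringKrullDim (X.presheaf.stalk x) = 1)
    {a : X.presheaf.stalk x} (ha : IsUnit a) :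
    Cyc.ordAt x (genericPoint ↥X) (spec x)
      (X.residue (genericPoint ↥X) (algebraMap (X.presheaf.stalk x) X.functionField a)) = 0 := by
  haveI := krullDimLE_locQuot x hx
  have hu : IsUnit (Ideal.Quotient.mk (RingHom.ker (Cyc.specMap x (genericPoint ↥X) (spec x))) a) :=
    ha.map _
  refine (Cyc.Ord.ordFrac_algebraMap (Cyc.LocQuot x (genericPoint ↥X) (spec x))
    (K := X.residueField (genericPoint ↥X)) (a := Ideal.Quotient.mk _ a)
    (mem_nonZeroDivisors_of_ne_zero hu.ne_zero)).trans ?_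
  rw [Ring.ord_of_isUnit hu]
  rfl

theorem secOrd_eq' (x : X) (hx : ringKrullDim (X.presheaf.stalk x) = 1) {t : F.presheaf.stalk x}
    (ht : Submodule.span (X.presheaf.stalk x) {t} = ⊤) {v : F.presheaf.stalk (genericPoint ↥X)}
    (hv : v ≠ 0) {φ : X.functionField} (hφ : φ • toGen F x t = v) :
    secOrd F v x = Cyc.ordAt x (genericPoint ↥X) (spec x) (X.residue (genericPoint ↥X) φ) := by
  classical
  have hex : ∃ t : F.presheaf.stalk x, Submodule.span (X.presheaf.stalk x) {t} = ⊤ := ⟨t, ht⟩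
  rw [secOrd, Cyc.secOrdAt, dif_pos hex]
  set t' := Classical.choose hex
  obtain ⟨a, ha⟩ := Submodule.mem_span_singleton.mp
    (show t' ∈ Submodule.span (X.presheaf.stalk x) {t} by rw [ht]; trivial)
  obtain ⟨b, hb⟩ := Submodule.mem_span_singleton.mp
    (show t ∈ Submodule.span (X.presheaf.stalk x) {t'} by rw [Classical.choose_spec hex]; trivial)
  have hφ0 : φ ≠ 0 := fun h => hv (by rw [← hφ, h, zero_smul])
  have htg : toGen F x t ≠ 0 := fun h => hv (by rw [← hφ, h, smul_zero])
  have e' : toGen F x t' = algebraMap (X.presheaf.stalk x) X.functionField a • toGen F x t := by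
    rw [← ha, toGen_smul]
  have hab : b * a = 1 := by
    refine IsFractionRing.injective (X.presheaf.stalk x) X.functionField (smul_cancel htg ?_)
    rw [map_mul, map_one, one_smul, mul_smul, ← e', ← toGen_smul, hb]
  have hau : IsUnit a := IsUnit.of_mul_eq_one b (by rw [mul_comm]; exact hab)
  have ha0 := algebraMap_ne_zero (hau.ne_zero)
  have hex2 : ∃ ψ : X.presheaf.stalk (genericPoint ↥X),
      (Submodule.Quotient.mk v : Cyc.secFibre F (genericPoint ↥X)) =
      ψ • (Submodule.Quotient.mk (F.presheaf.stalkSpecializes (spec x) t') :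
        Cyc.secFibre F (genericPoint ↥X)) := by
    refine ⟨φ / algebraMap (X.presheaf.stalk x) X.functionField a, ?_⟩
    rw [← Submodule.Quotient.mk_smul]
    congr 1
    change v = _ • toGen F x t'
    rw [e', smul_smul, div_mul_cancel₀ _ ha0, hφ]
  rw [dif_pos hex2]
  set ψ := Classical.choose hex2
  have hψ : v = ψ • toGen F x t' := mk_injective (by
    rw [Submodule.Quotient.mk_smul]
    exact Classical.choose_spec hex2)
  have hψ' : ψ * algebraMap (X.presheaf.stalk x) X.functionField a = φ := smul_cancel htg (by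
    rw [mul_smul, ← e', ← hψ, hφ])
  have hψ0 : (ψ : X.functionField) ≠ 0 := fun h => hφ0 (by rw [← hψ', h, zero_mul])
  rw [← hψ', ordAt_mul x hx hψ0 ha0, ordAt_of_isUnit x hx hau, add_zero]

theorem genInvertible_of_isInvertible {L : X.Modules} (hL : PicF.IsInvertible L) :
    RefHull.GenInvertible L := by
  refine ⟨⊤, by simp, ?_⟩
  refine TensorMod.Gen.isInvertible_iff.mpr fun z => ?_
  obtain ⟨U, e, hzU, he⟩ := TensorMod.Gen.isInvertible_iff.mp hL z.1
  refine ⟨(⊤ : X.Opens).ι ⁻¹ᵁ U, (L.restrictAppIso (⊤ : X.Opens).ι _).inv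
    (TensorMod.Dual.rs L (Scheme.Hom.image_preimage_le _ U) e), hzU, fun V hV => ?_⟩
  have hV' : (⊤ : X.Opens).ι ''ᵁ V ≤ U :=
    (Scheme.Hom.image_mono _ hV).trans (Scheme.Hom.image_preimage_le _ U)
  have key : (fun a : Γ(((⊤ : X.Opens) : Scheme.{u}), V) => (L.restrictAppIso (⊤ : X.Opens).ι V).hom
      (a • TensorMod.Dual.rs (L.restrict (⊤ : X.Opens).ι) hV ((L.restrictAppIso (⊤ : X.Opens).ι _).inv
        (TensorMod.Dual.rs L (Scheme.Hom.image_preimage_le _ U) e)))) =
      (fun a : Γ(X, (⊤ : X.Opens).ι ''ᵁ V) => a • TensorMod.Dual.rs L hV' e) ∘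
        ((⊤ : X.Opens).ι.appIso V).inv := by
    funext a
    rw [Function.comp_apply, TensorMod.Gen.restrict_smul]
    congr 1
    exact TensorMod.Dual.rs_rs L (Scheme.Hom.image_preimage_le _ U) (Scheme.Hom.image_mono _ hV) e
  have hb := ((he _ hV').comp (ConcreteCategory.bijective_of_isIso ((⊤ : X.Opens).ι.appIso V).inv))
  rw [← key] at hb
  exact (Function.Bijective.of_comp_iff' (ConcreteCategory.bijective_of_isIso
    (L.restrictAppIso (⊤ : X.Opens).ι V).hom) _).mp hb

theorem tensor_ord {L N : X.Modules} (hL : PicF.IsInvertible L) (hN : PicF.IsInvertible N)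
    {s : L.presheaf.stalk (genericPoint ↥X)} (hs : s ≠ 0)
    {t : N.presheaf.stalk (genericPoint ↥X)} (ht : t ≠ 0) :
    pair (genericPoint ↥X) s t ≠ 0 ∧ ∀ x : X, ringKrullDim (X.presheaf.stalk x) = 1 →
      secOrd (CohB1.tensorMod L N) (pair (genericPoint ↥X) s t) x = secOrd L s x + secOrd N t x := by
  have gL := genInvertible_of_isInvertible hL
  have gN := genInvertible_of_isInvertible hN
  refine ⟨pair_ne_zero gL gN hs ht, fun x hx => ?_⟩
  obtain ⟨a, ha⟩ := Cyc.C1.exists_stalk_gen hL x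
  obtain ⟨b, hb⟩ := Cyc.C1.exists_stalk_gen hN x
  have key : ∀ {H : X.Modules} [H.IsQuasicoherent] {g : H.presheaf.stalk x}
      (_ : Submodule.span (X.presheaf.stalk x) {g} = ⊤) (v : H.presheaf.stalk (genericPoint ↥X)),
      ∃ φ : X.functionField, φ • toGen H x g = v := by
    intro H _ g hg v
    obtain ⟨c, w, hc, hcw⟩ := exists_frac x v
    obtain ⟨r, rfl⟩ := Submodule.mem_span_singleton.mp
      (show w ∈ Submodule.span (X.presheaf.stalk x) {g} by rw [hg]; trivial)
    have hc0 := algebraMap_ne_zero hc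
    refine ⟨algebraMap (X.presheaf.stalk x) X.functionField r /
      algebraMap (X.presheaf.stalk x) X.functionField c, ?_⟩
    rw [toGen_smul] at hcw
    rw [div_eq_inv_mul, mul_smul, ← hcw, smul_smul, inv_mul_cancel₀ hc0, one_smul]
  haveI := TensorMod.QCohInv.isQCoh_of_isInvertible hL
  haveI := TensorMod.QCohInv.isQCoh_of_isInvertible hN
  obtain ⟨φ, hφ⟩ := key ha s
  obtain ⟨ψ, hψ⟩ := key hb t
  have hφ0 : φ ≠ 0 := fun h => hs (by rw [← hφ, h, zero_smul])
  have hψ0 : ψ ≠ 0 := fun h => ht (by rw [← hψ, h, zero_smul])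
  rw [secOrd_eq' x hx ha hs hφ, secOrd_eq' x hx hb ht hψ,
    secOrd_eq' x hx (span_pair ha hb) (pair_ne_zero gL gN hs ht) (φ := φ * ψ) ?_, ordAt_mul x hx hφ0 hψ0]
  rw [toGen_pair, ← hφ, ← hψ]
  simp only [map_smul, LinearMap.smul_apply, smul_smul]
  rw [mul_comm]

end Groth.Agent.Lib.RefHull.OrdInv
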