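import Groth.Agent.Lib.RefHull.PowColim
import Mathlib.AlgebraicGeometry.Morphisms.Affine

/-!
# When the inclusion of the locus where a section generates is affine
-/

universe u

noncomputable section

open CategoryTheory AlgebraicGeometry TopologicalSpace Opposite

namespace Groth.Agent.Lib.RefHull.PowAffine

open Groth.Agent.Lib Groth.Agent.Lib.TensorMod Groth.Agent.Lib.TensorMod.Dual SecHom Generic Pow PowColim

variable {X : Scheme.{u}} (U : X.Opens)

/-- Restriction of functions to `W U V`. -/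
abbrev res (V : X.Opens) (f : Γ(X, V)) : Γ(X, W U V) := X.presheaf.map (homOfLE (W_le U V)).op f

lemma germ_smul_P {V : X.Opens} {x : X} (hx : x ∈ V) (f : Γ(X, V)) (c : Γ(X, W U V)) :
    X.presheaf.germ V x hx f • (P U).presheaf.germ V x hx (show Γ(P U, V) from c) =
      (P U).presheaf.germ V x hx (show Γ(P U, V) from res U V f * c) :=
  ((Mero.germ_smul (P U) V x hx f _).symm).trans (congrArg _ (smul_P U V f _))

lemma un_oneGerm {V : X.Opens} {x : X} (hx : x ∈ V) :
    RefHull.stalkMapₗ (un U) x (oneGerm x) =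
      (P U).presheaf.germ V x hx (show Γ(P U, V) from (1 : Γ(X, W U V))) := by
  have e : oneGerm x = (Coh.structureModule X).presheaf.germ V x hx (Gen.one X V) := by
    rw [oneGerm, sGerm, ← germ_rs (le_top : V ≤ ⊤) hx]
    exact congrArg _ (Gen.rs_app_one (𝟙 _) le_top)
  rw [e, RefHull.stalkMapₗ_germ]
  exact congrArg _ (map_one (X.presheaf.map (homOfLE (W_le U V)).op).hom)

lemma basicOpen_res_le (V : X.Opens) (f : Γ(X, V)) (hf : X.basicOpen f ≤ U) :
    X.basicOpen (res U V f) = X.basicOpen f := by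
  rw [Scheme.basicOpen_res]
  exact inf_eq_right.mpr fun x hx => (mem_W U).mpr ⟨hf hx, X.basicOpen_le f hx⟩

variable {U} {F : X.Modules} (s : Coh.structureModule X ⟶ F) [IsIntegral X] [IsLocallyNoetherian X]
variable (hX : Pi1.IsNormalScheme X) (hF : RefHull.IsRef1 F) (hU : (U : Set X) = RefPow.isoLocus s)

/-- The predicate `1 ∈ m_x`-combination of powers. -/
def Reach (x : X) (v : (P U).presheaf.stalk x) (n : ℕ) : Prop :=
  ∃ w ∈ IsLocalRing.maximalIdeal (X.presheaf.stalk x) •
      (⊤ : Submodule (X.presheaf.stalk x) ((RefPow.refPow F n).presheaf.stalk x)),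
    RefHull.stalkMapₗ (leg s hX hF hU n) x w = v

include hX hF in
lemma Reach.mono {x : X} {v : (P U).presheaf.stalk x} {n m : ℕ} (h : n ≤ m)
    (hv : Reach s hX hF hU x v n) : Reach s hX hF hU x v m := by
  induction h with
  | refl => exact hv
  | @step m _ ih =>
    obtain ⟨w, hw, e⟩ := ih
    refine ⟨RefHull.stalkMapₗ (RefPow.mulBy s m) x w, ?_, (leg_mulBy s hX hF hU m x w).trans e⟩
    refine Submodule.smul_induction_on hw (fun r hr a _ => ?_) fun a b ha hb => ?_
    · rw [map_smul]; exact Submodule.smul_mem_smul hr trivial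
    · rw [map_add]; exact add_mem ha hb

include hX hF hU in
theorem exists_pow_mem (haff : IsAffineHom U.ι) (x : X) (hx : x ∉ U) :
    ∃ n : ℕ, 0 < n ∧ RefPow.sPowGerm s n x ∈ IsLocalRing.maximalIdeal (X.presheaf.stalk x) •
      (⊤ : Submodule (X.presheaf.stalk x) ((RefPow.refPow F n).presheaf.stalk x)) := by
  obtain ⟨V, hV, hxV, -⟩ := exists_isAffineOpen_mem_and_subset (X := X) (x := x) (Opens.mem_top x)
  have hW : IsAffineOpen (W U V) := (hV.preimage U.ι).image_of_isOpenImmersion U.ι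
  set J : Ideal Γ(X, W U V) := Ideal.span (res U V '' {f | X.basicOpen f ≤ U})
  have hJ : J = ⊤ := by
    by_contra hne
    obtain ⟨q, hq, hJq⟩ := Ideal.exists_le_maximal J hne
    obtain ⟨z, hz, hzq⟩ := AssPt.Basic.exists_point_of_prime hW q
    obtain ⟨f, hfW, hzf⟩ := hV.exists_basicOpen_le (V := W U V) ⟨z, hz⟩ ((mem_W U).mp hz).2
    have hfU : X.basicOpen f ≤ U := fun y hy => ((mem_W U).mp (hfW hy)).1
    have hmem : res U V f ∈ q := hJq (Ideal.subset_span ⟨f, hfU, rfl⟩)
    have h1 : hW.fromSpec (hW.primeIdealOf ⟨z, hz⟩) ∈ X.basicOpen (res U V f) := by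
      rw [hW.fromSpec_primeIdealOf, basicOpen_res_le U V f hfU]
      exact hzf
    have h2 : hW.primeIdealOf ⟨z, hz⟩ ∈ hW.fromSpec ⁻¹ᵁ X.basicOpen (res U V f) := h1
    rw [hW.fromSpec_preimage_basicOpen] at h2
    exact (PrimeSpectrum.mem_basicOpen _ _).mp h2 (by rw [hzq]; exact hmem)
  let g : Γ(X, W U V) → (P U).presheaf.stalk x := fun c =>
    (P U).presheaf.germ V x hxV (show Γ(P U, V) from c)
  have key : ∀ c ∈ J, ∀ r, ∃ n, Reach s hX hF hU x (g (r * c)) n := fun c hc => by
    induction hc using Submodule.span_induction with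
    | mem c hc =>
      obtain ⟨f, hf, rfl⟩ := hc
      intro r
      obtain ⟨n, w, hw⟩ := exists_leg_eq s hX hF hU x (g r)
      refine ⟨n, X.presheaf.germ V x hxV f • w, Submodule.smul_mem_smul ?_ trivial, ?_⟩
      · rw [IsLocalRing.mem_maximalIdeal, mem_nonunits_iff, ← X.mem_basicOpen f x hxV]
        exact fun h => hx (hf h)
      · rw [map_smul, hw]
        exact (germ_smul_P U hxV f r).trans (by rw [mul_comm])
    | zero =>
      intro r
      refine ⟨0, 0, zero_mem _, ?_⟩
      rw [map_zero, mul_zero]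
      exact (map_zero _).symm
    | add a b _ _ ha hb =>
      intro r
      obtain ⟨n, hn⟩ := ha r
      obtain ⟨m, hm⟩ := hb r
      obtain ⟨w, hw, e⟩ := hn.mono s hX hF hU (le_max_left n m)
      obtain ⟨w', hw', e'⟩ := hm.mono s hX hF hU (le_max_right n m)
      refine ⟨max n m, w + w', add_mem hw hw', ?_⟩
      rw [map_add, e, e', mul_add]
      exact (map_add ((P U).presheaf.germ V x hxV).hom _ _).symm
    | smul a c _ hc =>
      intro r
      rw [smul_eq_mul, ← mul_assoc]
      exact hc (r * a)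
  obtain ⟨n, hn⟩ := key 1 (by rw [hJ]; trivial) 1
  obtain ⟨w, hw, e⟩ := hn.mono s hX hF hU n.le_succ
  refine ⟨n + 2, by omega, ?_⟩
  have e0 : RefHull.stalkMapₗ (leg s hX hF hU (n + 1)) x (RefPow.sPowGerm s (n + 1) x - w) = 0 := by
    rw [map_sub, leg_sPowGerm, un_oneGerm U hxV, e, one_mul]
    exact sub_self _
  have e1 := exists_map_eq_zero s hX hF hU x (n + 1) _ e0
  rw [map_sub, stalkMap_mulBy, sub_eq_zero] at e1
  rw [e1]
  refine Submodule.smul_induction_on hw (fun r hr a _ => ?_) fun a b ha hb => ?_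
  · rw [map_smul]; exact Submodule.smul_mem_smul hr trivial
  · rw [map_add]; exact add_mem ha hb

include hX hF hU in
theorem isAffineHom (h : ∀ x : X, x ∉ U → ∃ n : ℕ, 0 < n ∧
    RefPow.sPowGerm s n x ∈ IsLocalRing.maximalIdeal (X.presheaf.stalk x) •
      (⊤ : Submodule (X.presheaf.stalk x) ((RefPow.refPow F n).presheaf.stalk x))) :
    IsAffineHom U.ι := by
  refine ⟨fun V hV => U.ι.isAffineOpen_iff_of_isOpenImmersion.mp ?_⟩
  refine isAffineOpen_of_isAffineOpen_basicOpen (W U V) (res U V '' {f | X.basicOpen f ≤ U}) ?_ ?_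
  swap
  · rintro _ ⟨f, hf, rfl⟩
    rw [basicOpen_res_le U V f hf]
    exact hV.basicOpen f
  by_contra hne
  obtain ⟨q, hq, hJq⟩ := Ideal.exists_le_maximal _ hne
  have hη : genericPoint ↥X ∈ U := by
    obtain ⟨z, hz⟩ : Nonempty (W U V) := by
      by_contra hemp
      haveI : Subsingleton Γ(X, W U V) := by
        rw [show W U V = ⊥ from le_bot_iff.mp fun y hy => hemp ⟨⟨y, hy⟩⟩]; infer_instance
      exact hq.ne_top ((Ideal.eq_top_iff_one q).mpr (by rw [Subsingleton.elim (1 : Γ(X, W U V)) 0]; exact zero_mem q))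
    exact (Generic.spec z).mem_open U.isOpen ((mem_W U).mp hz).1
  haveI := hq.isPrime
  obtain ⟨x, hxV, hxp⟩ := AssPt.Basic.exists_point_of_prime hV
    (q.comap (X.presheaf.map (homOfLE (W_le U V)).op).hom)
  have hbas : ∀ g, x ∈ X.basicOpen g ↔ res U V g ∉ q := fun g => by
    have e : x ∈ X.basicOpen g ↔ hV.primeIdealOf ⟨x, hxV⟩ ∈ hV.fromSpec ⁻¹ᵁ X.basicOpen g := by
      show _ ↔ hV.fromSpec _ ∈ X.basicOpen g
      rw [hV.fromSpec_primeIdealOf]
    rw [hV.fromSpec_preimage_basicOpen] at e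
    refine e.trans ((PrimeSpectrum.mem_basicOpen _ _).trans ?_)
    rw [hxp]
    rfl
  have hxU : x ∉ U := fun hx => by
    obtain ⟨f, hf, hxf⟩ := hV.exists_basicOpen_le (V := W U V) ⟨x, (mem_W U).mpr ⟨hx, hxV⟩⟩ hxV
    exact (hbas f).mp hxf (hJq (Ideal.subset_span ⟨f, fun y hy => ((mem_W U).mp (hf hy)).1, rfl⟩))
  obtain ⟨n, -, hn⟩ := h x hxU
  haveI := (pow_isCoh n).1
  let gP : Γ(X, W U V) → (P U).presheaf.stalk x := fun c =>
    (P U).presheaf.germ V x hxV (show Γ(P U, V) from c)
  let Q : (RefPow.refPow F n).presheaf.stalk x → Prop := fun v => ∃ g : Γ(X, V), x ∈ X.basicOpen g ∧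
    ∃ c ∈ q, X.presheaf.germ V x hxV g • RefHull.stalkMapₗ (leg s hX hF hU n) x v = gP c
  have hQ : Q (RefPow.sPowGerm s n x) := by
    refine Submodule.smul_induction_on (p := Q) hn (fun a ha v _ => ?_) fun a b ha hb => ?_
    · obtain ⟨g, t, hg, e⟩ := StalkLoc.Basic.exists_smul_eq_germ hV hxV v
      letI := TopCat.Presheaf.algebra_section_stalk X.presheaf (⟨x, hxV⟩ : V)
      haveI := hV.isLocalization_stalk ⟨x, hxV⟩
      obtain ⟨⟨r, d⟩, hd⟩ := IsLocalization.surj (hV.primeIdealOf ⟨x, hxV⟩).asIdeal.primeCompl a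
      have hdu := IsLocalization.map_units (X.presheaf.stalk x) d
      have hd' : X.presheaf.germ V x hxV d.1 * a = X.presheaf.germ V x hxV r := (mul_comm _ _).trans hd
      refine ⟨d.1 * g, ?_, res U V r * (show Γ(X, W U V) from (leg s hX hF hU n).app V t),
        q.mul_mem_right _ ?_, ?_⟩
      · rw [X.basicOpen_mul]
        exact Opens.mem_inf.mpr ⟨(X.mem_basicOpen d.1 x hxV).mpr hdu, hg⟩
      · by_contra hr
        have hru := (X.mem_basicOpen r x hxV).mp ((hbas r).mpr hr)
        rw [← hd'] at hru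
        exact (IsLocalRing.mem_maximalIdeal _).mp ha (isUnit_of_mul_isUnit_right hru)
      · rw [map_mul, ← map_smul, mul_smul, smul_comm _ a v, smul_smul, hd', map_smul, e,
          RefHull.stalkMapₗ_germ]
        exact germ_smul_P U hxV r _
    · obtain ⟨g, hg, c, hc, e⟩ := ha
      obtain ⟨g', hg', c', hc', e'⟩ := hb
      refine ⟨g * g', ?_, res U V g' * c + res U V g * c',
        add_mem (q.mul_mem_left _ hc) (q.mul_mem_left _ hc'), ?_⟩
      · rw [X.basicOpen_mul]; exact Opens.mem_inf.mpr ⟨hg, hg'⟩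
      · rw [map_mul, map_add, smul_add, mul_smul, mul_smul, e',
          smul_comm (X.presheaf.germ V x hxV g), e]
        refine (congrArg₂ (· + ·) (germ_smul_P U hxV g' c) (germ_smul_P U hxV g c')).trans ?_
        exact (map_add ((P U).presheaf.germ V x hxV).hom _ _).symm
  obtain ⟨g, hg, c, hc, e⟩ := hQ
  rw [leg_sPowGerm, un_oneGerm U hxV] at e
  have e' := germ_injective U hxV hη ((germ_smul_P U hxV g 1).symm.trans e)
  have e'' : res U V g * 1 = c := e'
  rw [mul_one] at e''
  exact (hbas g).mp hg (e''.symm ▸ hc)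
where
  pow_isCoh (n : ℕ) : Coh.IsCoh (RefPow.refPow F n) := by
    induction n with
    | zero => exact Reflexive.isCoh_structure
    | succ n ih => match n with
      | 0 => exact hF.1
      | n + 1 => exact Reflexive.isCoh_ddual (Tensor.isCoh_tensorMod ih hF.1)

end Groth.Agent.Lib.RefHull.PowAffine
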