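import Groth.Agent.Lib.RefHull.PushU
import Groth.Agent.Lib.RefHull.ReflRestrict

/-!
# Modules equal to the direct image of their restriction to a big open
-/

universe u

noncomputable section

open CategoryTheory AlgebraicGeometry TopologicalSpace Opposite

namespace Groth.Agent.Lib.RefHull.PushRefl

open Groth.Agent.Lib Generic PushU

variable {X : Scheme.{u}} [IsIntegral X] [IsLocallyNoetherian X] {M : X.Modules}

/-- A module equal to the direct image of its restriction to an open where it is reflexive is
reflexive, if the reflexive hull is. -/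
theorem isReflexive_of_isIso_unit (U : X.Opens) (hM : Coh.IsCoh M) (hu : IsIso (un U M))
    (hr : ∀ y ∈ U, RefHull.IsReflexiveAt M y)
    (hdd : IsIso (un U (RefHull.ddual M))) : ∀ x, RefHull.IsReflexiveAt M x := by
  haveI := hu
  haveI := hdd
  haveI : IsIso ((Scheme.Modules.restrictFunctor U.ι).map (RefHull.bidualMap M)) :=
    TensorMod.LocIso.isIso_restrict_of_isIso_app fun V hV =>
      (ConcreteCategory.isIso_iff_bijective _).mpr (PowColim.bijective_app _ V fun y hy =>
        (Reflexive.bijective_stalkMap_bidual_iff hM y).mpr (hr y (hV hy)))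
  have hnat := (Scheme.Modules.restrictAdjunction U.ι).unit.naturality (RefHull.bidualMap M)
  haveI : IsIso (RefHull.bidualMap M) := by
    have e : RefHull.bidualMap M = un U M ≫ (Scheme.Modules.pushforward U.ι).map
        ((Scheme.Modules.restrictFunctor U.ι).map (RefHull.bidualMap M)) ≫ inv (un U (RefHull.ddual M)) := by
      rw [← Category.assoc, IsIso.eq_comp_inv]
      exact hnat
    rw [e]
    infer_instance
  exact fun x => (Reflexive.bijective_stalkMap_bidual_iff hM x).mp
    ((Modules.StalkModule.isIso_iff_stalkMapₗ_bijective _).mp inferInstance x)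

theorem isReflexiveAt_ddual (hM : Coh.IsCoh M) (x : X) : RefHull.IsReflexiveAt (RefHull.ddual M) x :=
  (Reflexive.isReflexive_iff_forall (Reflexive.isCoh_ddual hM)).mp
    (Reflexive.isReflexive_dual (Reflexive.isCoh_dual hM)) x

end Groth.Agent.Lib.RefHull.PushRefl
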