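import Groth.Agent.Lib.RefHull.Generic
import Groth.Agent.Lib.RefHull.Open
import Groth.Agent.Lib.TensorMod.Gen

/-!
# Rank one reflexive modules
-/

universe u

noncomputable section

open CategoryTheory AlgebraicGeometry TopologicalSpace Opposite

namespace Groth.Agent.Lib.RefHull.RankOne

open Groth.Agent.Lib Groth.Agent.Lib.TensorMod Groth.Agent.Lib.TensorMod.Dual SecHom Generic

variable {X : Scheme.{u}} {F G : X.Modules}

lemma toGen_spec [IsIntegral X] {x y : X} (h : y ⤳ x) (v : F.presheaf.stalk x) :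
    toGen F y ((F.presheaf.stalkSpecializes h).hom v) = toGen F x v := by
  obtain ⟨U, hxU, s, rfl⟩ := TopCat.Presheaf.exists_germ_eq F.presheaf v
  erw [TopCat.Presheaf.germ_stalkSpecializes_apply F.presheaf hxU h]
  rw [toGen_germ, toGen_germ]

/-- A generator on an open inside `U` of the restriction is a generator. -/
theorem isGen_of_restrict {U : X.Opens} {W : (U : Scheme.{u}).Opens} (e : Γ(F.restrict U.ι, W))
    (he : Gen.IsGen (F.restrict U.ι) W e) :
    Gen.IsGen F (U.ι ''ᵁ W) ((F.restrictAppIso U.ι W).hom e) := by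
  intro V hV
  obtain ⟨V', rfl⟩ : ∃ V' : (U : Scheme.{u}).Opens, U.ι ''ᵁ V' = V :=
    ⟨U.ι ⁻¹ᵁ V, by
      rw [Scheme.Hom.image_preimage_eq_opensRange_inf, Scheme.Opens.opensRange_ι]
      exact inf_eq_right.2 (hV.trans (U.ι_image_le W))⟩
  have hV' : V' ≤ W := fun v hv => by
    obtain ⟨w, hw, e'⟩ := hV (show U.ι v ∈ U.ι ''ᵁ V' from ⟨v, hv, rfl⟩)
    rwa [← U.ι.isOpenEmbedding.injective e']
  have key : rs F hV ((F.restrictAppIso U.ι W).hom e) =
      (F.restrictAppIso U.ι V').hom (rs (F.restrict U.ι) hV' e) := rfl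
  have h : (fun a : Γ(X, U.ι ''ᵁ V') => a • rs F hV ((F.restrictAppIso U.ι W).hom e)) ∘
      (U.ι.appIso V').inv =
      ((F.restrictAppIso U.ι V').hom ∘ fun a : Γ((U : Scheme.{u}), V') => a • rs (F.restrict U.ι) hV' e :) := by
    funext a
    rw [Function.comp_apply, Function.comp_apply, key, ← Gen.restrict_smul]
  refine (Function.Bijective.of_comp_iff _
    (ConcreteCategory.bijective_of_isIso (U.ι.appIso V').inv)).1 ?_
  rw [h]
  exact (ConcreteCategory.bijective_of_isIso (F.restrictAppIso U.ι V').hom).comp (he V' hV')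

variable [IsIntegral X]

/-- Near the generic point a generically invertible module has a free generator. -/
theorem exists_isGen (h : RefHull.GenInvertible F) :
    ∃ (W : X.Opens) (e : Γ(F, W)), genericPoint ↥X ∈ W ∧ Gen.IsGen F W e := by
  obtain ⟨U, hd, hinv⟩ := h
  have hη : genericPoint ↥X ∈ U :=
    ((genericPoint_spec ↥X).mem_open_set_iff U.isOpen).mpr (by simpa using hd.nonempty)
  obtain ⟨W, e, hW, he⟩ := Gen.isInvertible_iff.mp hinv ⟨_, hη⟩
  exact ⟨U.ι ''ᵁ W, _, ⟨⟨_, hη⟩, hW, rfl⟩, isGen_of_restrict e he⟩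

/-- The generic stalk of a generically invertible module is a line. -/
theorem exists_basis_generic (h : RefHull.GenInvertible F) :
    ∃ t : F.presheaf.stalk (genericPoint ↥X), t ≠ 0 ∧
      ∀ w, ∃ a : X.functionField, a • t = w := by
  obtain ⟨W, e, hW, he⟩ := exists_isGen h
  refine ⟨F.presheaf.germ W _ hW e, fun h0 => ?_, fun w => ?_⟩
  · obtain ⟨V, hV, i, j, hij⟩ := TopCat.Presheaf.germ_eq F.presheaf _ hW hW e 0 (by rw [h0, map_zero])
    have h1 : (1 : Γ(X, V)) • rs F i.le e = (0 : Γ(X, V)) • rs F i.le e := by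
      rw [one_smul, zero_smul]
      exact hij.trans (map_zero _)
    have h2 := congrArg (X.presheaf.germ V _ hV) ((he V i.le).1 h1)
    rw [map_one, map_zero] at h2
    exact one_ne_zero h2
  · obtain ⟨V, hV, m, rfl⟩ := TopCat.Presheaf.exists_germ_eq F.presheaf w
    obtain ⟨a, ha⟩ := (he (V ⊓ W) inf_le_right).2 (rs F inf_le_left m)
    refine ⟨X.presheaf.germ (V ⊓ W) _ ⟨hV, hW⟩ a, ?_⟩
    rw [← germ_rs (inf_le_right : V ⊓ W ≤ W) (show genericPoint ↥X ∈ V ⊓ W from ⟨hV, hW⟩) e]
    refine (Mero.germ_smul F (V ⊓ W) _ ⟨hV, hW⟩ a _).symm.trans ?_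
    exact (congrArg (F.presheaf.germ (V ⊓ W) _ ⟨hV, hW⟩) ha).trans (germ_rs _ _ m)

/-- A nonzero element spans the generic stalk. -/
theorem span_of_ne_zero (h : RefHull.GenInvertible F) {s : F.presheaf.stalk (genericPoint ↥X)}
    (hs : s ≠ 0) (w : F.presheaf.stalk (genericPoint ↥X)) : ∃ a : X.functionField, a • s = w := by
  obtain ⟨t, ht0, ht⟩ := exists_basis_generic h
  obtain ⟨a, ha⟩ := ht w
  obtain ⟨c, hc⟩ := ht s
  have hc0 : c ≠ 0 := fun e => hs (by rw [← hc, e, zero_smul])
  exact ⟨a / c, by rw [← hc, smul_smul, div_mul_cancel₀ _ hc0, ha]⟩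

theorem smul_left_injective' (_h : RefHull.GenInvertible F) {s : F.presheaf.stalk (genericPoint ↥X)}
    (hs : s ≠ 0) {a b : X.functionField} (e : a • s = b • s) : a = b := by
  by_contra hne
  have h1 : (a - b) • s = 0 := by rw [sub_smul, e, sub_self]
  exact hs ((isUnit_iff_ne_zero.mpr (sub_ne_zero.mpr hne)).smul_eq_zero.mp h1)

/-- Every point where a section fails to generate generizes to a codimension one such point. -/
theorem dim_eq_one_of_maximal [IsLocallyNoetherian X] (hX : Pi1.IsNormalScheme X)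
    (hF : RefHull.IsRef1 F) (s : Γ(F, ⊤)) (hs : s ≠ 0) (z : X)
    (hz : ¬ Function.Bijective fun a : X.presheaf.stalk z => a • F.presheaf.germ ⊤ z trivial s)
    (hmax : ∀ y : X,
      ¬ Function.Bijective (fun a : X.presheaf.stalk y => a • F.presheaf.germ ⊤ y trivial s) →
        y ⤳ z → y = z) :
    ringKrullDim (X.presheaf.stalk z) = 1 := by
  by_contra hne
  obtain ⟨hc, hr, hg⟩ := hF
  haveI := hc.1
  have hinj := toGen_injective_of_isReflexive hc hr
  set sη := F.presheaf.germ ⊤ (genericPoint ↥X) trivial s with hsη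
  have hsy : ∀ y : X, toGen F y (F.presheaf.germ ⊤ y trivial s) = sη := fun y => toGen_germ _ s
  have hs0 : sη ≠ 0 := fun h0 => hs (sec_ext fun y hy => by
    rw [map_zero]; exact hinj y ((hsy y).trans (h0.trans (map_zero _).symm)))
  refine hz ⟨fun a b hab => ?_, fun v => ?_⟩
  · have e := congrArg (toGen F z) hab
    simp only [toGen_smul, hsy] at e
    exact IsFractionRing.injective (X.presheaf.stalk z) X.functionField
      (smul_left_injective' hg hs0 e)
  · obtain ⟨c, hc'⟩ := span_of_ne_zero hg hs0 (toGen F z v)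
    obtain ⟨a, ha⟩ := mem_range_of_codim_one hX z c fun y hy hy1 => by
      have hby : Function.Bijective fun a : X.presheaf.stalk y => a • F.presheaf.germ ⊤ y trivial s := by
        by_contra hcon
        obtain rfl := hmax y hcon hy
        exact hne hy1
      obtain ⟨a, ha⟩ := hby.2 ((F.presheaf.stalkSpecializes hy).hom v)
      refine ⟨a, smul_left_injective' hg hs0 ?_⟩
      have e := congrArg (toGen F y) ha
      simp only [toGen_smul, hsy, toGen_spec] at e
      rw [e, hc']
    refine ⟨a, hinj z ?_⟩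
    simp only [toGen_smul, hsy, ha, hc']

end Groth.Agent.Lib.RefHull.RankOne
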